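import Groth.Agent.HTopHyper.HTor.TorFlat

/-!
Balancing of Tor.
-/

set_option autoImplicit false
set_option backward.isDefEq.respectTransparency false

universe u

open CategoryTheory CategoryTheory.Limits MonoidalCategory
open scoped TensorProduct

namespace Groth.HTorLib

variable {A : Type u} [CommRing A]

section Snake

variable {M M₁ F N N₁ Q : Type u} [AddCommGroup M] [Module A M] [AddCommGroup M₁] [Module A M₁]
  [AddCommGroup F] [Module A F] [Module.Flat A F] [AddCommGroup N] [Module A N] [AddCommGroup N₁]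
  [Module A N₁] [AddCommGroup Q] [Module A Q] [Module.Flat A Q]
  {v : M₁ →ₗ[A] F} {ρ : F →ₗ[A] M} {u : N₁ →ₗ[A] Q} {π : Q →ₗ[A] N}

/-- pairs over the middle of the diagram -/
noncomputable abbrev snakeW (v : M₁ →ₗ[A] F) (u : N₁ →ₗ[A] Q) :
    Submodule A ((F ⊗[A] N₁) × (M₁ ⊗[A] Q)) :=
  LinearMap.ker ((u.lTensor F).coprod (-(v.rTensor Q)))

omit [Module.Flat A F] [Module.Flat A Q] in
lemma mem_snakeW {x : (F ⊗[A] N₁) × (M₁ ⊗[A] Q)} :
    x ∈ snakeW v u ↔ u.lTensor F x.1 = v.rTensor Q x.2 := by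
  rw [LinearMap.mem_ker, LinearMap.coprod_apply, LinearMap.neg_apply, ← sub_eq_add_neg, sub_eq_zero]

theorem snake (hv : Function.Injective v) (hρ : Function.Surjective ρ) (hvρ : Function.Exact v ρ)
    (hu : Function.Injective u) (hπ : Function.Surjective π) (huπ : Function.Exact u π) :
    Nonempty (LinearMap.ker (u.lTensor M) ≃ₗ[A] LinearMap.ker (v.rTensor N)) := by
  have hvQ : Function.Injective (v.rTensor Q) :=
    Module.Flat.rTensor_preserves_injective_linearMap v hv
  have huF : Function.Injective (u.lTensor F) :=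
    Module.Flat.lTensor_preserves_injective_linearMap u hu
  have c₁ : ∀ b, u.lTensor M (ρ.rTensor N₁ b) = ρ.rTensor Q (u.lTensor F b) := fun b => by
    rw [← LinearMap.comp_apply, LinearMap.lTensor_comp_rTensor, ← LinearMap.rTensor_comp_lTensor,
      LinearMap.comp_apply]
  have c₂ : ∀ c, v.rTensor N (π.lTensor M₁ c) = π.lTensor F (v.rTensor Q c) := fun c => by
    rw [← LinearMap.comp_apply, LinearMap.rTensor_comp_lTensor, ← LinearMap.lTensor_comp_rTensor,
      LinearMap.comp_apply]
  have c₃ : ∀ a, v.rTensor Q (u.lTensor M₁ a) = u.lTensor F (v.rTensor N₁ a) := fun a => by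
    rw [← LinearMap.comp_apply, LinearMap.rTensor_comp_lTensor, ← LinearMap.lTensor_comp_rTensor,
      LinearMap.comp_apply]
  let g₁ : snakeW v u →ₗ[A] LinearMap.ker (u.lTensor M) :=
    LinearMap.codRestrict _ ((ρ.rTensor N₁).comp ((LinearMap.fst A _ _).comp (snakeW v u).subtype))
      fun x => by
        rw [LinearMap.mem_ker]
        refine (c₁ x.1.1).trans ?_
        rw [mem_snakeW.1 x.2]
        exact (rTensor_exact Q hvρ hρ).apply_apply_eq_zero _
  let g₂ : snakeW v u →ₗ[A] LinearMap.ker (v.rTensor N) :=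
    LinearMap.codRestrict _ ((π.lTensor M₁).comp ((LinearMap.snd A _ _).comp (snakeW v u).subtype))
      fun x => by
        rw [LinearMap.mem_ker]
        refine (c₂ x.1.2).trans ?_
        rw [← mem_snakeW.1 x.2]
        exact (lTensor_exact F huπ hπ).apply_apply_eq_zero _
  have h₁ : Function.Surjective g₁ := fun a => by
    obtain ⟨b, hb⟩ := LinearMap.rTensor_surjective N₁ hρ a.1
    obtain ⟨c, hc⟩ := (rTensor_exact Q hvρ hρ _).1 ((c₁ b).symm.trans (by rw [hb]; exact a.2))
    exact ⟨⟨(b, c), mem_snakeW.2 hc.symm⟩, Subtype.ext hb⟩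
  have h₂ : Function.Surjective g₂ := fun a => by
    obtain ⟨c, hc⟩ := LinearMap.lTensor_surjective M₁ hπ a.1
    obtain ⟨b, hb⟩ := (lTensor_exact F huπ hπ _).1 ((c₂ c).symm.trans (by rw [hc]; exact a.2))
    exact ⟨⟨(b, c), mem_snakeW.2 hb⟩, Subtype.ext hc⟩
  have hk : LinearMap.ker g₁ = LinearMap.ker g₂ := by
    ext ⟨⟨b, c⟩, hx⟩
    have hx' : u.lTensor F b = v.rTensor Q c := mem_snakeW.1 hx
    simp only [LinearMap.mem_ker, ← Subtype.coe_inj]
    change ρ.rTensor N₁ b = 0 ↔ π.lTensor M₁ c = 0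
    constructor
    · intro h
      obtain ⟨a, rfl⟩ := (rTensor_exact N₁ hvρ hρ b).1 h
      obtain rfl : u.lTensor M₁ a = c := hvQ ((c₃ a).trans hx')
      exact (lTensor_exact M₁ huπ hπ).apply_apply_eq_zero _
    · intro h
      obtain ⟨a, rfl⟩ := (lTensor_exact M₁ huπ hπ c).1 h
      obtain rfl : v.rTensor N₁ a = b := huF ((c₃ a).symm.trans hx'.symm)
      exact (rTensor_exact N₁ hvρ hρ).apply_apply_eq_zero _
  exact ⟨(g₁.quotKerEquivOfSurjective h₁).symm.trans
    ((Submodule.quotEquivOfEq _ _ hk).trans (g₂.quotKerEquivOfSurjective h₂))⟩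

omit [Module.Flat A Q] in
lemma ker_rTensor_eq_ker_lTensor (hv : Function.Injective v) (hu : Function.Injective u)
    [Module.Flat A Q] : LinearMap.ker (v.rTensor N₁) = LinearMap.ker (u.lTensor M₁) := by
  have c₃ : ∀ a, v.rTensor Q (u.lTensor M₁ a) = u.lTensor F (v.rTensor N₁ a) := fun a => by
    rw [← LinearMap.comp_apply, LinearMap.rTensor_comp_lTensor, ← LinearMap.lTensor_comp_rTensor,
      LinearMap.comp_apply]
  ext a
  simp only [LinearMap.mem_ker]
  refine ⟨fun h => Module.Flat.rTensor_preserves_injective_linearMap (M := Q) v hv ?_,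
    fun h => Module.Flat.lTensor_preserves_injective_linearMap (M := F) u hu ?_⟩
  · rw [map_zero, c₃, h, map_zero]
  · rw [map_zero, ← c₃, h, map_zero]

end Snake

/-- kernels of tensored maps do not depend on the order -/
noncomputable def kerRLEquiv {M N P : Type u} [AddCommGroup M] [Module A M] [AddCommGroup N]
    [Module A N] [AddCommGroup P] [Module A P] (f : N →ₗ[A] P) :
    LinearMap.ker (f.rTensor M) ≃ₗ[A] LinearMap.ker (f.lTensor M) :=
  LinearEquiv.ofSubmodules (TensorProduct.comm A N M) _ _ (by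
    ext x
    simp only [Submodule.map_equiv_eq_comap_symm, Submodule.mem_comap, LinearEquiv.coe_coe,
      LinearMap.mem_ker]
    have : f.lTensor M x = TensorProduct.comm A P M (f.rTensor M ((TensorProduct.comm A N M).symm x)) := by
      induction x using TensorProduct.induction_on with
      | zero => simp
      | tmul a b => simp
      | add a b ha hb => simp [ha, hb]
    rw [this, LinearEquiv.map_eq_zero_iff])

/-- dimension shift in the first variable -/
theorem tor_shift_left {M M₁ F : Type u} [AddCommGroup M] [Module A M] [AddCommGroup M₁]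
    [Module A M₁] [AddCommGroup F] [Module A F] [Module.Flat A F]
    {v : M₁ →ₗ[A] F} {ρ : F →ₗ[A] M} (hv : Function.Injective v) (hρ : Function.Surjective ρ)
    (hvρ : Function.Exact v ρ) (N : Type u) [AddCommGroup N] [Module A N] (p : ℕ) :
    Nonempty (DRing.Tor A (p + 2) M N ≃ₗ[A] DRing.Tor A (p + 1) M₁ N) := by
  let S := Syz.free (ModuleCat.of A N)
  obtain ⟨e₁⟩ := S.tor_succ (ModuleCat.of A M) (p + 1)
  obtain ⟨e₂⟩ := S.tor_succ (ModuleCat.of A M₁) p
  have := S.proj p
  have := S.proj (p + 1)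
  obtain ⟨e₃⟩ := snake (M := M) (N := S.N (p + 1)) hv hρ hvρ (S.inj (p + 1)) (S.surj (p + 1))
    (S.exact (p + 1))
  exact ⟨e₁.trans (e₃.trans ((LinearEquiv.ofEq _ _
    (ker_rTensor_eq_ker_lTensor hv (S.inj p))).trans e₂.symm))⟩

/-- balancing -/
theorem tor_symm (p : ℕ) : ∀ (M N : Type u) [AddCommGroup M] [Module A M] [AddCommGroup N]
    [Module A N], Nonempty (DRing.Tor A p M N ≃ₗ[A] DRing.Tor A p N M) := by
  cases p with
  | zero =>
    intro M N _ _ _ _
    obtain ⟨e₁⟩ := tor_zero_equiv (A := A) M N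
    obtain ⟨e₂⟩ := tor_zero_equiv (A := A) N M
    exact ⟨e₁.trans ((TensorProduct.comm A M N).trans e₂.symm)⟩
  | succ p =>
    induction p with
    | zero =>
      intro M N _ _ _ _
      let S := Syz.free (ModuleCat.of A N)
      let T := Syz.free (ModuleCat.of A M)
      obtain ⟨e₁⟩ := S.tor_succ (ModuleCat.of A M) 0
      obtain ⟨e₂⟩ := T.tor_succ (ModuleCat.of A N) 0
      have := S.proj 0
      have := T.proj 0
      obtain ⟨e₃⟩ := snake (M := M) (N := N) (T.inj 0) (T.surj 0) (T.exact 0) (S.inj 0) (S.surj 0)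
        (S.exact 0)
      exact ⟨e₁.trans (e₃.trans ((kerRLEquiv _).trans e₂.symm))⟩
    | succ q ih =>
      intro M N _ _ _ _
      let T := Syz.free (ModuleCat.of A M)
      have := T.proj 0
      obtain ⟨e₁⟩ := tor_shift_left (M := M) (T.inj 0) (T.surj 0) (T.exact 0) N q
      obtain ⟨e₂⟩ := ih (T.N 1) N
      obtain ⟨e₃⟩ := tor_shift (H := N) (N := M) (T.inj 0) (T.surj 0) (T.exact 0) q
      exact ⟨e₁.trans (e₂.trans e₃.symm)⟩

/-- `H_n(P ⊗ N)` computes `Tor_n(M, N)` -/
theorem tor_iso_homology (M N : ModuleCat.{u} A) (P : ProjectiveResolution M) (n : ℕ) :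
    Nonempty (((CategoryTheory.Tor (ModuleCat.{u} A) n).obj M).obj N ≅
      (((tensorRight N).mapHomologicalComplex (ComplexShape.down ℕ)).obj P.complex).homology n) := by
  obtain ⟨e⟩ := tor_symm (A := A) n M N
  let η : (tensoringLeft (ModuleCat.{u} A)).obj N ≅ tensorRight N :=
    BraidedCategory.tensorLeftIsoTensorRight N
  exact ⟨e.toModuleIso ≪≫ P.isoLeftDerivedObj ((tensoringLeft (ModuleCat.{u} A)).obj N) n ≪≫
    (HomologicalComplex.homologyFunctor _ _ n).mapIso
      ((NatIso.mapHomologicalComplex η _).app P.complex)⟩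

end Groth.HTorLib
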