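import Groth.Agent.HTopHyper.HTor.TorKer
import Mathlib.RingTheory.Flat.Equalizer
import Groth.Agent.Misc8.FibreSquare

/-!
Vanishing of Tor for flat modules, in both variables.
-/

set_option autoImplicit false
set_option backward.isDefEq.respectTransparency false

universe u

open CategoryTheory CategoryTheory.Limits MonoidalCategory
open scoped TensorProduct

namespace Groth.HTorLib

variable {A : Type u} [CommRing A]

lemma Syz.flat (S : Syz A) (h : Module.Flat A (S.N 0)) : ∀ k, Module.Flat A (S.N k)
  | 0 => h
  | k + 1 => by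
    have := S.proj k
    have := S.flat h k
    exact Groth.Misc8.FibreSquare.flat_of_shortExact (S.u k) (S.π k) (S.inj k) (S.surj k) (S.exact k)

theorem subsingleton_tor_of_flat_left (M N : Type u) [AddCommGroup M] [Module A M] [AddCommGroup N]
    [Module A N] [Module.Flat A M] (p : ℕ) : Subsingleton (DRing.Tor A (p + 1) M N) := by
  obtain ⟨e⟩ := (Syz.free (ModuleCat.of A N)).tor_succ (ModuleCat.of A M) p
  have : Subsingleton (LinearMap.ker (((Syz.free (ModuleCat.of A N)).u p).lTensor (ModuleCat.of A M))) :=
    Submodule.subsingleton_iff_eq_bot.2 (LinearMap.ker_eq_bot.2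
      (Module.Flat.lTensor_preserves_injective_linearMap _ ((Syz.free (ModuleCat.of A N)).inj p)))
  exact e.injective.subsingleton

theorem subsingleton_tor_of_flat_right (M N : Type u) [AddCommGroup M] [Module A M] [AddCommGroup N]
    [Module A N] [Module.Flat A N] (p : ℕ) : Subsingleton (DRing.Tor A (p + 1) M N) := by
  let S := Syz.free (ModuleCat.of A N)
  obtain ⟨e⟩ := S.tor_succ (ModuleCat.of A M) p
  have := S.flat (inferInstanceAs (Module.Flat A N)) p
  have : Subsingleton (LinearMap.ker ((S.u p).lTensor (ModuleCat.of A M))) :=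
    Submodule.subsingleton_iff_eq_bot.2 (LinearMap.ker_eq_bot.2
      (LinearMap.lTensor_injective_of_exact_of_flat (S.π p) (S.surj p) (S.u p) (S.inj p)
        (S.exact p) _))
  exact e.injective.subsingleton

/-- `Tor_0` is the tensor product -/
theorem tor_zero_equiv (M N : Type u) [AddCommGroup M] [Module A M] [AddCommGroup N] [Module A N] :
    Nonempty (DRing.Tor A 0 M N ≃ₗ[A] M ⊗[A] N) :=
  ⟨(((tensoringLeft (ModuleCat.{u} A)).obj (ModuleCat.of A M)).leftDerivedZeroIsoSelf.app
    (ModuleCat.of A N)).toLinearEquiv⟩

end Groth.HTorLib
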