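import Groth.Agent.HTopHyper.HTor.Balance
import Mathlib.LinearAlgebra.TensorProduct.Tower
import Mathlib.RingTheory.Localization.BaseChange

/-!
Base change for Tor.
-/

set_option autoImplicit false
set_option backward.isDefEq.respectTransparency false

universe u

open CategoryTheory CategoryTheory.Limits MonoidalCategory
open scoped TensorProduct

namespace Groth.HTorLib

variable {A A' : Type u} [CommRing A] [CommRing A'] [Algebra A A']

/-- base change of syzygies which stay exact -/
noncomputable def Syz.baseChange (S : Syz A)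
    (h : ∀ k, Function.Injective ((S.u k).baseChange A')) : Syz A' where
  N k := ModuleCat.of A' (A' ⊗[A] S.N k)
  P k := ModuleCat.of A' (A' ⊗[A] S.P k)
  proj k := by
    have := S.proj k
    exact inferInstanceAs (Module.Projective A' (A' ⊗[A] S.P k))
  u k := (S.u k).baseChange A'
  π k := (S.π k).baseChange A'
  inj := h
  surj k := by
    intro x
    obtain ⟨y, hy⟩ := LinearMap.lTensor_surjective A' (S.surj k) x
    exact ⟨y, (congrFun (LinearMap.baseChange_eq_ltensor (S.π k)) y).trans hy⟩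
  exact k := by
    intro x
    exact ((lTensor_exact A' (S.exact k) (S.surj k)) x)

variable {P' N₁ N₂ : Type u} [AddCommGroup P'] [Module A' P'] [Module A P'] [IsScalarTower A A' P']
  [AddCommGroup N₁] [Module A N₁] [AddCommGroup N₂] [Module A N₂]

lemma lTensor_cancel_symm (f : N₁ →ₗ[A] N₂) (x : P' ⊗[A] N₁) :
    (f.baseChange A').lTensor P'
      ((TensorProduct.AlgebraTensorModule.cancelBaseChange A A' A' P' N₁).symm x) =
      (TensorProduct.AlgebraTensorModule.cancelBaseChange A A' A' P' N₂).symm (f.lTensor P' x) := by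
  induction x using TensorProduct.induction_on with
  | zero => simp
  | tmul a b => simp
  | add a b ha hb => simp [ha, hb]

/-- the semilinear form of `P' ⊗_A N ≅ P' ⊗_{A'} (A' ⊗_A N)` -/
noncomputable def cancelSL (P' N₁ : Type u) [AddCommGroup P'] [Module A' P'] [Module A P']
    [IsScalarTower A A' P'] [AddCommGroup N₁] [Module A N₁] :
    P' ⊗[A] N₁ →ₛₗ[algebraMap A A'] P' ⊗[A'] (A' ⊗[A] N₁) where
  toFun := (TensorProduct.AlgebraTensorModule.cancelBaseChange A A' A' P' N₁).symm
  map_add' := map_add _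
  map_smul' c x := by rw [← algebraMap_smul A' c x, map_smul]

lemma cancelSL_bijective : Function.Bijective (cancelSL (A := A) (A' := A') P' N₁) :=
  (TensorProduct.AlgebraTensorModule.cancelBaseChange A A' A' P' N₁).symm.bijective

/-- kernels of tensored maps after base change -/
noncomputable def kerSL (f : N₁ →ₗ[A] N₂) :
    LinearMap.ker (f.lTensor P') →ₛₗ[algebraMap A A'] LinearMap.ker ((f.baseChange A').lTensor P') where
  toFun x := ⟨cancelSL P' N₁ x.1, by
    rw [LinearMap.mem_ker]
    exact (lTensor_cancel_symm f x.1).trans (by rw [x.2, map_zero])⟩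
  map_add' x y := Subtype.ext (map_add (cancelSL (A := A) (A' := A') P' N₁) x.1 y.1)
  map_smul' c x := Subtype.ext ((cancelSL (A := A) (A' := A') P' N₁).map_smulₛₗ c x.1)

lemma kerSL_bijective (f : N₁ →ₗ[A] N₂) :
    Function.Bijective (kerSL (A' := A') (P' := P') f) := by
  refine ⟨fun x y h => Subtype.ext (cancelSL_bijective.1 (congrArg Subtype.val h)), fun y => ?_⟩
  obtain ⟨x, hx⟩ := cancelSL_bijective (A := A) (A' := A') (P' := P') (N₁ := N₁).2 y.1
  refine ⟨⟨x, ?_⟩, Subtype.ext hx⟩
  apply (TensorProduct.AlgebraTensorModule.cancelBaseChange A A' A' P' N₂).symm.injective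
  rw [← lTensor_cancel_symm, map_zero]
  exact (congrArg _ hx).trans y.2

lemma exists_semilinear {M₁ M₂ M₃ M₄ : Type u} [AddCommMonoid M₁] [Module A M₁] [AddCommMonoid M₂]
    [Module A M₂] [AddCommMonoid M₃] [Module A' M₃] [AddCommMonoid M₄] [Module A' M₄]
    (e₁ : M₁ ≃ₗ[A] M₂) (φ : M₂ →ₛₗ[algebraMap A A'] M₃) (hφ : Function.Bijective φ)
    (e₂ : M₃ ≃ₗ[A'] M₄) :
    ∃ ψ : M₁ →ₛₗ[algebraMap A A'] M₄, Function.Bijective ψ :=
  ⟨(e₂.toLinearMap.comp φ).comp e₁.toLinearMap, (e₂.bijective.comp hφ).comp e₁.bijective⟩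

/-- base change of Tor along syzygies staying exact -/
theorem tor_baseChange_syz (S : Syz A) (h : ∀ k, Function.Injective ((S.u k).baseChange A'))
    (P' : Type u) [AddCommGroup P'] [Module A' P'] [Module A P'] [IsScalarTower A A' P'] (n : ℕ) :
    ∃ φ : DRing.Tor A n P' (S.N 0) →ₛₗ[algebraMap A A'] DRing.Tor A' n P' (A' ⊗[A] S.N 0),
      Function.Bijective φ := by
  cases n with
  | zero =>
    obtain ⟨e₁⟩ := tor_zero_equiv (A := A) P' (S.N 0)
    obtain ⟨e₂⟩ := tor_zero_equiv (A := A') P' (A' ⊗[A] S.N 0)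
    exact exists_semilinear e₁ (cancelSL P' (S.N 0)) cancelSL_bijective e₂.symm
  | succ p =>
    obtain ⟨e₁⟩ := S.tor_succ (ModuleCat.of A P') p
    obtain ⟨e₂⟩ := (S.baseChange h).tor_succ (ModuleCat.of A' P') p
    exact exists_semilinear e₁ (kerSL (S.u p)) (kerSL_bijective (S.u p)) e₂.symm

theorem tor_baseChange_flat [Module.Flat A A'] (P' : Type u) [AddCommGroup P'] [Module A' P']
    [Module A P'] [IsScalarTower A A' P'] (Q : Type u) [AddCommGroup Q] [Module A Q] (n : ℕ) :
    ∃ φ : DRing.Tor A n P' Q →ₛₗ[algebraMap A A'] DRing.Tor A' n P' (A' ⊗[A] Q),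
      Function.Bijective φ :=
  tor_baseChange_syz (Syz.free (ModuleCat.of A Q)) (fun k => by
    rw [LinearMap.baseChange_eq_ltensor]
    exact Module.Flat.lTensor_preserves_injective_linearMap _ ((Syz.free (ModuleCat.of A Q)).inj k))
    P' n

theorem tor_baseChange_acyclic (P : Type u) [AddCommGroup P] [Module A P] (Q' : Type u)
    [AddCommGroup Q'] [Module A' Q'] [Module A Q'] [IsScalarTower A A' Q']
    (hP : ∀ q : ℕ, 0 < q → Subsingleton (DRing.Tor A q P A')) (n : ℕ) :
    ∃ φ : DRing.Tor A n P Q' →ₛₗ[algebraMap A A'] DRing.Tor A' n (A' ⊗[A] P) Q',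
      Function.Bijective φ := by
  let S := Syz.free (ModuleCat.of A P)
  obtain ⟨φ, hφ⟩ := tor_baseChange_syz (A' := A') S (fun k => by
    rw [LinearMap.baseChange_eq_ltensor]
    obtain ⟨e₁⟩ := S.tor_succ (ModuleCat.of A A') k
    obtain ⟨e₂⟩ := tor_symm (A := A) (k + 1) P A'
    have := hP (k + 1) k.succ_pos
    have : Subsingleton (LinearMap.ker ((S.u k).lTensor A')) :=
      (e₁.symm.trans e₂.symm).injective.subsingleton
    exact LinearMap.ker_eq_bot.1 (Submodule.subsingleton_iff_eq_bot.1 this)) Q' n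
  obtain ⟨e₁⟩ := tor_symm (A := A) n P Q'
  obtain ⟨e₂⟩ := tor_symm (A := A') n Q' (A' ⊗[A] P)
  exact exists_semilinear e₁ φ hφ e₂

theorem tor_baseChange_localization (S : Submonoid A) [IsLocalization S A'] (P Q : Type u)
    [AddCommGroup P] [Module A' P] [Module A P] [IsScalarTower A A' P] [AddCommGroup Q]
    [Module A' Q] [Module A Q] [IsScalarTower A A' Q] (n : ℕ) :
    ∃ φ : DRing.Tor A n P Q →ₛₗ[algebraMap A A'] DRing.Tor A' n P Q, Function.Bijective φ := by
  have : Module.Flat A A' := IsLocalization.flat A' S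
  obtain ⟨φ, hφ⟩ := tor_baseChange_flat (A := A) (A' := A') P Q n
  exact exists_semilinear (LinearEquiv.refl A (DRing.Tor A n P Q)) φ hφ
    (((CategoryTheory.Tor (ModuleCat.{u} A') n).obj (ModuleCat.of A' P)).mapIso
      (IsLocalization.moduleLid S A' Q).toModuleIso).toLinearEquiv

end Groth.HTorLib
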