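import Groth.Prelude.Def_DRing2
import Groth.Agent.FlatCxBase.Core
import Mathlib.CategoryTheory.Abelian.Projective.Resolution
import Mathlib.LinearAlgebra.Finsupp.LinearCombination
import Mathlib.LinearAlgebra.TensorProduct.RightExactness

/-!
Tor as the kernel of a tensored syzygy map.
-/

set_option autoImplicit false
set_option backward.isDefEq.respectTransparency false

universe u

open CategoryTheory CategoryTheory.Limits MonoidalCategory
open scoped TensorProduct

namespace Groth.HTorLib

variable {A : Type u} [CommRing A]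

/-- iterated syzygies -/
structure Syz (A : Type u) [CommRing A] where
  N : ℕ → ModuleCat.{u} A
  P : ℕ → ModuleCat.{u} A
  proj : ∀ k, Module.Projective A (P k)
  u : ∀ k, N (k + 1) →ₗ[A] P k
  π : ∀ k, P k →ₗ[A] N k
  inj : ∀ k, Function.Injective (u k)
  surj : ∀ k, Function.Surjective (π k)
  exact : ∀ k, Function.Exact (u k) (π k)

namespace Syz

variable (S : Syz A)

/-- forget the first step -/
def tail : Syz A where
  N k := S.N (k + 1)
  P k := S.P (k + 1)
  proj k := S.proj (k + 1)
  u k := S.u (k + 1)
  π k := S.π (k + 1)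
  inj k := S.inj (k + 1)
  surj k := S.surj (k + 1)
  exact k := S.exact (k + 1)

/-- add a first step -/
def cons (N P : ModuleCat.{u} A) [Module.Projective A P] (u : S.N 0 →ₗ[A] P) (π : P →ₗ[A] N)
    (hu : Function.Injective u) (hπ : Function.Surjective π) (h : Function.Exact u π) : Syz A where
  N := fun k => match k with | 0 => N | k + 1 => S.N k
  P := fun k => match k with | 0 => P | k + 1 => S.P k
  proj := fun k => match k with | 0 => inferInstanceAs (Module.Projective A P) | k + 1 => S.proj k
  u := fun k => match k with | 0 => u | k + 1 => S.u k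
  π := fun k => match k with | 0 => π | k + 1 => S.π k
  inj := fun k => match k with | 0 => hu | k + 1 => S.inj k
  surj := fun k => match k with | 0 => hπ | k + 1 => S.surj k
  exact := fun k => match k with | 0 => h | k + 1 => S.exact k

/-- the canonical free cover -/
noncomputable def cover (N : ModuleCat.{u} A) : (N →₀ A) →ₗ[A] N :=
  Finsupp.linearCombination A id

/-- iterated kernels of canonical free covers -/
noncomputable def freeN (N : ModuleCat.{u} A) : ℕ → ModuleCat.{u} A
  | 0 => N
  | k + 1 => ModuleCat.of A (LinearMap.ker (cover (freeN N k)))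

/-- the canonical syzygies -/
noncomputable def free (N : ModuleCat.{u} A) : Syz A where
  N := freeN N
  P k := ModuleCat.of A (freeN N k →₀ A)
  proj k := inferInstanceAs (Module.Projective A (freeN N k →₀ A))
  u k := (LinearMap.ker (cover (freeN N k))).subtype
  π k := cover (freeN N k)
  inj k := Subtype.val_injective
  surj k := fun x => ⟨Finsupp.single x 1, by simp [cover]⟩
  exact k := LinearMap.exact_subtype_ker_map _

/-- the resolution complex -/
noncomputable def cx : ChainComplex (ModuleCat.{u} A) ℕ :=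
  ChainComplex.of S.P (fun k => ModuleCat.ofHom ((S.u k).comp (S.π (k + 1)))) fun k => by
    refine ModuleCat.hom_ext (LinearMap.ext fun x => ?_)
    change S.u k (S.π (k + 1) (S.u (k + 1) (S.π (k + 2) x))) = 0
    rw [(S.exact (k + 1)).apply_apply_eq_zero, map_zero]

lemma cx_d (k : ℕ) : S.cx.d (k + 1) k = ModuleCat.ofHom ((S.u k).comp (S.π (k + 1))) := by
  simp [cx]

/-- the projective resolution of `S.N 0` -/
noncomputable def resolution : ProjectiveResolution (S.N 0) where
  complex := S.cx
  projective k := by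
    have := S.proj k
    exact inferInstanceAs (Projective (ModuleCat.of A (S.P k)))
  π := (ChainComplex.toSingle₀Equiv _ _).symm ⟨ModuleCat.ofHom (S.π 0), by
    rw [cx_d]
    refine ModuleCat.hom_ext (LinearMap.ext fun x => ?_)
    exact (S.exact 0).apply_apply_eq_zero _⟩
  quasiIso := ⟨fun n => by
    cases n
    · rw [ChainComplex.quasiIsoAt₀_iff, ShortComplex.quasiIso_iff_of_zeros']
      · refine (ShortComplex.exact_and_epi_g_iff_of_iso (S₂ := ShortComplex.mk
          (ModuleCat.ofHom ((S.u 0).comp (S.π 1))) (ModuleCat.ofHom (S.π 0))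
          (ModuleCat.hom_ext (LinearMap.ext fun x => (S.exact 0).apply_apply_eq_zero _)))
          (ShortComplex.isoMk (Iso.refl _) (Iso.refl _) (Iso.refl _)
            (by simp [cx]) (by simp))).2
          ⟨?_, (ModuleCat.epi_iff_surjective _).2 (S.surj 0)⟩
        rw [ShortComplex.moduleCat_exact_iff]
        intro x hx
        obtain ⟨y, hy⟩ := (S.exact 0 x).1 hx
        obtain ⟨z, rfl⟩ := S.surj 1 y
        exact ⟨z, hy⟩
      all_goals rfl
    · rename_i n
      rw [quasiIsoAt_iff_exactAt']
      · rw [HomologicalComplex.exactAt_iff' _ (n + 2) (n + 1) n (by simp) (by simp),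
          ShortComplex.moduleCat_exact_iff]
        intro x hx
        change S.cx.d (n + 1) n x = 0 at hx
        rw [cx_d] at hx
        have h1 : S.π (n + 1) x = 0 := S.inj n (hx.trans (map_zero _).symm)
        obtain ⟨y, hy⟩ := (S.exact (n + 1) x).1 h1
        obtain ⟨z, rfl⟩ := S.surj (n + 2) y
        refine ⟨z, ?_⟩
        change S.cx.d (n + 1 + 1) (n + 1) z = x
        rw [cx_d]
        exact hy
      · apply ChainComplex.exactAt_succ_single_obj⟩

/-- `Tor_{p+1}(H, N_0)` is the kernel of `H ⊗ N_{p+1} → H ⊗ P_p` -/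
theorem tor_succ (H : ModuleCat.{u} A) (p : ℕ) :
    Nonempty ((((CategoryTheory.Tor (ModuleCat.{u} A) (p + 1)).obj H).obj (S.N 0) : ModuleCat A) ≃ₗ[A]
      LinearMap.ker ((S.u p).lTensor H)) := by
  let T := (((tensoringLeft (ModuleCat.{u} A)).obj H).mapHomologicalComplex _).obj S.cx
  let e₁ : (((CategoryTheory.Tor (ModuleCat.{u} A) (p + 1)).obj H).obj (S.N 0)) ≅
      T.homology (p + 1) :=
    S.resolution.isoLeftDerivedObj ((tensoringLeft (ModuleCat.{u} A)).obj H) (p + 1)
  let e₂ := Groth.FlatCxBase.homologyEquivQuot T (i := p + 2) (j := p + 1) (k := p)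
    (ChainComplex.prev ℕ (p + 1)) (ChainComplex.next_nat_succ p)
  have hd : ∀ k, (T.d (k + 1) k).hom = ((S.u k).comp (S.π (k + 1))).lTensor H := by
    intro k
    change (H ◁ S.cx.d (k + 1) k).hom = _
    rw [cx_d]
    rfl
  let f : LinearMap.ker (T.d (p + 1) p).hom →ₗ[A] LinearMap.ker ((S.u p).lTensor H) :=
    LinearMap.codRestrict _ (((S.π (p + 1)).lTensor H).comp (Submodule.subtype _)) fun x => by
      exact (LinearMap.lTensor_comp_apply _ _ _ _).symm.trans
        ((LinearMap.congr_fun (hd p) x.1).symm.trans x.2)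
  have hf : Function.Surjective f := fun y => by
    obtain ⟨x, hx⟩ := LinearMap.lTensor_surjective H (S.surj (p + 1)) y.1
    refine ⟨⟨x, ?_⟩, Subtype.ext hx⟩
    exact (LinearMap.congr_fun (hd p) x).trans ((LinearMap.lTensor_comp_apply _ _ _ _).trans
      ((congrArg _ hx).trans y.2))
  have hker : (LinearMap.range (T.d (p + 2) (p + 1)).hom).comap
      (LinearMap.ker (T.d (p + 1) p).hom).subtype = LinearMap.ker f := by
    refine Submodule.ext fun x => ?_
    simp only [Submodule.mem_comap, LinearMap.mem_range, LinearMap.mem_ker,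
      Submodule.subtype_apply, hd (p + 1)]
    constructor
    · rintro ⟨y, hy⟩
      refine Subtype.ext ?_
      change (S.π (p + 1)).lTensor H x.1 = 0
      refine (congrArg _ (hy.symm.trans (LinearMap.lTensor_comp_apply _ _ _ y))).trans ?_
      exact (lTensor_exact H (S.exact (p + 1)) (S.surj (p + 1))).apply_apply_eq_zero _
    · intro hx
      have h1 : (S.π (p + 1)).lTensor H x.1 = 0 := congrArg Subtype.val hx
      obtain ⟨y, hy⟩ := (lTensor_exact H (S.exact (p + 1)) (S.surj (p + 1)) _).1 h1
      obtain ⟨z, rfl⟩ := LinearMap.lTensor_surjective H (S.surj (p + 2)) y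
      exact ⟨z, (LinearMap.lTensor_comp_apply _ _ _ _).trans hy⟩
  exact ⟨e₁.toLinearEquiv.trans (e₂.symm.trans
    ((Submodule.quotEquivOfEq _ _ hker).trans (f.quotKerEquivOfSurjective hf)))⟩

end Syz

variable {H N N' P : Type u} [AddCommGroup H] [Module A H] [AddCommGroup N] [Module A N]
  [AddCommGroup N'] [Module A N'] [AddCommGroup P] [Module A P] [Module.Projective A P]
  {ι : N' →ₗ[A] P} {π : P →ₗ[A] N}

/-- `Tor_1` from a projective presentation -/
theorem tor_one_equiv (hι : Function.Injective ι) (hπ : Function.Surjective π)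
    (h : Function.Exact ι π) :
    Nonempty (DRing.Tor A 1 H N ≃ₗ[A] LinearMap.ker (ι.lTensor H)) :=
  (((Syz.free (ModuleCat.of A N')).cons (ModuleCat.of A N) (ModuleCat.of A P) ι π hι hπ h).tor_succ
    (ModuleCat.of A H) 0)

/-- dimension shift -/
theorem tor_shift (hι : Function.Injective ι) (hπ : Function.Surjective π)
    (h : Function.Exact ι π) (q : ℕ) :
    Nonempty (DRing.Tor A (q + 2) H N ≃ₗ[A] DRing.Tor A (q + 1) H N') := by
  obtain ⟨e₁⟩ := ((Syz.free (ModuleCat.of A N')).cons (ModuleCat.of A N) (ModuleCat.of A P) ι π hι hπ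
    h).tor_succ (ModuleCat.of A H) (q + 1)
  obtain ⟨e₂⟩ := (Syz.free (ModuleCat.of A N')).tor_succ (ModuleCat.of A H) q
  exact ⟨e₁.trans e₂.symm⟩

end Groth.HTorLib
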