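import Groth.Agent.RelTilde.Basic
import Groth.Agent.CohTwo.Glue
import Groth.Agent.Misc4.PushAcyclicQCoh
import Groth.Prelude.Def_CechOX
import Mathlib.Algebra.Homology.HomotopyCategory.MappingCocone

/-!
Finite resolutions of complexes of modules by direct images from affine opens of a finite cover.

They are built by induction on the cover, as iterated homotopy fibre products.
-/

universe u

open CategoryTheory CategoryTheory.Limits AlgebraicGeometry Opposite TopologicalSpace Pretriangulated

attribute [local instance] HasDerivedCategory.standard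

set_option maxHeartbeats 1000000
set_option backward.isDefEq.respectTransparency false
set_option linter.style.haveILetI false

namespace Groth.HTorGeom

local notation "up" => ComplexShape.up ℤ

section Abelian

variable {C D : Type*} [Category C] [Category D] [Abelian C] [Abelian D] [HasDerivedCategory D]

/-- In a left exact sequence `A ⟶ B ⟶ C` with `B` split and one component of `B ⟶ C` invertible,
`A` projects isomorphically to the other summand. -/
theorem isIso_of_split {A B B₁ B₂ C' : D} (h : A ⟶ B) (g : B ⟶ C') (w : h ≫ g = 0)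
    (hex : (ShortComplex.mk h g w).Exact) [Mono h] (i₁ : B₁ ⟶ B) (i₂ : B₂ ⟶ B) (π₁ : B ⟶ B₁)
    (π₂ : B ⟶ B₂) (h₁₁ : i₁ ≫ π₁ = 𝟙 _) (h₂₁ : i₂ ≫ π₁ = 0) (hsum : π₁ ≫ i₁ + π₂ ≫ i₂ = 𝟙 B)
    [IsIso (i₂ ≫ g)] : IsIso (h ≫ π₁) := by
  haveI : Mono (ShortComplex.mk h g w).f := ‹Mono h›
  haveI : Mono (h ≫ π₁) := Preadditive.mono_of_cancel_zero _ fun x hx => by
    have e : x ≫ h = (x ≫ h ≫ π₂) ≫ i₂ := by
      conv_lhs => rw [← Category.comp_id (x ≫ h), ← hsum]
      simp only [Preadditive.comp_add, Category.assoc]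
      rw [show x ≫ h ≫ π₁ ≫ i₁ = 0 by simp only [← Category.assoc] at hx ⊢; rw [hx, zero_comp],
        zero_add]
    have e' : (x ≫ h ≫ π₂) ≫ i₂ ≫ g = 0 := by
      rw [← Category.assoc, ← e, Category.assoc, w, comp_zero]
    rw [← cancel_mono h, zero_comp, e, (cancel_mono (i₂ ≫ g)).1 (e'.trans zero_comp.symm), zero_comp]
  have hy : (i₁ - (i₁ ≫ g ≫ inv (i₂ ≫ g)) ≫ i₂) ≫ g = 0 := by
    simp only [Preadditive.sub_comp, Category.assoc, IsIso.inv_hom_id, Category.comp_id, sub_self]
  haveI : Epi (h ≫ π₁) := by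
    haveI : IsSplitEpi (h ≫ π₁) := IsSplitEpi.mk' ⟨hex.lift _ hy, by
      rw [← Category.assoc, show hex.lift _ hy ≫ h = _ from hex.lift_f _ hy]
      simp [h₁₁, h₂₁]⟩
    infer_instance
  exact isIso_of_mono_of_epi _

/-- An additive functor applied to a homotopy fibre `fib(K₁ ⊕ K₂ ⟶ L)` with `K₂ ⟶ L` a
quasi-isomorphism after applying the functor. -/
theorem quasiIso_cocone_proj [HasDerivedCategory C] (S : C ⥤ D) [S.Additive]
    {K K₁ K₂ L : CochainComplex C ℤ} (φ : K ⟶ L) (i₁ : K₁ ⟶ K) (i₂ : K₂ ⟶ K) (π₁ : K ⟶ K₁)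
    (π₂ : K ⟶ K₂) (h₁₁ : i₁ ≫ π₁ = 𝟙 _) (h₂₁ : i₂ ≫ π₁ = 0) (hsum : π₁ ≫ i₁ + π₂ ≫ i₂ = 𝟙 K)
    [QuasiIso ((S.mapHomologicalComplex up).map (i₂ ≫ φ))] :
    QuasiIso ((S.mapHomologicalComplex up).map (CochainComplex.mappingCocone.fst φ ≫ π₁)) := by
  let G := S.mapHomologicalComplex up
  let T₀ := (HomotopyCategory.quotient C up).mapTriangle.obj (CochainComplex.mappingCocone.triangle φ)
  have hT₀ : T₀ ∈ distTriang _ := by
    refine (rotate_distinguished_triangle T₀).2 ?_
    refine isomorphic_distinguished _ (HomotopyCategory.mappingCone_triangleh_distinguished φ) _ ?_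
    exact ((HomotopyCategory.quotient C up).mapTriangleRotateIso.app _) ≪≫
      (HomotopyCategory.quotient C up).mapTriangle.mapIso
        (CochainComplex.mappingCocone.rotateTriangleIso φ)
  let T := DerivedCategory.Qh.mapTriangle.obj ((S.mapHomotopyCategory up).mapTriangle.obj T₀)
  have hT : T ∈ distTriang _ :=
    DerivedCategory.Qh.map_distinguished _ ((S.mapHomotopyCategory up).map_distinguished _ hT₀)
  let H := fun n => HomologicalComplex.homologyFunctor D up n
  refine ⟨fun n => (quasiIsoAt_iff_isIso_homologyMap _ _).2 ?_⟩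
  let key : ∀ {P P' : CochainComplex C ℤ} (u : P ⟶ P') (n : ℤ),
      Arrow.mk ((DerivedCategory.homologyFunctor D n).map (DerivedCategory.Qh.map
        ((S.mapHomotopyCategory up).map ((HomotopyCategory.quotient C up).map u)))) ≅
      Arrow.mk (HomologicalComplex.homologyMap (G.map u) n) := fun u n =>
    let e : HomotopyCategory.quotient D up ⋙ DerivedCategory.Qh ⋙ DerivedCategory.homologyFunctor D n ≅
        HomologicalComplex.homologyFunctor D up n :=
      Functor.isoWhiskerLeft _ (DerivedCategory.homologyFunctorFactorsh D n) ≪≫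
        HomotopyCategory.homologyFunctorFactors D up n
    Arrow.isoMk (e.app _) (e.app _) (e.hom.naturality (G.map u)).symm
  have hqi : ∀ m, IsIso (HomologicalComplex.homologyMap (G.map i₂) m ≫
      HomologicalComplex.homologyMap (G.map φ) m) := fun m => by
    rw [← HomologicalComplex.homologyMap_comp, ← Functor.map_comp]
    infer_instance
  have hepi : ∀ m, Epi (HomologicalComplex.homologyMap (G.map φ) m) := fun m =>
    haveI := hqi m
    epi_of_epi (HomologicalComplex.homologyMap (G.map i₂) m) _
  haveI hmono : Mono (HomologicalComplex.homologyMap (G.map (CochainComplex.mappingCocone.fst φ)) n) := by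
    refine ((MorphismProperty.monomorphisms D).arrow_mk_iso_iff (key _ n)).1 ?_
    refine (DerivedCategory.HomologySequence.mono_homologyMap_mor₁_iff T hT (n - 1) n (by omega)).2 ?_
    haveI : Epi ((DerivedCategory.homologyFunctor D (n - 1)).map T.mor₂) :=
      ((MorphismProperty.epimorphisms D).arrow_mk_iso_iff (key φ (n - 1))).2 (hepi _)
    exact (DerivedCategory.HomologySequence.epi_homologyMap_mor₂_iff T hT (n - 1) n (by omega)).1 inferInstance
  have w : HomologicalComplex.homologyMap (G.map (CochainComplex.mappingCocone.fst φ)) n ≫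
      HomologicalComplex.homologyMap (G.map φ) n = 0 := by
    have h0 : (HomotopyCategory.quotient C up).map (CochainComplex.mappingCocone.fst φ ≫ φ) =
        (HomotopyCategory.quotient C up).map 0 := by
      rw [Functor.map_comp, Functor.map_zero]
      exact comp_distTriang_mor_zero₁₂ _ hT₀
    have h1 := (S.mapHomotopy (HomotopyCategory.homotopyOfEq _ _ h0)).homologyMap_eq n
    rw [← HomologicalComplex.homologyMap_comp, ← Functor.map_comp]
    refine h1.trans ?_
    rw [Functor.map_zero, HomologicalComplex.homologyMap_zero]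
  have hex : (ShortComplex.mk _ _ w).Exact :=
    (ShortComplex.exact_iff_of_iso (ShortComplex.isoMk
      (Arrow.leftFunc.mapIso (key (CochainComplex.mappingCocone.fst φ) n))
      (Arrow.leftFunc.mapIso (key φ n))
      (Arrow.rightFunc.mapIso (key φ n))
      (key (CochainComplex.mappingCocone.fst φ) n).hom.w
      (key φ n).hom.w)).1 (DerivedCategory.HomologySequence.exact₂ T hT n)
  haveI := hqi n
  have e : HomologicalComplex.homologyMap (G.map (CochainComplex.mappingCocone.fst φ ≫ π₁)) n =
      HomologicalComplex.homologyMap (G.map (CochainComplex.mappingCocone.fst φ)) n ≫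
        HomologicalComplex.homologyMap (G.map π₁) n := by
    rw [Functor.map_comp, HomologicalComplex.homologyMap_comp]
  rw [e]
  refine isIso_of_split _ _ w hex (HomologicalComplex.homologyMap (G.map i₁) n)
    (HomologicalComplex.homologyMap (G.map i₂) n) _ (HomologicalComplex.homologyMap (G.map π₂) n) ?_ ?_ ?_
  · rw [← HomologicalComplex.homologyMap_comp, ← Functor.map_comp, h₁₁,
      CategoryTheory.Functor.map_id, HomologicalComplex.homologyMap_id]
  · rw [← HomologicalComplex.homologyMap_comp, ← Functor.map_comp, h₂₁, Functor.map_zero,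
      HomologicalComplex.homologyMap_zero]
  · simp only [← HomologicalComplex.homologyMap_comp, ← HomologicalComplex.homologyMap_add,
      ← Functor.map_comp, ← Functor.map_add, hsum, CategoryTheory.Functor.map_id,
      HomologicalComplex.homologyMap_id]

end Abelian

variable {X : Scheme.{u}}

/-- Sections over `V`. -/
noncomputable abbrev sec (V : X.Opens) : X.Modules ⥤ AddCommGrpCat.{u} :=
  Scheme.Modules.toPresheaf X ⋙ (evaluation _ _).obj (op V)

instance additive_sec (V : X.Opens) : (sec V).Additive where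
  map_add := by intros; rfl

/-- A map of complexes inducing quasi-isomorphisms on the sections over a basis is a
quasi-isomorphism. -/
theorem quasiIso_of_sections {K L : CochainComplex X.Modules ℤ} (φ : K ⟶ L)
    (h : ∀ (y : X) (O : X.Opens), y ∈ O → ∃ V : X.Opens, V ≤ O ∧ y ∈ V ∧
      QuasiIso (((sec V).mapHomologicalComplex up).map φ)) : QuasiIso φ := by
  have hZ : (CochainComplex.mappingCone φ).Acyclic := fun n => by
    rw [HomologicalComplex.exactAt_iff' _ (n - 1) n (n + 1) (by simp) (by simp)]
    refine Groth.RelTilde.exact_of_local _ fun O t ht y hy => ?_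
    obtain ⟨V, hVO, hyV, hV⟩ := h y O hy
    refine ⟨V, hVO, hyV, ?_⟩
    have hC : ((((sec V).mapHomologicalComplex up).obj (CochainComplex.mappingCone φ))).ExactAt n := by
      refine HomologicalComplex.ExactAt.of_iso ?_
        (CochainComplex.mappingCone.mapHomologicalComplexIso φ (sec V)).symm
      have hm : HomologicalComplex.quasiIso _ _ (((sec V).mapHomologicalComplex up).map φ) := hV
      rw [← HomotopyCategory.quotient_map_mem_quasiIso_iff,
        HomotopyCategory.quasiIso_eq_trW_subcategoryAcyclic] at hm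
      exact (HomotopyCategory.quotient_obj_mem_subcategoryAcyclic_iff_acyclic _).1
        (((HomotopyCategory.subcategoryAcyclic _).trW_iff_of_distinguished _
          (HomotopyCategory.mappingCone_triangleh_distinguished _)).1 hm) n
    rw [HomologicalComplex.exactAt_iff' _ (n - 1) n (n + 1) (by simp) (by simp),
      ShortComplex.ab_exact_iff] at hC
    refine hC (QCohMod.res _ hVO t) ?_
    refine (QCohMod.res_app ((CochainComplex.mappingCone φ).d n (n + 1)) hVO t).symm.trans ?_
    exact (congrArg (QCohMod.res _ hVO) ht).trans (map_zero _)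
  show HomologicalComplex.quasiIso _ _ φ
  rw [← HomotopyCategory.quotient_map_mem_quasiIso_iff,
    HomotopyCategory.quasiIso_eq_trW_subcategoryAcyclic]
  exact ((HomotopyCategory.subcategoryAcyclic _).trW_iff_of_distinguished _
    (HomotopyCategory.mappingCone_triangleh_distinguished _)).2
      ((HomotopyCategory.quotient_obj_mem_subcategoryAcyclic_iff_acyclic _).2 hZ)

/-- Restriction to an open, as a natural transformation. -/
noncomputable abbrev η (W : X.Opens) :
    𝟭 X.Modules ⟶ CechOX.pushRestr W :=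
  (Scheme.Modules.restrictAdjunction W.ι).unit

/-- Termwise `j_*(·|W)`. -/
noncomputable abbrev JCx (W : X.Opens) : CochainComplex X.Modules ℤ ⥤ CochainComplex X.Modules ℤ :=
  (CechOX.pushRestr W).mapHomologicalComplex up

/-- Termwise restriction to an open. -/
noncomputable def ηCx (W : X.Opens) : 𝟭 (CochainComplex X.Modules ℤ) ⟶ JCx W where
  app K :=
    { f := fun i => (η W).app (K.X i)
      comm' := fun i j _ => ((η W).naturality (K.d i j)).symm }
  naturality _ _ φ := HomologicalComplex.hom_ext _ _ fun i => (η W).naturality (φ.f i)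

theorem image_preimage_eq (W V : X.Opens) : W.ι ''ᵁ (W.ι ⁻¹ᵁ V) = W ⊓ V := by
  rw [Scheme.Hom.image_preimage_eq_opensRange_inf, Scheme.Opens.opensRange_ι]

/-- Restriction to `W` is invertible on the opens of `W`. -/
theorem bijective_η_app (W : X.Opens) (M : X.Modules) {V : X.Opens} (hV : V ≤ W) :
    Function.Bijective (((η W).app M).app V) := by
  have h1 : W.ι ''ᵁ (W.ι ⁻¹ᵁ V) ≤ V := (image_preimage_eq W V).le.trans inf_le_right
  have h2 : V ≤ W.ι ''ᵁ (W.ι ⁻¹ᵁ V) := (le_inf hV le_rfl).trans (image_preimage_eq W V).ge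
  refine ⟨fun s t hst => ?_, fun t => ⟨QCohMod.res M h2 t, ?_⟩⟩
  · have hst' : QCohMod.res M h1 s = QCohMod.res M h1 t := hst
    simpa [QCohMod.res_res, QCohMod.res_self] using congrArg (QCohMod.res M h2) hst'
  · change QCohMod.res M h1 (QCohMod.res M h2 t) = t
    rw [QCohMod.res_res, QCohMod.res_self]

/-- Modules built from direct images of modules in `Φ` from affine opens by finite sums. -/
inductive Elem (Φ : X.Modules → Prop) : X.Modules → Prop
  | base (W : X.Opens) (hW : IsAffineOpen W) (F : X.Modules) (hF : Φ F) :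
      Elem Φ ((CechOX.pushRestr W).obj F)
  | zero (M : X.Modules) (h : IsZero M) : Elem Φ M
  | biprod (M N : X.Modules) (hM : Elem Φ M) (hN : Elem Φ N) : Elem Φ (M ⊞ N)
  | of_iso (M N : X.Modules) (e : M ≅ N) (hM : Elem Φ M) : Elem Φ N

/-- Closure properties of a class of modules. -/
structure Closed (Φ : X.Modules → Prop) : Prop where
  zero : ∀ M, IsZero M → Φ M
  iso : ∀ {M N : X.Modules}, (M ≅ N) → Φ M → Φ N
  biprod : ∀ M N, Φ M → Φ N → Φ (M ⊞ N)
  push : ∀ W : X.Opens, IsAffineOpen W → ∀ F, Φ F → Φ ((CechOX.pushRestr W).obj F)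

theorem Elem.mem {Φ : X.Modules → Prop} (hΦ : Closed Φ) {M : X.Modules} (h : Elem Φ M) : Φ M := by
  induction h with
  | base W hW F hF => exact hΦ.push W hW F hF
  | zero M h => exact hΦ.zero M h
  | biprod M N _ _ hM hN => exact hΦ.biprod M N hM hN
  | of_iso M N e _ hM => exact hΦ.iso e hM

/-- The degree `i` term of a homotopy fibre. -/
noncomputable def coconeXIso {K L : CochainComplex X.Modules ℤ} (φ : K ⟶ L) (i : ℤ) :
    (CochainComplex.mappingCocone φ).X i ≅ K.X i ⊞ L.X (i - 1) :=
  HomologicalComplex.homotopyCofiber.XIsoBiprod φ (i + -1) (i + -1 + 1) rfl ≪≫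
    biprod.mapIso (eqToIso (by congr 1; omega)) (eqToIso (by congr 1))

variable {Φ : X.Modules → Prop}

/-- Finite resolutions by direct images from affine opens, for an affine diagonal. -/
theorem exists_res [IsAffineHom (pullback.diagonal (terminal.from X))] (hΦ : Closed Φ)
    (P : CochainComplex X.Modules ℤ) (hP : ∀ i, Φ (P.X i)) :
    ∀ (l : List X.Opens), (∀ W ∈ l, IsAffineOpen W) →
      ∃ (R : CochainComplex X.Modules ℤ) (a : P ⟶ R),
        (∀ i, Elem Φ (R.X i)) ∧
        (∀ b, (∀ i, b < i → IsZero (P.X i)) →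
          ∀ i, b + l.length ≤ i → IsZero (R.X i)) ∧
        (∀ b, (∀ i, i < b → IsZero (P.X i)) → ∀ i, i < b → IsZero (R.X i)) ∧
        (∀ V, IsAffineOpen V → (∃ W ∈ l, V ≤ W) →
          QuasiIso (((sec V).mapHomologicalComplex up).map a)) := by
  intro l
  induction l with
  | nil =>
    exact fun _ => ⟨HomologicalComplex.zero, 0, fun i => .zero _ (isZero_zero _),
      fun _ _ i _ => isZero_zero _,
      fun _ _ i _ => isZero_zero _,
      fun V _ ⟨W, hW, _⟩ => absurd hW List.not_mem_nil⟩
  | cons W l ih =>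
    intro hl
    have hW : IsAffineOpen W := hl W List.mem_cons_self
    obtain ⟨R, a, hR, hRb, hRa, hq⟩ := ih fun V hV => hl V (List.mem_cons_of_mem W hV)
    let φ : (JCx W).obj P ⊞ R ⟶ (JCx W).obj R :=
      biprod.desc ((JCx W).map a) (-(ηCx W).app R)
    let α : P ⟶ (JCx W).obj P ⊞ R := biprod.lift ((ηCx W).app P) a
    have hα : α ≫ φ = 0 := by
      simp only [α, φ, biprod.lift_desc, Preadditive.comp_neg]
      exact add_neg_eq_zero.2 ((ηCx W).naturality a).symm
    let a' : P ⟶ CochainComplex.mappingCocone φ :=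
      CochainComplex.mappingCocone.lift φ α 0 (by simp [hα])
    have ha' : a' ≫ CochainComplex.mappingCocone.fst φ = α :=
      CochainComplex.mappingCocone.lift_fst _ _ _ _
    have hK : ∀ i, Nonempty (((JCx W).obj P ⊞ R).X i ≅ ((JCx W).obj P).X i ⊞ R.X i) := fun i =>
      ⟨HomologicalComplex.biprodXIso _ _ i⟩
    refine ⟨_, a', fun i => ?_, fun b hb i h2 => ?_, fun b hb i h1 => ?_, fun V hV hVl => ?_⟩
    · refine .of_iso _ _ (coconeXIso φ i).symm (.biprod _ _ ?_ ?_)
      · exact .of_iso _ _ (hK i).some.symm (.biprod _ _ (.base W hW _ (hP i)) (hR i))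
      · exact .base W hW _ ((hR (i - 1)).mem hΦ)
    · refine IsZero.of_iso ?_ (coconeXIso φ i)
      rw [biprod_isZero_iff]
      simp only [List.length_cons, Nat.cast_add, Nat.cast_one] at h2
      refine ⟨IsZero.of_iso ?_ (hK i).some, (CechOX.pushRestr W).map_isZero (hRb b hb _ (by omega))⟩
      rw [biprod_isZero_iff]
      exact ⟨(CechOX.pushRestr W).map_isZero (hb i (by omega)), hRb b hb i (by omega)⟩
    · refine IsZero.of_iso ?_ (coconeXIso φ i)
      rw [biprod_isZero_iff]
      refine ⟨IsZero.of_iso ?_ (hK i).some, (CechOX.pushRestr W).map_isZero (hRa b hb _ (by omega))⟩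
      rw [biprod_isZero_iff]
      exact ⟨(CechOX.pushRestr W).map_isZero (hb i h1), hRa b hb i h1⟩
    · let G := (sec V).mapHomologicalComplex up
      by_cases hVW : V ≤ W
      · haveI : ∀ M : CochainComplex X.Modules ℤ, IsIso (G.map ((ηCx W).app M)) := fun M => by
          haveI : ∀ i, IsIso ((G.map ((ηCx W).app M)).f i) := fun i =>
            (ConcreteCategory.isIso_iff_bijective _).2 (bijective_η_app W (M.X i) hVW)
          exact HomologicalComplex.Hom.isIso_of_components _
        haveI : QuasiIso (G.map ((biprod.inr : R ⟶ _) ≫ φ)) := by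
          simp only [φ, biprod.inr_desc, Functor.map_neg]
          haveI : IsIso (-G.map ((ηCx W).app R)) :=
            ⟨-inv (G.map ((ηCx W).app R)), by simp, by simp⟩
          infer_instance
        haveI := quasiIso_cocone_proj (sec V) φ (biprod.inl : (JCx W).obj P ⟶ _) biprod.inr
          biprod.fst biprod.snd biprod.inl_fst biprod.inr_fst biprod.total
        haveI : QuasiIso (G.map a' ≫ G.map (CochainComplex.mappingCocone.fst φ ≫ biprod.fst)) := by
          rw [← Functor.map_comp, ← Category.assoc, ha', biprod.lift_fst]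
          infer_instance
        exact quasiIso_of_comp_right (G.map a') (G.map (CochainComplex.mappingCocone.fst φ ≫ biprod.fst))
      · obtain ⟨U, hU, hVU⟩ := hVl
        have hUl : U ∈ l := by
          rcases List.mem_cons.1 hU with rfl | h
          · exact absurd hVU hVW
          · exact h
        haveI : QuasiIso (G.map ((biprod.inl : (JCx W).obj P ⟶ _ ⊞ R) ≫ φ)) := by
          simp only [φ, biprod.inl_desc]
          have hcut : W.ι ''ᵁ (W.ι ⁻¹ᵁ V) = W ⊓ V := image_preimage_eq W V
          exact hq (W.ι ''ᵁ (W.ι ⁻¹ᵁ V)) (hcut ▸ hW.inf hV)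
            ⟨U, hUl, hcut.le.trans (inf_le_right.trans hVU)⟩
        haveI := quasiIso_cocone_proj (sec V) φ (biprod.inr : R ⟶ _) biprod.inl
          biprod.snd biprod.fst biprod.inr_snd biprod.inl_snd (by rw [add_comm]; exact biprod.total)
        haveI : QuasiIso (G.map a' ≫ G.map (CochainComplex.mappingCocone.fst φ ≫ biprod.snd)) := by
          rw [← Functor.map_comp, ← Category.assoc, ha', biprod.lift_snd]
          exact hq V hV ⟨U, hUl, hVU⟩
        exact quasiIso_of_comp_right (G.map a') (G.map (CochainComplex.mappingCocone.fst φ ≫ biprod.snd))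

/-- Finite resolutions by direct images from the members of an affine cover. -/
theorem exists_res_of_cover [IsAffineHom (pullback.diagonal (terminal.from X))] (hΦ : Closed Φ)
    (P : CochainComplex X.Modules ℤ) (hP : ∀ i, Φ (P.X i)) {N : ℕ} (U : Fin (N + 1) → X.Opens)
    (hU : ∀ i, IsAffineOpen (U i)) (hcov : ⨆ i, U i = ⊤) :
    ∃ (R : CochainComplex X.Modules ℤ) (a : P ⟶ R), QuasiIso a ∧
      (∀ i, Elem Φ (R.X i)) ∧
      (∀ b, (∀ i, b < i → IsZero (P.X i)) → ∀ i, b + N < i → IsZero (R.X i)) ∧
      (∀ b, (∀ i, i < b → IsZero (P.X i)) → ∀ i, i < b → IsZero (R.X i)) := by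
  obtain ⟨R, a, hR, hb, ha, hq⟩ := exists_res hΦ P hP (List.ofFn U) fun W hW => by
    obtain ⟨i, rfl⟩ := List.mem_ofFn.1 hW
    exact hU i
  refine ⟨R, a, quasiIso_of_sections a fun y O hy => ?_, hR, fun b hb' i hi => ?_, ha⟩
  · obtain ⟨j, hj⟩ := Opens.mem_iSup.1 (hcov.ge (Opens.mem_top y))
    obtain ⟨_, ⟨V, hV, rfl⟩, hyV, hle⟩ :=
      X.isBasis_affineOpens.exists_subset_of_mem_open (show y ∈ O ⊓ U j from ⟨hy, hj⟩) (O ⊓ U j).2
    exact ⟨V, fun z hz => (hle hz).1, hyV, hq V hV
      ⟨U j, List.mem_ofFn.2 ⟨j, rfl⟩, fun z hz => (hle hz).2⟩⟩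
  · refine hb b hb' i ?_
    rw [List.length_ofFn]
    omega

end Groth.HTorGeom
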