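import Groth.Agent.HTopHyper.HTor.GammaBC
import Groth.Agent.SuppCx.LBaseChangeRgamma
import Groth.Agent.CohBase.RelAmpleVanish
import Groth.Agent.Dual3Deligne.Basic

/-!
Pullback along a change of affine base preserves quasi-isomorphisms of bounded above complexes with
flat quasi-coherent terms.
-/

universe u

open CategoryTheory CategoryTheory.Limits AlgebraicGeometry Opposite TopologicalSpace
open scoped TensorProduct

attribute [local instance] HasDerivedCategory.standard

set_option maxHeartbeats 2000000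
set_option synthInstance.maxHeartbeats 200000
set_option backward.isDefEq.respectTransparency false
set_option linter.style.haveILetI false

namespace Groth.HTorGeom

local notation "up" => ComplexShape.up ℤ

variable {X : Scheme.{u}}

theorem quasiIso_iff_acyclic_cone {C : Type*} [Category C] [Abelian C] [HasDerivedCategory C]
    {K L : CochainComplex C ℤ} (φ : K ⟶ L) :
    QuasiIso φ ↔ (CochainComplex.mappingCone φ).Acyclic := by
  refine Iff.trans (show QuasiIso φ ↔ HomologicalComplex.quasiIso _ _ φ from Iff.rfl) ?_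
  rw [← HomotopyCategory.quotient_map_mem_quasiIso_iff,
    HomotopyCategory.quasiIso_eq_trW_subcategoryAcyclic,
    ← HomotopyCategory.quotient_obj_mem_subcategoryAcyclic_iff_acyclic]
  exact (HomotopyCategory.subcategoryAcyclic _).trW_iff_of_distinguished _
    (HomotopyCategory.mappingCone_triangleh_distinguished _)

theorem isQCoh_cone {K L : CochainComplex X.Modules ℤ} (φ : K ⟶ L)
    (hK : ∀ i, (K.X i).IsQuasicoherent) (hL : ∀ i, (L.X i).IsQuasicoherent) (i : ℤ) :
    ((CochainComplex.mappingCone φ).X i).IsQuasicoherent := by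
  haveI := hK (i + 1)
  haveI := hL i
  exact (Groth.QCohMod.isQCoh_iff_of_iso
    (HomologicalComplex.homotopyCofiber.XIsoBiprod φ i (i + 1) rfl)).2 inferInstance

/-- Sections on an affine open preserve quasi-isomorphisms of quasi-coherent complexes. -/
theorem quasiIso_sec_of_quasiIso {K L : CochainComplex X.Modules ℤ} (φ : K ⟶ L) [QuasiIso φ]
    (hK : ∀ i, (K.X i).IsQuasicoherent) (hL : ∀ i, (L.X i).IsQuasicoherent) {V : X.Opens}
    (hV : IsAffineOpen V) : QuasiIso (((sec V).mapHomologicalComplex up).map φ) := by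
  refine (quasiIso_iff_acyclic_cone _).2 fun n => ?_
  refine HomologicalComplex.ExactAt.of_iso ?_
    (CochainComplex.mappingCone.mapHomologicalComplexIso φ (sec V))
  rw [HomologicalComplex.exactAt_iff' _ (n - 1) n (n + 1) (by simp) (by simp),
    ShortComplex.ab_exact_iff]
  intro x hx
  have hS := (quasiIso_iff_acyclic_cone φ).1 inferInstance n
  rw [HomologicalComplex.exactAt_iff' _ (n - 1) n (n + 1) (by simp) (by simp)] at hS
  haveI := isQCoh_cone φ hK hL (n - 1)
  haveI := isQCoh_cone φ hK hL n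
  haveI := isQCoh_cone φ hK hL (n + 1)
  exact @Groth.QCohMod.exists_app_eq_of_exact _ _ hS ‹_› ‹_› ‹_› _ hV x hx

/-- A map of quasi-coherent complexes inducing quasi-isomorphisms on the sections over an affine
cover is a quasi-isomorphism. -/
theorem quasiIso_of_sections_cover {K L : CochainComplex X.Modules ℤ} (φ : K ⟶ L)
    (hK : ∀ i, (K.X i).IsQuasicoherent) (hL : ∀ i, (L.X i).IsQuasicoherent) {ι : Type*}
    (W : ι → X.Opens) (hW : ∀ i, IsAffineOpen (W i)) (hcov : ⨆ i, W i = ⊤)
    (h : ∀ i, QuasiIso (((sec (W i)).mapHomologicalComplex up).map φ)) : QuasiIso φ := by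
  refine (quasiIso_iff_acyclic_cone φ).2 fun n => ?_
  let C := CochainComplex.mappingCone φ
  haveI : ∀ q, (C.X q).IsQuasicoherent := isQCoh_cone φ hK hL
  haveI := Groth.Dual3Deligne.isQCoh_homology C n
  rw [HomologicalComplex.exactAt_iff_isZero_homology]
  refine Groth.CohBase.isZero_of_sections_cover _ W hW hcov fun i => subsingleton_of_forall_eq 0 fun t => ?_
  obtain ⟨z, rfl⟩ := Groth.Dual3Deligne.surjective_homologyπ_app C n (hW i) t
  have hE : (((sec (W i)).mapHomologicalComplex up).obj C).ExactAt n :=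
    HomologicalComplex.ExactAt.of_iso ((quasiIso_iff_acyclic_cone _).1 (h i) n)
      (CochainComplex.mappingCone.mapHomologicalComplexIso φ (sec (W i))).symm
  rw [HomologicalComplex.exactAt_iff' _ (n - 1) n (n + 1) (by simp) (by simp),
    ShortComplex.ab_exact_iff] at hE
  obtain ⟨w, hw⟩ := hE ((C.iCycles n).app (W i) z)
    (congr(($(C.iCycles_d n (n + 1))).app (W i) z))
  have hinj : Function.Injective ((C.iCycles n).app (W i)) :=
    Groth.QCohMod.app_injective_of_mono (C.iCycles n) (W i)
  have hz : (C.toCycles (n - 1) n).app (W i) w = z :=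
    hinj ((congr(($(C.toCycles_i (n - 1) n)).app (W i) w)).trans hw)
  rw [← hz]
  exact congr(($(C.toCycles_comp_homologyπ (n - 1) n)).app (W i) w)

section BaseChange

variable {A A' : Type u} [CommRing A] [CommRing A'] {φ : A →+* A'} {X' : Scheme.{u}}
  {f : X ⟶ Spec (CommRingCat.of A)} {f' : X' ⟶ Spec (CommRingCat.of A')} {g' : X' ⟶ X}

/-- The base change map of global sections is bijective on an affine scheme. -/
theorem isIso_θ_of_isAffine [IsAffine X] (sq : IsPullback g' f' f (Spec.map (CommRingCat.ofHom φ)))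
    (M : X.Modules) [M.IsQuasicoherent] : IsIso ((θ sq.w).app M) := by
  haveI : IsAffineHom (⊤ : X.Opens).ι := inferInstanceAs (IsAffineHom (Scheme.topIso X).hom)
  haveI := isIso_θ_base sq (isAffineOpen_top X) M
  haveI : IsIso ((η (⊤ : X.Opens)).app M) :=
    Scheme.Modules.Hom.isIso_iff_isIso_app.2 fun V =>
      (ConcreteCategory.isIso_iff_bijective _).2 (bijective_η_app ⊤ M le_top)
  exact (NatTrans.isIso_app_iff_of_iso (θ sq.w) (asIso ((η (⊤ : X.Opens)).app M))).2 inferInstance

theorem quasiIso_pullback_of_flat (sq : IsPullback g' f' f (Spec.map (CommRingCat.ofHom φ)))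
    {K L : CochainComplex X.Modules ℤ} (a : K ⟶ L) [QuasiIso a]
    (hK : letI : X.Over (Spec (CommRingCat.of A)) := ⟨f⟩; ∀ i, FlatSec A (K.X i))
    (hL : letI : X.Over (Spec (CommRingCat.of A)) := ⟨f⟩; ∀ i, FlatSec A (L.X i))
    (b : ℤ) (hKb : ∀ i, b < i → IsZero (K.X i)) (hLb : ∀ i, b < i → IsZero (L.X i)) :
    QuasiIso ((HTor.pullCx g').map a) := by
  let : X.Over (Spec (CommRingCat.of A)) := ⟨f⟩
  haveI : IsAffineHom g' := MorphismProperty.of_isPullback (P := @IsAffineHom) sq.flip inferInstance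
  have hKq : ∀ i, (K.X i).IsQuasicoherent := fun i => (hK i).1
  have hLq : ∀ i, (L.X i).IsQuasicoherent := fun i => (hL i).1
  have hq : ∀ M : X.Modules, M.IsQuasicoherent → ((Scheme.Modules.pullback g').obj M).IsQuasicoherent :=
    fun M h => by haveI := h; infer_instance
  refine quasiIso_of_sections_cover _ (fun i => hq _ (hKq i)) (fun i => hq _ (hLq i))
    (fun V : X.affineOpens => (g' ⁻¹ᵁ V.1).ι ''ᵁ ⊤)
    (fun V => by rw [Scheme.Opens.ι_image_top]; exact V.2.preimage g')
    (by simp only [Scheme.Opens.ι_image_top]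
        rw [← Scheme.Hom.preimage_iSup, iSup_affineOpens_eq_top, Scheme.Hom.preimage_top]) fun V => ?_
  haveI : IsAffine V.1.toScheme := V.2
  let fV := V.1.ι ≫ f
  let fV' := (g' ⁻¹ᵁ V.1).ι ≫ f'
  have sqV : IsPullback (g' ∣_ V.1) fV' fV (Spec.map (CommRingCat.ofHom φ)) :=
    Groth.CohBase.RelCechBC.isPullback_restrict sq V.1
  let rV := (Scheme.Modules.restrictFunctor V.1.ι).mapHomologicalComplex up
  let ext := (ModuleCat.extendScalars.{u, u, u} φ).mapHomologicalComplex up
  have hU : IsAffineOpen (V.1.ι ''ᵁ (⊤ : V.1.toScheme.Opens)) := by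
    rw [Scheme.Opens.ι_image_top]; exact V.2
  have flatG : ∀ M : X.Modules, FlatSec A M →
      Module.Flat A ((HTor.globalSectionsA fV).obj (M.restrict V.1.ι)) := fun M hM => by
    haveI := hM.2 _ hU
    let e : (HTor.globalSectionsA fV).obj (M.restrict V.1.ι) ≃ₗ[A]
        Groth.CohBase.secA A M (V.1.ι ''ᵁ (⊤ : V.1.toScheme.Opens)) :=
      { AddEquiv.refl Γ(M, V.1.ι ''ᵁ (⊤ : V.1.toScheme.Opens)) with
        map_smul' := fun r s => by
          change (V.1.ι.appIso ⊤).inv (fV.appTop ((Scheme.ΓSpecIso (CommRingCat.of A)).inv r)) •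
              (show Γ(M, V.1.ι ''ᵁ (⊤ : V.1.toScheme.Opens)) from s) = _
          refine congrArg (fun c : Γ(X, V.1.ι ''ᵁ (⊤ : V.1.toScheme.Opens)) =>
            c • (show Γ(M, V.1.ι ''ᵁ (⊤ : V.1.toScheme.Opens)) from s)) ?_
          change (V.1.ι.appIso (V.1.ι ⁻¹ᵁ ⊤)).inv
              (V.1.ι.app ⊤ (f.appTop ((Scheme.ΓSpecIso (CommRingCat.of A)).inv r))) = _
          rw [Groth.CohBase.RelCechBC.smul_pushRestr]
          rfl }
    exact Module.Flat.of_linearEquiv e
  haveI : ∀ i, Module.Flat A (((ΓA fV).obj (rV.obj K)).X i) := fun i => flatG _ (hK i)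
  haveI : ∀ i, Module.Flat A (((ΓA fV).obj (rV.obj L)).X i) := fun i => flatG _ (hL i)
  haveI hG : QuasiIso ((ΓA fV).map (rV.map a)) := by
    rw [← HomologicalComplex.quasiIso_map_iff_of_preservesHomology ((ΓA fV).map (rV.map a))
      (forget₂ (ModuleCat.{u} A) AddCommGrpCat.{u})]
    exact quasiIso_sec_of_quasiIso a hKq hLq hU
  haveI hE : QuasiIso (ext.map ((ΓA fV).map (rV.map a))) :=
    Groth.SuppCx.CechExt.quasiIso_extF φ b (fun i hi => (HTor.globalSectionsA fV).map_isZero
        ((Scheme.Modules.restrictFunctor V.1.ι).map_isZero (hKb i hi)))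
      (fun i hi => (HTor.globalSectionsA fV).map_isZero
        ((Scheme.Modules.restrictFunctor V.1.ι).map_isZero (hLb i hi))) _
  let P' := (Scheme.Modules.pullback (g' ∣_ V.1)).mapHomologicalComplex up
  haveI : (Scheme.Modules.pullback (g' ∣_ V.1)).Additive :=
    (Scheme.Modules.pullbackPushforwardAdjunction _).left_adjoint_additive
  let t := NatTrans.mapHomologicalComplex (θ sqV.w) up
  have hiso : ∀ C : CochainComplex X.Modules ℤ, (∀ i, (C.X i).IsQuasicoherent) → IsIso (t.app (rV.obj C)) :=
    fun C hC => by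
      haveI : ∀ i, IsIso ((t.app (rV.obj C)).f i) := fun i => by
        haveI := hC i
        haveI : ((C.X i).restrict V.1.ι).IsQuasicoherent := inferInstance
        exact isIso_θ_of_isAffine sqV ((C.X i).restrict V.1.ι)
      exact HomologicalComplex.Hom.isIso_of_components _
  haveI : IsIso (t.app (rV.obj K)) := hiso K hKq
  haveI : IsIso (t.app (rV.obj L)) := hiso L hLq
  haveI hP : QuasiIso ((ΓA fV').map (P'.map (rV.map a))) :=
    quasiIso_of_arrow_mk_iso (ext.map ((ΓA fV).map (rV.map a))) _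
      (Arrow.isoMk (asIso (t.app (rV.obj K))) (asIso (t.app (rV.obj L))) (t.naturality (rV.map a)).symm)
  let e : Scheme.Modules.pullback g' ⋙ Scheme.Modules.restrictFunctor (g' ⁻¹ᵁ V.1).ι ≅
      Scheme.Modules.restrictFunctor V.1.ι ⋙ Scheme.Modules.pullback (g' ∣_ V.1) :=
    Functor.isoWhiskerLeft _ (Scheme.Modules.restrictFunctorIsoPullback _) ≪≫
      Scheme.Modules.pullbackComp _ _ ≪≫
      Scheme.Modules.pullbackCongr (morphismRestrict_ι g' V.1).symm ≪≫
      (Scheme.Modules.pullbackComp _ _).symm ≪≫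
      Functor.isoWhiskerRight (Scheme.Modules.restrictFunctorIsoPullback V.1.ι).symm _
  let s := NatIso.mapHomologicalComplex (Functor.isoWhiskerRight e (HTor.globalSectionsA fV')) up
  let rV' := (Scheme.Modules.restrictFunctor (g' ⁻¹ᵁ V.1).ι).mapHomologicalComplex up
  haveI : QuasiIso ((ΓA fV').map (rV'.map ((HTor.pullCx g').map a))) :=
    quasiIso_of_arrow_mk_iso ((ΓA fV').map (P'.map (rV.map a))) _
      (Arrow.isoMk (s.app K).symm (s.app L).symm (s.inv.naturality a).symm)
  rw [← HomologicalComplex.quasiIso_map_iff_of_preservesHomology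
    ((ΓA fV').map (rV'.map ((HTor.pullCx g').map a))) (forget₂ (ModuleCat.{u} A') AddCommGrpCat.{u})] at this
  exact this

end BaseChange

end Groth.HTorGeom
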