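import Groth.Prelude.Def_HTor
import Groth.Agent.FlatCxBase.Core
import Mathlib.Algebra.Category.ModuleCat.Monoidal.Symmetric

/-!
Elementwise API for the tensor product of cochain complexes of modules.
-/

set_option autoImplicit false
set_option backward.isDefEq.respectTransparency false

universe u

open CategoryTheory CategoryTheory.Limits MonoidalCategory HomologicalComplex
open scoped TensorProduct

namespace Groth.HTorLib

variable {A : Type u} [CommRing A]

/-- the inclusion of a summand of the tensor product complex, on elements -/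
noncomputable def ι' (L M : DRing.Cx A) (i j n : ℤ) (h : i + j = n) :
    L.X i ⊗[A] M.X j →ₗ[A] (HTor.tensorCx L M).X n :=
  (ιTensorObj L M i j n h).hom

lemma d_ι' (L M : DRing.Cx A) (i j n : ℤ) (h : i + j = n) (n' : ℤ) (hn : n + 1 = n')
    (x : L.X i) (y : M.X j) :
    (HTor.tensorCx L M).d n n' (ι' L M i j n h (x ⊗ₜ y)) =
      ι' L M (i + 1) j n' (by omega) (L.d i (i + 1) x ⊗ₜ y) +
        (i.negOnePow : ℤ) • ι' L M i (j + 1) n' (by omega) (x ⊗ₜ M.d j (j + 1) y) := by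
  have e : ιTensorObj L M i j n h ≫ (HTor.tensorCx L M).d n n' =
      (L.d i (i + 1) ▷ M.X j) ≫ ιTensorObj L M (i + 1) j n' (by omega) +
        (i.negOnePow : ℤ) • ((L.X i ◁ M.d j (j + 1)) ≫ ιTensorObj L M i (j + 1) n' (by omega)) := by
    rw [mapBifunctor.d_eq, Preadditive.comp_add, mapBifunctor.ι_D₁, mapBifunctor.ι_D₂]
    rw [mapBifunctor.d₁_eq L M (curriedTensor _) (ComplexShape.up ℤ)
      (show (ComplexShape.up ℤ).Rel i (i + 1) from rfl) j n' (show i + 1 + j = n' by omega)]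
    rw [mapBifunctor.d₂_eq L M (curriedTensor _) (ComplexShape.up ℤ) i
      (show (ComplexShape.up ℤ).Rel j (j + 1) from rfl) n' (show i + (j + 1) = n' by omega)]
    simp only [ComplexShape.ε₁, TotalComplexShape.ε₁, ComplexShape.ε₂, TotalComplexShape.ε₂,
      ComplexShape.ε, ComplexShape.TensorSigns.ε', one_smul]
    rfl
  exact LinearMap.congr_fun (congrArg ModuleCat.Hom.hom e) (x ⊗ₜ y)

lemma tensorHom_ι' {L L' M M' : DRing.Cx A} (f : L ⟶ L') (g : M ⟶ M') (i j n : ℤ)
    (h : i + j = n) (x : L.X i) (y : M.X j) :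
    (HomologicalComplex.tensorHom f g).f n (ι' L M i j n h (x ⊗ₜ y)) =
      ι' L' M' i j n h (f.f i x ⊗ₜ g.f j y) := by
  have e := ι_mapBifunctorMap f g (curriedTensor (ModuleCat.{u} A)) (ComplexShape.up ℤ) i j n h
  exact LinearMap.congr_fun (congrArg ModuleCat.Hom.hom e) (x ⊗ₜ y)

/-- `⊕_{i + j = n} L^i ⊗ M^j` -/
abbrev Sum (L M : DRing.Cx A) (n : ℤ) : Type u :=
  DirectSum (HTor.Antidiag n) fun ij => L.X ij.1.1 ⊗[A] M.X ij.1.2

/-- `⊕_{i + j = n} L^i ⊗ M^j → (L ⊗ M)^n` -/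
noncomputable def undec (L M : DRing.Cx A) (n : ℤ) :
    Sum L M n →ₗ[A] (HTor.tensorCx L M).X n :=
  DirectSum.toModule A _ _ fun ij => ι' L M ij.1.1 ij.1.2 n ij.2

lemma undec_lof (L M : DRing.Cx A) (n : ℤ) (ij : HTor.Antidiag n)
    (t : L.X ij.1.1 ⊗[A] M.X ij.1.2) :
    undec L M n (DirectSum.lof A (HTor.Antidiag n)
      (fun ij => L.X ij.1.1 ⊗[A] M.X ij.1.2) ij t) = ι' L M ij.1.1 ij.1.2 n ij.2 t :=
  DirectSum.toModule_lof A (φ := fun ij : HTor.Antidiag n => ι' L M ij.1.1 ij.1.2 n ij.2) ij t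

/-- `(L ⊗ M)^n → ⊕_{i + j = n} L^i ⊗ M^j` -/
noncomputable def decHom (L M : DRing.Cx A) (n : ℤ) :
    (HTor.tensorCx L M).X n ⟶ ModuleCat.of A (Sum L M n) :=
  mapBifunctorDesc fun i j h => ModuleCat.ofHom
    (DirectSum.lof A (HTor.Antidiag n) (fun ij => L.X ij.1.1 ⊗[A] M.X ij.1.2) ⟨(i, j), h⟩)

lemma decHom_ι' (L M : DRing.Cx A) (i j n : ℤ) (h : i + j = n) (t : L.X i ⊗[A] M.X j) :
    decHom L M n (ι' L M i j n h t) =
      DirectSum.lof A (HTor.Antidiag n) (fun ij => L.X ij.1.1 ⊗[A] M.X ij.1.2) ⟨(i, j), h⟩ t :=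
  LinearMap.congr_fun (congrArg ModuleCat.Hom.hom (ι_mapBifunctorDesc (K₁ := L) (K₂ := M)
    (F := curriedTensor (ModuleCat.{u} A)) (c := ComplexShape.up ℤ) (j := n)
    (fun i j h => ModuleCat.ofHom (DirectSum.lof A (HTor.Antidiag n)
      (fun ij => L.X ij.1.1 ⊗[A] M.X ij.1.2) ⟨(i, j), h⟩)) i j h)) t

/-- `(L ⊗ M)^n ≅ ⊕_{i + j = n} L^i ⊗ M^j` -/
noncomputable def dec (L M : DRing.Cx A) (n : ℤ) :
    (HTor.tensorCx L M).X n ≃ₗ[A] Sum L M n :=
  LinearEquiv.ofLinear (decHom L M n).hom (undec L M n)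
    (DirectSum.linearMap_ext _ fun ij => LinearMap.ext fun t => by
      refine (congrArg (decHom L M n).hom (undec_lof L M n ij t)).trans ?_
      exact decHom_ι' L M ij.1.1 ij.1.2 n ij.2 t)
    (by
      have : decHom L M n ≫ ModuleCat.ofHom (undec L M n) = 𝟙 _ := by
        refine mapBifunctor.hom_ext fun i j h => ModuleCat.hom_ext (LinearMap.ext fun t => ?_)
        refine (congrArg (undec L M n) (decHom_ι' L M i j n h t)).trans ?_
        exact undec_lof L M n ⟨(i, j), h⟩ t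
      exact congrArg ModuleCat.Hom.hom this)

lemma tensorCx_induction {L M : DRing.Cx A} {n : ℤ} {C : (HTor.tensorCx L M).X n → Prop}
    (x : (HTor.tensorCx L M).X n) (h0 : C 0)
    (hι : ∀ (i j : ℤ) (h : i + j = n) (a : L.X i) (b : M.X j), C (ι' L M i j n h (a ⊗ₜ b)))
    (hadd : ∀ a b, C a → C b → C (a + b)) : C x := by
  classical
  obtain ⟨s, rfl⟩ := (dec L M n).symm.surjective x
  induction s using DirectSum.induction_on with
  | zero => rwa [map_zero]
  | of ij t =>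
    have e : (dec L M n).symm (DirectSum.of _ ij t) = ι' L M ij.1.1 ij.1.2 n ij.2 t :=
      undec_lof L M n ij t
    rw [e]
    induction t using TensorProduct.induction_on with
    | zero => rwa [map_zero]
    | tmul a b => exact hι _ _ _ a b
    | add a b ha hb => rw [map_add]; exact hadd _ _ (ha (undec_lof L M n ij a)) (hb (undec_lof L M n ij b))
  | add a b ha hb => rw [map_add]; exact hadd _ _ ha hb

/-- two linear maps out of `(L ⊗ M)^n` agreeing on the summands agree -/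
lemma linearMap_ext {L M : DRing.Cx A} {n : ℤ} {V : Type u} [AddCommGroup V] [Module A V]
    {f g : (HTor.tensorCx L M).X n →ₗ[A] V}
    (h : ∀ (i j : ℤ) (hh : i + j = n) (a : L.X i) (b : M.X j),
      f (ι' L M i j n hh (a ⊗ₜ b)) = g (ι' L M i j n hh (a ⊗ₜ b))) : f = g :=
  LinearMap.ext fun x => tensorCx_induction (C := fun x => f x = g x) x (by simp) h
    fun a b ha hb => by simp [ha, hb]

end Groth.HTorLib
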