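import Groth.Agent.Misc4.PushAcyclicQCoh
import Groth.Agent.Misc4.QCohTildeD
import Groth.Agent.RelPC.Sections
import Groth.Agent.CohFin.Rpush
import Groth.Prelude.Def_HTor

/-!
Complexes of quasi-coherent modules with acyclic terms compute `RΓ` with values in `D(A)`.
-/

universe u

open CategoryTheory CategoryTheory.Limits AlgebraicGeometry Opposite

attribute [local instance] HasDerivedCategory.standard

set_option maxHeartbeats 1000000
set_option backward.isDefEq.respectTransparency false
set_option linter.style.haveILetI false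

namespace Groth.HTorGeom

open Groth.Misc4.DerivedAdj (exists_lift exists_homotopy)
open Groth.Misc4.QCohTildeD (exists_model)
open Groth.DerivedCoh.KFlat (pushCx kres kresAug)

local notation "up" => ComplexShape.up ℤ

local instance additive_Γ {A : Type u} [CommRing A] :
    (moduleSpecΓFunctor (R := CommRingCat.of A)).Additive :=
  Groth.Misc4.QCohTildeD.additive_Γ₀ (R := CommRingCat.of A)

/-- A quasi-isomorphism between K-injective complexes is a homotopy equivalence, hence survives any
additive functor. -/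
theorem quasiIso_map_of_isKInjective {C D : Type*} [Category C] [Category D] [Abelian C] [Abelian D]
    [HasDerivedCategory C] (G : C ⥤ D) [G.Additive] {I J : CochainComplex C ℤ} [I.IsKInjective]
    [J.IsKInjective] (ψ : I ⟶ J) [QuasiIso ψ] : QuasiIso ((G.mapHomologicalComplex up).map ψ) := by
  haveI := (DerivedCategory.isIso_Q_map_iff_quasiIso _ ψ).2 inferInstance
  obtain ⟨χ, hχ⟩ := exists_lift (inv (DerivedCategory.Q.map ψ))
  obtain ⟨h₁⟩ := exists_homotopy (f := ψ ≫ χ) (g := 𝟙 I) (by
    rw [Functor.map_comp, hχ, IsIso.hom_inv_id, CategoryTheory.Functor.map_id])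
  obtain ⟨h₂⟩ := exists_homotopy (f := χ ≫ ψ) (g := 𝟙 J) (by
    rw [Functor.map_comp, hχ, IsIso.inv_hom_id, CategoryTheory.Functor.map_id])
  exact inferInstanceAs (QuasiIso (G.mapHomotopyEquiv (⟨ψ, χ, h₁, h₂⟩ : HomotopyEquiv I J)).hom)

theorem quasiIso_of_homotopy {C : Type*} [Category C] [Abelian C] {K L : CochainComplex C ℤ}
    {φ φ' : K ⟶ L} (h : Homotopy φ φ') [QuasiIso φ] : QuasiIso φ' := by
  refine ⟨fun n => ?_⟩
  rw [quasiIsoAt_iff_isIso_homologyMap, ← h.homologyMap_eq n]
  infer_instance

/-- Global sections of complexes of quasi-coherent modules on an affine scheme compute `RΓ`. -/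
theorem quasiIso_Γ {R : CommRingCat.{u}} (E J : CochainComplex (Spec R).Modules ℤ) [J.IsKInjective]
    (hE : ∀ n, (E.X n).IsQuasicoherent) (a : E ⟶ J) [QuasiIso a] :
    QuasiIso (((moduleSpecΓFunctor (R := R)).mapHomologicalComplex up).map a) := by
  haveI := Groth.RelPC.preservesFiniteLimits_tilde' R
  let adj := tilde.adjunction (R := R)
  let G := (moduleSpecΓFunctor (R := R)).mapHomologicalComplex up
  let eE := Groth.Misc4.QCohTildeD.ε (R := R) E
  haveI : ∀ n, IsIso (eE.f n) := fun n => by
    haveI := hE n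
    exact inferInstanceAs (IsIso (Scheme.Modules.fromTildeΓ (E.X n)))
  haveI : IsIso eE := HomologicalComplex.Hom.isIso_of_components _
  obtain ⟨I, i, hI, hqi, hα⟩ := exists_model R (G.obj E)
  haveI := (DerivedCategory.isIso_Q_map_iff_quasiIso _ i).2 hqi
  obtain ⟨ψ, hψ⟩ := exists_lift (inv (DerivedCategory.Q.map i) ≫ DerivedCategory.Q.map (eE ≫ a))
  obtain ⟨H⟩ := exists_homotopy (f := i ≫ ψ) (g := eE ≫ a) (by
    rw [Functor.map_comp, hψ, IsIso.hom_inv_id_assoc])
  haveI : QuasiIso ψ := by
    rw [← DerivedCategory.isIso_Q_map_iff_quasiIso, hψ]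
    haveI := (DerivedCategory.isIso_Q_map_iff_quasiIso _ (eE ≫ a)).2 inferInstance
    infer_instance
  haveI : (moduleSpecΓFunctor (R := R)).Additive := Groth.Misc4.QCohTildeD.additive_Γ₀ (R := R)
  haveI : QuasiIso (G.map ψ) := quasiIso_map_of_isKInjective (moduleSpecΓFunctor (R := R)) ψ
  have H' : Homotopy (Groth.Misc4.DerivedAdj.adjunct adj i ≫ G.map ψ) (G.map a) := by
    refine (Homotopy.ofEq ?_).trans ((((moduleSpecΓFunctor (R := R)).mapHomotopy H).compLeft
      (Groth.Misc4.DerivedAdj.unit' adj (G.obj E))).trans (Homotopy.ofEq ?_))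
    · refine HomologicalComplex.hom_ext _ _ fun q => ?_
      show (adj.unit.app _ ≫ (moduleSpecΓFunctor (R := R)).map (i.f q)) ≫
          (moduleSpecΓFunctor (R := R)).map (ψ.f q) =
        adj.unit.app _ ≫ (moduleSpecΓFunctor (R := R)).map (i.f q ≫ ψ.f q)
      rw [Functor.map_comp, Category.assoc]
    · refine HomologicalComplex.hom_ext _ _ fun q => ?_
      show adj.unit.app _ ≫ (moduleSpecΓFunctor (R := R)).map (eE.f q ≫ a.f q) =
        (moduleSpecΓFunctor (R := R)).map (a.f q)
      rw [Functor.map_comp]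
      exact (reassoc_of% (adj.right_triangle_components (E.X q))) _
  haveI := hα
  exact quasiIso_of_homotopy H'

variable {A : Type u} [CommRing A] {X : Scheme.{u}} (f : X ⟶ Spec (CommRingCat.of A))

/-- Global sections of complexes, as complexes of `A`-modules. -/
noncomputable abbrev ΓA : CochainComplex X.Modules ℤ ⥤ DRing.Cx A :=
  (HTor.globalSectionsA f).mapHomologicalComplex up

/-- Global sections of the augmentation into a K-injective resolution. -/
theorem quasiIso_ΓA_aug [QuasiCompact f] [QuasiSeparated f] (C : CochainComplex X.Modules ℤ)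
    (hq : ∀ n, (C.X n).IsQuasicoherent)
    (hac : ∀ n, Groth.CohFin.RightAcyclic (Scheme.Modules.pushforward f) (C.X n)) :
    QuasiIso ((ΓA f).map ((kresAug X).app C)) := by
  haveI hg : QuasiIso ((pushCx f).map ((kresAug X).app C)) :=
    Groth.Misc4.PushAcyclicQCoh.good_of_acyclic_qcoh f C hq hac
  let G := (moduleSpecΓFunctor (R := CommRingCat.of A)).mapHomologicalComplex up
  let b := (pushCx f).map ((kresAug X).app C)
  let Y := Spec (CommRingCat.of A)
  let u := (kresAug Y).app ((pushCx f).obj ((kres X).obj C))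
  haveI hu : QuasiIso (G.map u) := by
    have h := Groth.Misc4.PushRestrict.isIso_gCx_aug f (Y := Y) ((kres X).obj C)
    have h' : QuasiIso ((Groth.Misc4.PushRestrict.gCx Y).map u) := by
      rw [← DerivedCategory.isIso_Q_map_iff_quasiIso]
      exact (NatIso.isIso_map_iff (DerivedCategory.quotientCompQhIso AddCommGrpCat.{u}) _).1 h
    rw [← HomologicalComplex.quasiIso_map_iff_of_preservesHomology (G.map u)
      (forget₂ (ModuleCat.{u} A) AddCommGrpCat.{u})]
    exact h'
  haveI : QuasiIso (G.map (b ≫ u)) := quasiIso_Γ _ _ (fun n => by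
    haveI := hq n
    exact Groth.QCohMod.isQCoh_pushforward (C.X n) f) (b ≫ u)
  rw [Functor.map_comp] at this
  haveI : QuasiIso (G.map b) := quasiIso_of_comp_right (G.map b) (G.map u)
  exact (inferInstance : QuasiIso (G.map b))

variable [HTor.HasRΓA f]

/-- Complexes of acyclic quasi-coherent modules compute `RΓ(X, -)`. -/
theorem computes_of_acyclic [QuasiCompact f] [QuasiSeparated f] (C : CochainComplex X.Modules ℤ)
    (hq : ∀ n, (C.X n).IsQuasicoherent)
    (hac : ∀ n, Groth.CohFin.RightAcyclic (Scheme.Modules.pushforward f) (C.X n)) :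
    HTor.Computes f ((ΓA f).obj C) (DCoh.toD X C) := by
  haveI := quasiIso_ΓA_aug f C hq hac
  haveI : IsIso (DerivedCategory.Q.map ((ΓA f).map ((kresAug X).app C))) :=
    (DerivedCategory.isIso_Q_map_iff_quasiIso _ _).2 inferInstance
  exact ⟨asIso (DerivedCategory.Q.map ((ΓA f).map ((kresAug X).app C))) ≪≫
    ((DerivedCategory.quotientCompQhIso (ModuleCat.{u} A)).app _).symm ≪≫
    ((Groth.Misc4.PushRestrict.resIso (HTor.globalSectionsA f)).app C).symm ≪≫
    (HTor.RΓA f).mapIso ((DerivedCategory.quotientCompQhIso X.Modules).app C)⟩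

/-- A complex of acyclic quasi-coherent modules quasi-isomorphic to `P` computes `RΓ(X, P)`. -/
theorem computes_of_quasiIso [QuasiCompact f] [QuasiSeparated f] {P C : CochainComplex X.Modules ℤ}
    (hq : ∀ n, (C.X n).IsQuasicoherent)
    (hac : ∀ n, Groth.CohFin.RightAcyclic (Scheme.Modules.pushforward f) (C.X n))
    (a : P ⟶ C) [QuasiIso a] : HTor.Computes f ((ΓA f).obj C) (DCoh.toD X P) := by
  obtain ⟨e⟩ := computes_of_acyclic f C hq hac
  haveI : IsIso (DerivedCategory.Q.map a) := (DerivedCategory.isIso_Q_map_iff_quasiIso _ _).2 inferInstance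
  exact ⟨e ≪≫ (HTor.RΓA f).mapIso (asIso (DerivedCategory.Q.map a)).symm⟩

omit [HTor.HasRΓA f] in
/-- A bounded above complex of projectives isomorphic in `D(A)` to a complex maps to it by a
quasi-isomorphism. -/
theorem exists_quasiIso_of_iso {L T : DRing.Cx A} (hL : ∀ i, Projective (L.X i)) (c : ℤ)
    (hc : ∀ i, c < i → IsZero (L.X i)) (e : DRing.toD L ≅ DRing.toD T) :
    ∃ q : L ⟶ T, QuasiIso q := by
  haveI : L.IsStrictlyLE c := (CochainComplex.isStrictlyLE_iff _ _).2 hc
  haveI := hL
  haveI : L.IsKProjective := CochainComplex.isKProjective_of_projective L c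
  let q := DerivedCategory.quotientCompQhIso (ModuleCat.{u} A)
  obtain ⟨g, hg⟩ := (CochainComplex.IsKProjective.Qh_map_bijective L
    ((HomotopyCategory.quotient _ up).obj T)).surjective (q.hom.app L ≫ e.hom ≫ q.inv.app T)
  obtain ⟨φ, rfl⟩ := (HomotopyCategory.quotient _ up).map_surjective g
  refine ⟨φ, (DerivedCategory.isIso_Q_map_iff_quasiIso _ φ).1 ?_⟩
  refine (NatIso.isIso_map_iff q φ).1 ?_
  rw [Functor.comp_map, hg]
  infer_instance

end Groth.HTorGeom
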