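import Groth.Agent.HTopHyper.HTor.ZeroDiff
import Mathlib.LinearAlgebra.Finsupp.LinearCombination
import Mathlib.LinearAlgebra.FreeModule.Basic

/-!
One step of dévissage: kill the cohomology of a complex by free modules.
-/

set_option autoImplicit false
set_option backward.isDefEq.respectTransparency false

universe u

open CategoryTheory CategoryTheory.Limits HomologicalComplex
open scoped TensorProduct

namespace Groth.HTorLib

variable {A : Type u} [CommRing A]

/-- free module surjecting onto `H^j M`, zero when `H^j M` is -/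
abbrev P (M : DRing.Cx A) (j : ℤ) : Type u := {h : M.homology j // h ≠ 0} →₀ A

noncomputable def piP (M : DRing.Cx A) (j : ℤ) : P M j →ₗ[A] M.homology j :=
  Finsupp.linearCombination A Subtype.val

lemma piP_surjective (M : DRing.Cx A) (j : ℤ) : Function.Surjective (piP M j) := fun h => by
  by_cases h0 : h = 0
  · exact ⟨0, by simp [h0]⟩
  · exact ⟨Finsupp.single ⟨h, h0⟩ 1, by simp [piP]⟩

/-- lift of `piP` to cycles -/
noncomputable def gP (M : DRing.Cx A) (j : ℤ) : P M j →ₗ[A] Z M j :=
  Finsupp.linearCombination A fun h => Function.surjInv (cl_surjective M j) h.1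

lemma cl_gP (M : DRing.Cx A) (j : ℤ) (q : P M j) : cl M j (gP M j q) = piP M j q := by
  have : (cl M j).comp (gP M j) = piP M j := by
    refine Finsupp.lhom_ext fun h c => ?_
    simp [gP, piP, Function.surjInv_eq]
  exact LinearMap.congr_fun this q

lemma subsingleton_P (M : DRing.Cx A) (j : ℤ) (h : Subsingleton (M.homology j)) :
    Subsingleton (P M j) := by
  have : IsEmpty {h : M.homology j // h ≠ 0} := ⟨fun x => x.2 (Subsingleton.elim _ _)⟩
  infer_instance

noncomputable def coneD (M : DRing.Cx A) (j : ℤ) :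
    ModuleCat.of A (M.X j × P M (j + 1)) ⟶ ModuleCat.of A (M.X (j + 1) × P M (j + 1 + 1)) :=
  ModuleCat.ofHom (LinearMap.prod
    (LinearMap.coprod (M.d j (j + 1)).hom ((Z M (j + 1)).subtype.comp (gP M (j + 1)))) 0)

/-- the cone killing the cohomology of `M` -/
noncomputable def cone (M : DRing.Cx A) : DRing.Cx A :=
  CochainComplex.of (fun j => ModuleCat.of A (M.X j × P M (j + 1))) (coneD M) fun j => by
    refine ModuleCat.hom_ext (LinearMap.ext fun x => ?_)
    obtain ⟨m, q⟩ := x
    refine Prod.ext ?_ rfl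
    change M.d (j + 1) (j + 1 + 1) (M.d j (j + 1) m + (gP M (j + 1) q).1) +
      (gP M (j + 1 + 1) 0).1 = 0
    rw [map_zero, map_add, mem_Z.1 (gP M (j + 1) q).2,
      mem_Z.1 (d_mem_Z M j (j + 1) m)]
    simp

lemma cone_d_apply (M : DRing.Cx A) (j : ℤ) (m : M.X j) (q : P M (j + 1)) :
    (cone M).d j (j + 1) ((m, q) : M.X j × P M (j + 1)) =
      ((M.d j (j + 1) m + (gP M (j + 1) q).1, 0) : M.X (j + 1) × P M (j + 1 + 1)) := by
  simp only [cone, CochainComplex.of_d]
  rfl

/-- the free complex with zero differential -/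
noncomputable def quot (M : DRing.Cx A) : DRing.Cx A :=
  CochainComplex.of (fun j => ModuleCat.of A (P M (j + 1))) (fun _ => 0) fun _ => comp_zero

lemma quot_d (M : DRing.Cx A) (j : ℤ) : (quot M).d j (j + 1) = 0 := by
  simp [quot, CochainComplex.of_d]

lemma quot_flat (M : DRing.Cx A) (j : ℤ) : Module.Flat A ((quot M).X j) :=
  inferInstanceAs (Module.Flat A (P M (j + 1)))

/-- the inclusion of a complex in its cone -/
noncomputable def incl (M : DRing.Cx A) : M ⟶ cone M where
  f j := ModuleCat.ofHom (LinearMap.inl A (M.X j) (P M (j + 1)))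
  comm' i j (h : i + 1 = j) := by
    subst h
    refine ModuleCat.hom_ext (LinearMap.ext fun m => ?_)
    refine (cone_d_apply M i m 0).trans ?_
    simp only [map_zero, ZeroMemClass.coe_zero, add_zero]
    rfl

/-- the projection of a cone on its free part -/
noncomputable def proj (M : DRing.Cx A) : cone M ⟶ quot M where
  f j := ModuleCat.ofHom (LinearMap.snd A (M.X j) (P M (j + 1)))
  comm' i j (h : i + 1 = j) := by
    subst h
    refine ModuleCat.hom_ext (LinearMap.ext fun x => ?_)
    obtain ⟨m, q⟩ := x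
    refine Eq.trans ?_ (congrArg (fun z : M.X (i + 1) × P M (i + 1 + 1) => z.2)
      (cone_d_apply M i m q)).symm
    rw [quot_d]
    rfl

lemma mem_Z_cone {M : DRing.Cx A} {j : ℤ} {m : M.X j} {q : P M (j + 1)} :
    ((m, q) : M.X j × P M (j + 1)) ∈ Z (cone M) j ↔
      M.d j (j + 1) m + (gP M (j + 1) q).1 = 0 := by
  refine (mem_Z (K := cone M)).trans ?_
  rw [cone_d_apply]
  exact ⟨fun h => congrArg (fun z : M.X (j + 1) × P M (j + 1 + 1) => z.1) h,
    fun h => Prod.ext h rfl⟩

/-- the cohomology of the cone, inside the free modules -/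
noncomputable def syz (M : DRing.Cx A) (j : ℤ) : (cone M).homology j →ₗ[A] P M (j + 1) :=
  liftCl (cone M) j ((LinearMap.snd A (M.X j) (P M (j + 1))).comp (Z (cone M) j).subtype)
    fun w => by
      have h0 : ∀ (i : ℤ) (_ : i + 1 = j) (w : (cone M).X i),
          LinearMap.snd A (M.X j) (P M (j + 1)) ((cone M).d i j w) = 0 := by
        rintro i rfl w
        obtain ⟨m, q⟩ := w
        exact congrArg (fun z : M.X (i + 1) × P M (i + 1 + 1) => z.2) (cone_d_apply M i m q)
      exact h0 _ (by omega) w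

lemma syz_injective (M : DRing.Cx A) (j : ℤ) : Function.Injective (syz M j) := by
  refine (injective_iff_map_eq_zero _).2 fun a ha => ?_
  obtain ⟨⟨⟨m, q⟩, hx⟩, rfl⟩ := cl_surjective (cone M) j a
  rw [syz, liftCl_cl] at ha
  obtain rfl : q = 0 := ha
  have hm : m ∈ Z M j := by simpa using mem_Z_cone.1 hx
  obtain ⟨q', hq'⟩ := piP_surjective M j (cl M j ⟨m, hm⟩)
  rw [← cl_gP] at hq'
  obtain ⟨w, hw⟩ := (cl_eq_zero_iff M j (⟨m, hm⟩ - gP M j q')).1
    (by rw [map_sub, hq', sub_self])
  refine (cl_eq_zero_iff _ _ _).2 ?_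
  have h0 : ∀ (i : ℤ) (_ : i + 1 = j) (w : M.X i), M.d i j w + (gP M j q').1 = m →
      ∃ v, (cone M).d i j v = ((m, 0) : M.X j × P M (j + 1)) := by
    rintro i rfl w he
    exact ⟨((w, q') : M.X i × P M (i + 1)), (cone_d_apply M i w q').trans (Prod.ext he rfl)⟩
  refine h0 (j - 1) (by omega) w ?_
  exact (congrArg (· + (gP M j q').1) hw).trans (sub_add_cancel _ _)

lemma piP_syz (M : DRing.Cx A) (j : ℤ) (a : (cone M).homology j) :
    piP M (j + 1) (syz M j a) = 0 := by
  obtain ⟨⟨⟨m, q⟩, hx⟩, rfl⟩ := cl_surjective (cone M) j a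
  rw [syz, liftCl_cl]
  change piP M (j + 1) q = 0
  rw [← cl_gP]
  refine (cl_eq_zero_iff' M rfl _).2 ⟨-m, ?_⟩
  rw [map_neg, neg_eq_iff_add_eq_zero]
  exact mem_Z_cone.1 hx

lemma range_syz (M : DRing.Cx A) (j : ℤ) :
    LinearMap.range (syz M j) = LinearMap.ker (piP M (j + 1)) := by
  refine le_antisymm ?_ ?_
  · rintro _ ⟨a, rfl⟩; exact piP_syz M j a
  · intro q (hq : piP M (j + 1) q = 0)
    rw [← cl_gP] at hq
    obtain ⟨w, hw⟩ := (cl_eq_zero_iff' M rfl _).1 hq
    have hz : ((-w, q) : M.X j × P M (j + 1)) ∈ Z (cone M) j :=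
      mem_Z_cone.2 (by rw [map_neg, hw, neg_add_cancel])
    exact ⟨cl (cone M) j ⟨_, hz⟩, by rw [syz, liftCl_cl]; rfl⟩

lemma homologyMap_proj (M : DRing.Cx A) (j : ℤ) (a : (cone M).homology j) :
    homologyMap (proj M) j a = toH (quot M) (quot_d M) j (syz M j a) := by
  obtain ⟨x, rfl⟩ := cl_surjective (cone M) j a
  rw [map_cl, syz, liftCl_cl]
  exact cl_congr _ _ rfl

end Groth.HTorLib
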