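import Groth.Agent.HTopHyper.HTor.Step
import Groth.Agent.HTopHyper.HTor.TorKer
import Groth.Agent.DerivedCoh.KFlat.Generic
import Mathlib.Algebra.Category.ModuleCat.Monoidal.Closed
import Mathlib.RingTheory.Flat.CategoryTheory
import Mathlib.Algebra.Category.ModuleCat.AB
import Mathlib.Algebra.Homology.Embedding.CochainComplex

/-!
The dévissage filtration on `H^n(L ⊗ M)`.
-/

set_option autoImplicit false
set_option backward.isDefEq.respectTransparency false

universe u

open CategoryTheory CategoryTheory.Limits MonoidalCategory HomologicalComplex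
open scoped TensorProduct

namespace Groth.HTorLib

variable {A : Type u} [CommRing A]

/-- tensoring on the left by a bounded above complex of flat modules preserves quasi-isomorphisms -/
theorem quasiIso_tensorHom (L M Q : DRing.Cx A) (η : M ⟶ Q) [QuasiIso η]
    (hL : DRing.TermwiseFlat L) (bL : ∃ b : ℤ, DRing.VanishesAbove L b) :
    QuasiIso (HomologicalComplex.tensorHom (𝟙 L) η) := by
  obtain ⟨b, hb⟩ := bL
  have : IsFiltered (AsSmall.{u} ℕ) := IsFiltered.of_equivalence AsSmall.equiv
  have := AB5OfSize.ofShape (C := ModuleCat.{u} A) (AsSmall.{u} ℕ)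
  have : HasExactColimitsOfShape ℕ (ModuleCat.{u} A) :=
    HasExactColimitsOfShape.of_domain_equivalence _ AsSmall.equiv.symm
  have : ∀ J : Type, HasExactColimitsOfShape (Discrete J) (ModuleCat.{u} A) := fun J =>
    HasExactColimitsOfShape.of_domain_equivalence _
      (Discrete.equivalence (Equiv.ulift : ULift.{u} J ≃ J))
  have hflat : ∀ q, Groth.DerivedCoh.KFlat.Flat (curriedTensor (ModuleCat.{u} A)).flip (L.X q) := by
    intro q S hS
    have := hL q
    have : PreservesFiniteLimits (tensorLeft (L.X q)) :=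
      (Module.Flat.iff_preservesFiniteLimits_tensorLeft (L.X q)).1 this
    exact hS.map_of_exact (tensorLeft (L.X q))
  exact Groth.DerivedCoh.KFlat.quasiIso_totR (curriedTensor (ModuleCat.{u} A))
    (Groth.DerivedCoh.KFlat.isKFlat_of_flat _ L b hb hflat) η

/-- `H^n(L ⊗ M) = 0` above the sum of the bounds -/
theorem subsingleton_homology_tensor (L M : DRing.Cx A) (bL bM : ℤ)
    (hL : DRing.VanishesAbove L bL) (hM : DRing.VanishesAbove M bM) (n : ℤ) (hn : bL + bM < n) :
    Subsingleton ((HTor.tensorCx L M).homology n) := by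
  refine subsingleton_homology_of_isZero _ n ?_
  rw [ModuleCat.isZero_iff_subsingleton]
  refine subsingleton_of_forall_eq 0 fun x => tensorCx_induction (C := fun x => x = 0) x rfl
    (fun i j h a b => ?_) (fun a b ha hb => by rw [ha, hb, add_zero])
  rcases (show bL < i ∨ bM < j by omega) with hi | hj
  · have := ModuleCat.subsingleton_of_isZero (hL i hi)
    rw [Subsingleton.elim a 0, TensorProduct.zero_tmul, map_zero]
  · have := ModuleCat.subsingleton_of_isZero (hM j hj)
    rw [Subsingleton.elim b 0, TensorProduct.tmul_zero, map_zero]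

/-- `H^n(L ⊗ M) = 0` when `H^j(M) = 0` for all `j > c` and `bL + c < n` -/
theorem subsingleton_homology_tensor' (L M : DRing.Cx A) (hL : DRing.TermwiseFlat L)
    (bL : ℤ) (hbL : DRing.VanishesAbove L bL) (c : ℤ)
    (hM : ∀ j, c < j → Subsingleton (M.homology j)) (n : ℤ) (hn : bL + c < n) :
    Subsingleton ((HTor.tensorCx L M).homology n) := by
  have hle : M.IsLE c := (CochainComplex.isLE_iff M c).2 fun j hj =>
    (M.exactAt_iff_isZero_homology j).2 ((ModuleCat.isZero_iff_subsingleton).2 (hM j hj))
  have : QuasiIso (M.ιTruncLE c) := (CochainComplex.quasiIso_ιTruncLE_iff M c).2 hle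
  have := quasiIso_tensorHom L (M.truncLE c) M (M.ιTruncLE c) hL ⟨bL, hbL⟩
  have h0 := subsingleton_homology_tensor L (M.truncLE c) bL c hbL
    (fun j hj => CochainComplex.isZero_of_isStrictlyLE (M.truncLE c) c j hj) n hn
  have e := isoOfQuasiIsoAt (HomologicalComplex.tensorHom (𝟙 L) (M.ιTruncLE c)) n
  exact e.toLinearEquiv.symm.injective.subsingleton

/-- iterated cones -/
noncomputable def Mp (M : DRing.Cx A) : ℕ → DRing.Cx A
  | 0 => M
  | p + 1 => cone (Mp M p)

lemma Mp_succ (M : DRing.Cx A) : ∀ p, Mp M (p + 1) = Mp (cone M) p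
  | 0 => rfl
  | p + 1 => congrArg cone (Mp_succ M p)

lemma subsingleton_homology_cone (M : DRing.Cx A) (j : ℤ)
    (h : Subsingleton (M.homology (j + 1))) : Subsingleton ((cone M).homology j) := by
  have := subsingleton_P M (j + 1) h
  exact (syz_injective M j).subsingleton

lemma subsingleton_homology_Mp (M : DRing.Cx A) (b : ℤ)
    (h : ∀ j, b < j → Subsingleton (M.homology j)) :
    ∀ (p : ℕ) (j : ℤ), b - p < j → Subsingleton ((Mp M p).homology j)
  | 0, j, hj => h j (by simpa using hj)
  | p + 1, j, hj => subsingleton_homology_cone _ j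
      (subsingleton_homology_Mp M b h p (j + 1) (by push_cast at hj ⊢; omega))

lemma exact_syz (M : DRing.Cx A) (j : ℤ) : Function.Exact (syz M j) (piP M (j + 1)) :=
  LinearMap.exact_iff.2 (range_syz M j).symm

theorem tor_Mp (H : Type u) [AddCommGroup H] [Module A H] (p : ℕ) :
    ∀ (M : DRing.Cx A) (j k : ℤ), k = j + p + 1 →
      Nonempty (DRing.Tor A (p + 1) H (M.homology k) ≃ₗ[A]
        LinearMap.ker ((syz (Mp M p) j).lTensor H)) := by
  induction p with
  | zero =>
    intro M j k hk
    obtain rfl : k = j + 1 := by simpa using hk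
    exact tor_one_equiv (syz_injective M j) (piP_surjective M (j + 1)) (exact_syz M j)
  | succ q ih =>
    intro M j k hk
    obtain ⟨k', rfl⟩ : ∃ k', k = k' + 1 := ⟨k - 1, by omega⟩
    obtain ⟨e₁⟩ := tor_shift (H := H) (syz_injective M k') (piP_surjective M (k' + 1))
      (exact_syz M k') q
    obtain ⟨e₂⟩ := ih (cone M) j k' (by push_cast at hk; omega)
    rw [Mp_succ]
    exact ⟨e₁.trans e₂⟩

variable (L M : DRing.Cx A) (n : ℤ)

/-- `H^n(L ⊗ M) → H^n(L ⊗ M_p)` -/
noncomputable def phi : (p : ℕ) →
    (HTor.tensorCx L M).homology n →ₗ[A] (HTor.tensorCx L (Mp M p)).homology n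
  | 0 => LinearMap.id
  | p + 1 =>
      (homologyMap (HomologicalComplex.tensorHom (𝟙 L) (incl (Mp M p))) n).hom.comp (phi p)

/-- the filtration -/
noncomputable def Fil (p : ℕ) : Submodule A ((HTor.tensorCx L M).homology n) :=
  LinearMap.ker (phi L M n (p + 1))

lemma Fil_zero : Fil L M n 0 = LinearMap.range (kun L M n) := by
  rw [← ker_eq_range]
  rfl

lemma Fil_monotone : Monotone (Fil L M n) :=
  monotone_nat_of_le_succ fun p x hx => by
    change homologyMap (HomologicalComplex.tensorHom (𝟙 L) (incl (Mp M (p + 1)))) n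
      (phi L M n (p + 1) x) = 0
    rw [show phi L M n (p + 1) x = 0 from hx, map_zero]

lemma exists_Fil_eq_top (hL : DRing.TermwiseFlat L) (bL : ∃ b : ℤ, DRing.VanishesAbove L b)
    (bM : ∃ b : ℤ, DRing.VanishesAbove M b) : ∃ N, Fil L M n N = ⊤ := by
  obtain ⟨l, hl⟩ := bL
  obtain ⟨b, hb⟩ := bM
  refine ⟨(l + b - n + 1).toNat, eq_top_iff.2 fun x _ => ?_⟩
  have := subsingleton_homology_tensor' L (Mp M ((l + b - n + 1).toNat + 1)) hL l hl
    (b - (((l + b - n + 1).toNat + 1 : ℕ) : ℤ))
    (subsingleton_homology_Mp M b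
      (fun j hj => subsingleton_homology_of_isZero M j (hb j hj)) _) n (by omega)
  exact LinearMap.mem_ker.2 (Subsingleton.elim _ _)

/-- kernel of `⊕ H^i L ⊗ H^j(cone M) → ⊕ H^i L ⊗ H^j(quot M)` -/
theorem kerMapK_equiv :
    Nonempty (LinearMap.ker (mapK L (proj M) n) ≃ₗ[A]
      DirectSum (HTor.Antidiag n)
        fun ij => LinearMap.ker ((syz M ij.1.2).lTensor (L.homology ij.1.1))) := by
  classical
  have hker : ∀ (ij : HTor.Antidiag n) (t : L.homology ij.1.1 ⊗[A] (cone M).homology ij.1.2),
      (homologyMap (proj M) ij.1.2).hom.lTensor (L.homology ij.1.1) t = 0 ↔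
        (syz M ij.1.2).lTensor (L.homology ij.1.1) t = 0 := by
    intro ij t
    have e : (homologyMap (proj M) ij.1.2).hom =
        (toH (quot M) (quot_d M) ij.1.2).comp (syz M ij.1.2) :=
      LinearMap.ext (homologyMap_proj M ij.1.2)
    rw [e, LinearMap.lTensor_comp_apply]
    have hb : Function.Bijective ((toH (quot M) (quot_d M) ij.1.2).lTensor (L.homology ij.1.1)) :=
      (LinearEquiv.lTensor (L.homology ij.1.1) (LinearEquiv.ofBijective _
        (toH_bijective (quot M) (quot_d M) ij.1.2))).bijective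
    exact map_eq_zero_iff _ hb.1
  let inc : (DirectSum (HTor.Antidiag n)
      fun ij => LinearMap.ker ((syz M ij.1.2).lTensor (L.homology ij.1.1))) →ₗ[A]
      HTor.KunnethSum L (cone M) n :=
    DirectSum.lmap fun ij => Submodule.subtype _
  have hinj : Function.Injective inc := fun x y h => DFinsupp.ext fun ij =>
    Subtype.ext (by
      have := congrArg (fun z : HTor.KunnethSum L (cone M) n => z ij) h
      simpa [inc] using this)
  have hrange : LinearMap.range inc = LinearMap.ker (mapK L (proj M) n) := by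
    refine le_antisymm ?_ fun x hx => ?_
    · rintro _ ⟨y, rfl⟩
      refine DFinsupp.ext fun ij => ?_
      simp only [mapK, inc, DirectSum.lmap_apply, Submodule.subtype_apply]
      exact (hker ij _).2 (y ij).2
    · refine ⟨DFinsupp.mk x.support fun ij => ⟨x ij.1, (hker ij.1 _).1 ?_⟩, DFinsupp.ext fun ij => ?_⟩
      · have := congrArg (fun z : HTor.KunnethSum L (quot M) n => z ij.1) (LinearMap.mem_ker.1 hx)
        simpa [mapK] using this
      · simp only [inc, DirectSum.lmap_apply, Submodule.subtype_apply]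
        by_cases h : ij ∈ x.support
        · rw [DFinsupp.mk_of_mem h]
        · rw [DFinsupp.mk_of_notMem h, ZeroMemClass.coe_zero, DFinsupp.notMem_support_iff.1 h]
  exact ⟨((LinearEquiv.ofInjective inc hinj).trans (LinearEquiv.ofEq _ _ hrange)).symm⟩

/-- reindexing `(i, j) ↦ (i, j + p + 1)` -/
def shiftEquiv (p : ℕ) :
    HTor.Antidiag n ≃ {ij : ℤ × ℤ // ij.1 + ij.2 - ((p + 1 : ℕ) : ℤ) = n} where
  toFun x := ⟨(x.1.1, x.1.2 + p + 1), by have := x.2; push_cast; omega⟩
  invFun y := ⟨(y.1.1, y.1.2 - p - 1), by have := y.2; push_cast at this; omega⟩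
  left_inv x := Subtype.ext (Prod.ext rfl (by simp; ring))
  right_inv y := Subtype.ext (Prod.ext rfl (by simp; ring))

theorem kerMapK_equiv_torSum (p : ℕ) :
    Nonempty (LinearMap.ker (mapK L (proj (Mp M p)) n) ≃ₗ[A] HTor.TorSum L M n (p + 1)) := by
  obtain ⟨e⟩ := kerMapK_equiv L (Mp M p) n
  let f := fun ij : HTor.Antidiag n =>
    (tor_Mp (L.homology ij.1.1) p M ij.1.2 (ij.1.2 + p + 1) rfl).some
  let g : (DirectSum (HTor.Antidiag n)
      fun ij => LinearMap.ker ((syz (Mp M p) ij.1.2).lTensor (L.homology ij.1.1))) →ₗ[A]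
      HTor.TorSum L M n (p + 1) :=
    DirectSum.toModule A _ _ fun ij => (DirectSum.lof A
      {ij : ℤ × ℤ // ij.1 + ij.2 - ((p + 1 : ℕ) : ℤ) = n}
      (fun kl => DRing.Tor A (p + 1) (L.homology kl.1.1) (M.homology kl.1.2))
      (shiftEquiv n p ij)).comp (f ij).symm.toLinearMap
  refine ⟨e.trans (LinearEquiv.ofBijective g ⟨?_, ?_⟩)⟩
  · refine fun x y hxy => DFinsupp.ext fun ij => ?_
    have key : ∀ z, g z (shiftEquiv n p ij) = (f ij).symm (z ij) := by
      intro z
      induction z using DirectSum.induction_on with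
      | zero =>
        exact (congrArg (fun w : HTor.TorSum L M n (p + 1) => w (shiftEquiv n p ij))
          (map_zero g)).trans (map_zero (f ij).symm).symm
      | add a b ha hb =>
        refine (congrArg (fun w : HTor.TorSum L M n (p + 1) => w (shiftEquiv n p ij))
          (map_add g a b)).trans ?_
        rw [DirectSum.add_apply, DirectSum.add_apply, map_add, ha, hb]
      | of kl t =>
        have e1 : g (DirectSum.of _ kl t) = DirectSum.of
            (fun kl => DRing.Tor A (p + 1) (L.homology kl.1.1) (M.homology kl.1.2))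
            (shiftEquiv n p kl) ((f kl).symm t) := by
          rw [← DirectSum.lof_eq_of A]
          exact DirectSum.toModule_lof A _ _
        refine (congrArg (fun w : HTor.TorSum L M n (p + 1) => w (shiftEquiv n p ij)) e1).trans ?_
        by_cases h : kl = ij
        · subst h
          exact (DirectSum.of_eq_same _ _).trans (congrArg _ (DirectSum.of_eq_same
            (β := fun ij : HTor.Antidiag n =>
              LinearMap.ker ((syz (Mp M p) ij.1.2).lTensor (L.homology ij.1.1))) kl t).symm)
        · refine (DirectSum.of_eq_of_ne _ _ _ fun e => h ((shiftEquiv n p).injective e).symm).trans ?_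
          rw [DirectSum.of_eq_of_ne _ _ _ (fun e => h e.symm), map_zero]
    exact (f ij).symm.injective ((key x).symm.trans
      ((congrArg (fun w : HTor.TorSum L M n (p + 1) => w (shiftEquiv n p ij)) hxy).trans (key y)))
  · intro y
    induction y using DirectSum.induction_on with
    | zero => exact ⟨0, map_zero _⟩
    | add a b ha hb =>
      obtain ⟨a', rfl⟩ := ha
      obtain ⟨b', rfl⟩ := hb
      exact ⟨a' + b', map_add _ _ _⟩
    | of kl t =>
      obtain ⟨ij, rfl⟩ := (shiftEquiv n p).surjective kl
      refine ⟨DirectSum.lof A _ _ ij (f ij t), ?_⟩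
      simp only [g, DirectSum.toModule_lof, LinearMap.comp_apply]
      exact (congrArg _ ((f ij).symm_apply_apply t)).trans (DirectSum.lof_eq_of A _ _ _ _)

lemma isSubquotient_of_injective {N T₀ T V : Type u} [AddCommGroup N] [Module A N]
    [AddCommMonoid T₀] [Module A T₀] [AddCommGroup T] [Module A T] [AddCommGroup V] [Module A V]
    (f : N →ₗ[A] V) (hf : Function.Injective f) (g : T₀ →ₗ[A] V) (e : T₀ ≃ₗ[A] T)
    (h : LinearMap.range f ≤ LinearMap.range g) : HTor.IsSubquotient A N T := by
  let g' : T →ₗ[A] V := g.comp e.symm.toLinearMap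
  refine ⟨LinearMap.ker g', Submodule.comap g' (LinearMap.range f), LinearMap.ker_le_comap g', ?_⟩
  let r : Submodule.comap g' (LinearMap.range f) →ₗ[A] LinearMap.range f :=
    g'.restrict fun x hx => hx
  have hr : Function.Surjective r := fun y => by
    obtain ⟨x, hx⟩ := h y.2
    refine ⟨⟨e x, ?_⟩, Subtype.ext ?_⟩
    · change g (e.symm (e x)) ∈ LinearMap.range f
      rw [e.symm_apply_apply, hx]; exact y.2
    · change g (e.symm (e x)) = y.1
      rw [e.symm_apply_apply, hx]
  exact ⟨(LinearEquiv.ofInjective f hf).trans ((r.quotKerEquivOfSurjective hr).symm.trans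
    (Submodule.quotEquivOfEq _ _ (by
      ext x
      simp [r, LinearMap.restrict_apply, LinearMap.mem_ker]
      exact Subtype.ext_iff)))⟩

theorem isSubquotient_gr (p : ℕ) :
    HTor.IsSubquotient A (HTor.grSucc (Fil L M n) p) (HTor.TorSum L M n (p + 1)) := by
  obtain ⟨e⟩ := kerMapK_equiv_torSum L M n p
  have hle : Submodule.comap (Fil L M n (p + 1)).subtype (Fil L M n p) =
      LinearMap.ker ((phi L M n (p + 1)).comp (Fil L M n (p + 1)).subtype) := rfl
  refine isSubquotient_of_injective (Submodule.liftQ _ _ hle.le)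
    (LinearMap.ker_eq_bot.1 (Submodule.ker_liftQ_eq_bot _ _ _ hle.ge))
    ((kun L (cone (Mp M p)) n).comp (LinearMap.ker (mapK L (proj (Mp M p)) n)).subtype) e ?_
  rw [Submodule.range_liftQ]
  rintro _ ⟨⟨x, hx⟩, rfl⟩
  have h1 : phi L M n (p + 1) x ∈
      LinearMap.range (kun L (Mp M (p + 1)) n) := by
    rw [← ker_eq_range]
    exact hx
  obtain ⟨y, hy⟩ := h1
  exact ⟨⟨y, mapK_proj_eq_zero L (Mp M p) n y (phi L M n p x) hy.symm⟩, hy⟩

theorem kun_bijective (hL : DRing.TermwiseFlat L) (bL : ∃ b : ℤ, DRing.VanishesAbove L b)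
    (bM : ∃ b : ℤ, DRing.VanishesAbove M b) (hH : ∀ i : ℤ, Module.Flat A (L.homology i)) :
    Function.Bijective (kun L M n) := by
  have hs : ∀ (M : DRing.Cx A) (n : ℤ), (∃ b : ℤ, DRing.VanishesAbove M b) →
      Function.Surjective (kun L M n) := by
    intro M n bM
    obtain ⟨N, hN⟩ := exists_Fil_eq_top L M n hL bL bM
    have h0 : ∀ p, Fil L M n p = LinearMap.range (kun L M n) := by
      intro p
      induction p with
      | zero => exact Fil_zero L M n
      | succ q ih =>
        rw [← ih]
        refine le_antisymm (fun x hx => ?_) (Fil_monotone L M n q.le_succ)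
        have h1 : phi L M n (q + 1) x ∈ LinearMap.range (kun L (Mp M (q + 1)) n) := by
          rw [← ker_eq_range]
          exact hx
        obtain ⟨y, hy⟩ := h1
        have hy0 := mapK_proj_eq_zero L (Mp M q) n y (phi L M n q x) hy.symm
        have hinj : Function.Injective (mapK L (proj (Mp M q)) n) := by
          refine (DirectSum.lmap_injective _).2 fun ij => ?_
          have := hH ij.1.1
          exact Module.Flat.lTensor_preserves_injective_linearMap _
            fun a b hab => syz_injective (Mp M q) ij.1.2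
              ((toH_bijective (quot (Mp M q)) (quot_d _) ij.1.2).1
                ((homologyMap_proj _ _ a).symm.trans (hab.trans (homologyMap_proj _ _ b))))
        obtain rfl : y = 0 := hinj (hy0.trans (map_zero _).symm)
        exact LinearMap.mem_ker.2 (hy.symm.trans (map_zero _))
    exact LinearMap.range_eq_top.1 ((h0 N).symm.trans hN)
  refine ⟨kun_injective L M (n - 1) n (by omega) (hs (cone M) (n - 1) ?_), hs M n bM⟩
  obtain ⟨b, hb⟩ := bM
  refine ⟨b, fun j hj => ?_⟩
  rw [ModuleCat.isZero_iff_subsingleton]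
  have := ModuleCat.subsingleton_of_isZero (hb j hj)
  have := subsingleton_P M (j + 1)
    (subsingleton_homology_of_isZero M (j + 1) (hb (j + 1) (by omega)))
  exact inferInstanceAs (Subsingleton (M.X j × P M (j + 1)))

end Groth.HTorLib
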