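import Groth.Agent.HTopHyper.HTor.ExtMain

/-!
Künneth and coefficient forms of `RΓ` of a complex flat over an affine base.
-/

universe u

open CategoryTheory CategoryTheory.Limits AlgebraicGeometry Opposite TopologicalSpace HomologicalComplex
  MonoidalCategory

attribute [local instance] HasDerivedCategory.standard

set_option maxHeartbeats 2000000
set_option synthInstance.maxHeartbeats 200000
set_option backward.isDefEq.respectTransparency false
set_option linter.style.haveILetI false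

namespace Groth.HTorGeom

local notation "up" => ComplexShape.up ℤ

variable {A : Type u} [CommRing A]

theorem flat_of_projective' {L : DRing.Cx A} (hL : ∀ i, Projective (L.X i)) (i : ℤ) : Module.Flat A (L.X i) := by
  haveI : Module.Projective A (L.X i) := (IsProjective.iff_projective _).2 (hL i)
  infer_instance

variable {X₁ X₂ : Scheme.{u}} {f₁ : X₁ ⟶ Spec (CommRingCat.of A)} {f₂ : X₂ ⟶ Spec (CommRingCat.of A)}

/-- Hypertor is the hypercohomology of the external tensor product. -/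
theorem computes_extTensor [QuasiCompact f₁] [IsSeparated f₁] [QuasiCompact f₂] [IsSeparated f₂]
    [HTor.HasRΓA f₁] [HTor.HasRΓA f₂] [HTor.HasRΓA (pullback.fst f₁ f₂ ≫ f₁)]
    (P₁ : CochainComplex X₁.Modules ℤ) (P₂ : CochainComplex X₂.Modules ℤ)
    (hq₁ : ∀ i, (P₁.X i).IsQuasicoherent) (hq₂ : ∀ i, (P₂.X i).IsQuasicoherent)
    {b₁ b₂ : ℤ} (hb₁ : ∀ i, b₁ < i → IsZero (P₁.X i)) (hb₂ : ∀ i, b₂ < i → IsZero (P₂.X i))
    (hfl : ∀ i, FlatMod.IsFlatOver f₁ (P₁.X i))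
    (L₁ L₂ : DRing.Cx A) (hL₁ : ∀ i, Projective (L₁.X i)) (hL₂ : ∀ i, Projective (L₂.X i))
    {c₁ c₂ : ℤ} (hc₁ : ∀ i, c₁ < i → IsZero (L₁.X i)) (hc₂ : ∀ i, c₂ < i → IsZero (L₂.X i))
    (e₁ : HTor.Computes f₁ L₁ (DCoh.toD X₁ P₁)) (e₂ : HTor.Computes f₂ L₂ (DCoh.toD X₂ P₂)) :
    HTor.Computes (pullback.fst f₁ f₂ ≫ f₁) (HTor.tensorCx L₁ L₂)
      (DCoh.toD (pullback f₁ f₂) (HTor.extTensorCx f₁ f₂ P₁ P₂)) := by
  let : X₁.Over (Spec (CommRingCat.of A)) := ⟨f₁⟩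
  let : X₂.Over (Spec (CommRingCat.of A)) := ⟨f₂⟩
  let : (pullback f₁ f₂).Over (Spec (CommRingCat.of A)) := ⟨pullback.fst f₁ f₂ ≫ f₁⟩
  haveI : (pullback.fst f₁ f₂).IsOver (Spec (CommRingCat.of A)) := ⟨rfl⟩
  haveI : (pullback.snd f₁ f₂).IsOver (Spec (CommRingCat.of A)) := ⟨pullback.condition.symm⟩
  haveI := isAffineHom_diagonal_of_isSeparated f₁
  haveI := isAffineHom_diagonal_of_isSeparated f₂
  haveI : QuasiCompact ((pullback f₁ f₂) ↘ Spec (CommRingCat.of A)) :=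
    inferInstanceAs (QuasiCompact (pullback.fst f₁ f₂ ≫ f₁))
  haveI : IsSeparated ((pullback f₁ f₂) ↘ Spec (CommRingCat.of A)) :=
    inferInstanceAs (IsSeparated (pullback.fst f₁ f₂ ≫ f₁))
  haveI : HTor.HasRΓA ((pullback f₁ f₂) ↘ Spec (CommRingCat.of A)) :=
    inferInstanceAs (HTor.HasRΓA (pullback.fst f₁ f₂ ≫ f₁))
  obtain ⟨R₁, a₁, d₁, hbd₁, ha₁, hR₁, hRd₁, hP₁⟩ := exists_flat_res P₁ hq₁ hfl hb₁
  haveI : CompactSpace X₂ := QuasiCompact.compactSpace_of_compactSpace f₂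
  obtain ⟨N, U, hU, hcov⟩ := exists_fin_cover (X := X₂)
  obtain ⟨R₂, a₂, ha₂, hR₂, hRd₂, -⟩ := exists_res_of_cover closed_qcoh P₂ hq₂ U hU hcov
  obtain ⟨e⟩ := computes_ext (A := A) (pullback.fst f₁ f₂) (pullback.snd f₁ f₂) (IsPullback.of_hasPullback f₁ f₂)
    a₁ a₂ hP₁ hR₁ hq₂ hR₂ d₁ (b₂ + N) (fun i hi => hb₁ i (lt_of_le_of_lt hbd₁ hi)) hRd₁
    (fun i hi => hb₂ i (by omega)) (hRd₂ b₂ hb₂)
  obtain ⟨u₁⟩ := computes_of_quasiIso f₁ (fun i => ((hR₁ i).mem closed_flatSec).1)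
    (fun i => (hR₁ i).rightAcyclic f₁ (fun _ h => h.1)) a₁
  obtain ⟨u₂⟩ := computes_of_quasiIso f₂ (fun i => (hR₂ i).mem closed_qcoh)
    (fun i => (hR₂ i).rightAcyclic f₂ (fun _ h => h)) a₂
  obtain ⟨v₁⟩ := e₁
  obtain ⟨v₂⟩ := e₂
  obtain ⟨q₁, _⟩ := exists_quasiIso_of_iso hL₁ c₁ hc₁ (v₁ ≪≫ u₁.symm)
  obtain ⟨q₂, _⟩ := exists_quasiIso_of_iso hL₂ c₂ hc₂ (v₂ ≪≫ u₂.symm)
  haveI := quasiIso_tensorHom_flat q₁ q₂ (isKFlat_of_bounded hc₁ (flat_of_projective' hL₁))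
    (isKFlat_of_bounded (fun i hi => (HTor.globalSectionsA f₁).map_isZero (hRd₁ i hi))
      fun i => (hR₁ i).flat_top)
  haveI := (DerivedCategory.isIso_Q_map_iff_quasiIso _ (HomologicalComplex.tensorHom q₁ q₂)).2 inferInstance
  exact ⟨asIso (DerivedCategory.Q.map (HomologicalComplex.tensorHom q₁ q₂)) ≪≫ e⟩

variable {X : Scheme.{u}} {f : X ⟶ Spec (CommRingCat.of A)}

theorem elem_tilde (M : ModuleCat.{u} A) :
    Elem (fun N : (Spec (CommRingCat.of A)).Modules => N.IsQuasicoherent)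
      ((tilde.functor (CommRingCat.of A)).obj M) := by
  let N := (tilde.functor (CommRingCat.of A)).obj M
  haveI : IsIso ((η (⊤ : (Spec (CommRingCat.of A)).Opens)).app N) :=
    Scheme.Modules.Hom.isIso_iff_isIso_app.2 fun V =>
      (ConcreteCategory.isIso_iff_bijective _).2 (bijective_η_app ⊤ N le_top)
  exact .of_iso _ _ (asIso ((η (⊤ : (Spec (CommRingCat.of A)).Opens)).app N)).symm
    (.base ⊤ (isAffineOpen_top _) N (inferInstanceAs (tilde (R := CommRingCat.of A) M).IsQuasicoherent))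

/-- Tensoring a complex computing `RΓ` with coefficients. -/
theorem computes_tensorA [QuasiCompact f] [IsSeparated f] [HTor.HasRΓA f]
    (P : CochainComplex X.Modules ℤ) (hq : ∀ i, (P.X i).IsQuasicoherent)
    {b : ℤ} (hb : ∀ i, b < i → IsZero (P.X i)) (hfl : ∀ i, FlatMod.IsFlatOver f (P.X i))
    (L : DRing.Cx A) (hL : ∀ i, Projective (L.X i)) {c : ℤ} (hc : ∀ i, c < i → IsZero (L.X i))
    (e : HTor.Computes f L (DCoh.toD X P)) (Q : DRing.Cx A) {bQ : ℤ}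
    (hQ : ∀ i, bQ < i → IsZero (Q.X i)) :
    HTor.Computes f (HTor.tensorCx L Q) (DCoh.toD X (HTor.tensorACx f P Q)) := by
  let S := Spec (CommRingCat.of A)
  let : X.Over S := ⟨f⟩
  let : S.Over S := ⟨𝟙 S⟩
  haveI : (𝟙 X : X ⟶ X).IsOver S := ⟨Category.id_comp f⟩
  haveI : f.IsOver S := ⟨Category.comp_id f⟩
  haveI := isAffineHom_diagonal_of_isSeparated f
  haveI := isAffineHom_diagonal_of_isSeparated (𝟙 S)
  haveI : QuasiCompact (X ↘ S) := inferInstanceAs (QuasiCompact f)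
  haveI : IsSeparated (X ↘ S) := inferInstanceAs (IsSeparated f)
  haveI : HTor.HasRΓA (X ↘ S) := inferInstanceAs (HTor.HasRΓA f)
  have h : IsPullback (𝟙 X) f (X ↘ S) (S ↘ S) := IsPullback.of_id_fst
  obtain ⟨R, a, d, hbd, ha, hR, hRd, hP⟩ := exists_flat_res P hq hfl hb
  let Qt := ((tilde.functor (CommRingCat.of A)).mapHomologicalComplex up).obj Q
  have hQt : ∀ i, Elem (fun N : S.Modules => N.IsQuasicoherent) (Qt.X i) := fun i => elem_tilde (Q.X i)
  have hQz : ∀ i, bQ < i → IsZero (Qt.X i) := fun i hi =>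
    (tilde.functor (CommRingCat.of A)).map_isZero (hQ i hi)
  obtain ⟨w⟩ := computes_ext (A := A) (𝟙 X) f h a (𝟙 Qt) hP hR (fun i => (hQt i).mem closed_qcoh) hQt d bQ
    (fun i hi => hb i (lt_of_le_of_lt hbd hi)) hRd hQz hQz
  obtain ⟨u⟩ := computes_of_quasiIso f (fun i => ((hR i).mem closed_flatSec).1)
    (fun i => (hR i).rightAcyclic f (fun _ h => h.1)) a
  obtain ⟨v⟩ := e
  obtain ⟨q, _⟩ := exists_quasiIso_of_iso hL c hc (v ≪≫ u.symm)
  haveI : (tilde.functor (CommRingCat.of A)).Additive := HTor.additive_tildeFunctor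
  let t : Q ≅ (ΓA (𝟙 S)).obj Qt :=
    (NatIso.mapHomologicalComplex (show 𝟭 (ModuleCat.{u} A) ≅
        tilde.functor (CommRingCat.of A) ⋙ HTor.globalSectionsA (𝟙 S) from
      tilde.toTildeΓNatIso (R := CommRingCat.of A) ≪≫ Functor.isoWhiskerLeft (tilde.functor (CommRingCat.of A))
        ((Functor.leftUnitor (moduleSpecΓFunctor (R := CommRingCat.of A))).symm ≪≫
          Functor.isoWhiskerRight (Scheme.Modules.pushforwardId S).symm
            (moduleSpecΓFunctor (R := CommRingCat.of A)))) up).app Q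
  haveI := quasiIso_tensorHom_flat q t.hom (isKFlat_of_bounded hc (flat_of_projective' hL))
    (isKFlat_of_bounded (fun i hi => (HTor.globalSectionsA f).map_isZero (hRd i hi))
      fun i => (hR i).flat_top)
  haveI := (DerivedCategory.isIso_Q_map_iff_quasiIso _ (HomologicalComplex.tensorHom q t.hom)).2 inferInstance
  haveI : (Scheme.Modules.pullback (𝟙 X)).Additive :=
    (Scheme.Modules.pullbackPushforwardAdjunction (𝟙 X)).left_adjoint_additive
  let i₀ : (HTor.pullCx (𝟙 X)).obj P ≅ P :=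
    (NatIso.mapHomologicalComplex (Scheme.Modules.pullbackId X) up).app P
  let m : extCxP (𝟙 X) f P Qt ≅ HTor.tensorACx f P Q :=
    ((DCoh.tensorCx (X := X)).mapIso i₀).app ((HTor.pullCx f).obj Qt)
  exact ⟨asIso (DerivedCategory.Q.map (HomologicalComplex.tensorHom q t.hom)) ≪≫ w ≪≫
    (HTor.RΓA f).mapIso (DerivedCategory.Q.mapIso m)⟩

end Groth.HTorGeom
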