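import Groth.Agent.HTopHyper.HTor.FlatBC
import Groth.Agent.DerivedCoh.LeftRes.Basic
import Mathlib.Algebra.Homology.Embedding.CochainComplex
import Mathlib.CategoryTheory.Abelian.Projective.Dimension

/-!
Bounded above free models and bounded projective models of `RΓ`.
-/

universe u

open CategoryTheory CategoryTheory.Limits AlgebraicGeometry HomologicalComplex

attribute [local instance] HasDerivedCategory.standard

set_option maxHeartbeats 1000000
set_option linter.style.haveILetI false

namespace Groth.HTorGeom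

local notation "up" => ComplexShape.up ℤ

variable {A : Type u} [CommRing A]

/-- A bounded above complex receives a quasi-isomorphism from a complex of free modules with the same
bound. -/
theorem exists_free_model (T : DRing.Cx A) (b : ℤ) (hb : ∀ i, b < i → IsZero (T.X i)) :
    ∃ (M : DRing.Cx A) (s : M ⟶ T), QuasiIso s ∧ (∀ i, Module.Free A (M.X i)) ∧
      ∀ i, b < i → IsZero (M.X i) := by
  haveI : T.IsStrictlyLE b := (CochainComplex.isStrictlyLE_iff _ _).2 hb
  obtain ⟨M, hM, s, hs, -, hP⟩ := Groth.DerivedCoh.LeftRes.exists_resolution (K := T)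
    (P := fun N : ModuleCat.{u} A => Module.Free A N)
    ⟨ModuleCat.of A PUnit, ModuleCat.isZero_of_subsingleton _, Module.Free.of_subsingleton A _⟩
    (fun N => ⟨ModuleCat.of A (N →₀ A), ModuleCat.ofHom (Finsupp.linearCombination A id),
      inferInstanceAs (Module.Free A (N →₀ A)),
      (ModuleCat.epi_iff_surjective _).2 fun x => ⟨Finsupp.single x 1, by simp⟩⟩) b
  exact ⟨M, s, hs, hP, (CochainComplex.isStrictlyLE_iff _ _).1 hM⟩

/-- The opcycles of a complex of projectives below a range where it is exact. -/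
theorem hasProjectiveDimensionLT_opcycles (M : DRing.Cx A) (hM : ∀ i, Projective (M.X i)) (a : ℤ)
    (hex : ∀ i, i < a → IsZero (M.homology i)) (d : ℕ)
    (hA : ∀ N : ModuleCat.{u} A, HasProjectiveDimensionLT N (d + 1)) :
    ∀ (k : ℕ) (i : ℤ), k ≤ d → i = a - k → HasProjectiveDimensionLT (M.opcycles i) (d + 1 - k) := by
  intro k
  induction k with
  | zero => exact fun i _ _ => hA _
  | succ k ih =>
    intro i hk hi
    have ih' : HasProjectiveDimensionLT (M.opcycles (i + 1)) (d + 1 - k) :=
      ih (i + 1) (by omega) (by omega)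
    have hm : Mono (M.fromOpcycles i (i + 1)) := by
      have h := ShortComplex.exact_of_f_is_kernel
        (ShortComplex.mk (M.homologyι i) (M.fromOpcycles i (i + 1)) (M.homologyι_comp_fromOpcycles i (i + 1)))
        (M.homologyIsKernel i (i + 1) (by simp))
      exact h.mono_g ((hex i (by omega)).eq_of_src _ _)
    let S := ShortComplex.mk (M.fromOpcycles i (i + 1)) (M.pOpcycles (i + 1))
      (by rw [← cancel_epi (M.pOpcycles i), p_fromOpcycles_assoc, d_pOpcycles, comp_zero])
    have hE : S.Exact := by
      let φ : ShortComplex.mk (M.d i (i + 1)) (M.pOpcycles (i + 1)) (M.d_pOpcycles i (i + 1)) ⟶ S :=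
        ShortComplex.homMk (M.pOpcycles i) (𝟙 _) (𝟙 _) (by simp [S]) (by simp [S])
      haveI : Epi φ.τ₁ := inferInstanceAs (Epi (M.pOpcycles i))
      haveI : IsIso φ.τ₂ := inferInstanceAs (IsIso (𝟙 (M.X (i + 1))))
      haveI : Mono φ.τ₃ := inferInstanceAs (Mono (𝟙 (M.opcycles (i + 1))))
      exact (ShortComplex.exact_iff_of_epi_of_isIso_of_mono φ).1
        (ShortComplex.exact_of_g_is_cokernel _ (M.opcyclesIsCokernel i (i + 1) (by simp)))
    have hS : S.ShortExact :=
      { exact := hE
        mono_f := hm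
        epi_g := inferInstanceAs (Epi (M.pOpcycles (i + 1))) }
    have h2 : HasProjectiveDimensionLT S.X₂ (d + 1 - (k + 1)) := by
      haveI := hM (i + 1)
      haveI : HasProjectiveDimensionLT (M.X (i + 1)) 1 :=
        projective_iff_hasProjectiveDimensionLT_one.1 inferInstance
      exact hasProjectiveDimensionLT_of_ge (M.X (i + 1)) 1 (d + 1 - (k + 1)) (by omega)
    refine hS.hasProjectiveDimensionLT_X₁ (d + 1 - (k + 1)) h2 ?_
    rw [show d + 1 - (k + 1) + 1 = d + 1 - k by omega]
    exact ih'

/-- A bounded complex over a ring of finite global dimension receives or gives a bounded projective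
model. -/
theorem exists_projective_model (T : DRing.Cx A) (a b : ℤ) (hab : ∀ i, i < a ∨ b < i → IsZero (T.X i))
    (d : ℕ) (hA : ∀ N : ModuleCat.{u} A, HasProjectiveDimensionLT N (d + 1)) :
    ∃ (L : DRing.Cx A), (∀ i, Projective (L.X i)) ∧ DRing.VanishesOutside L (a - d) b ∧
      Nonempty (DRing.toD L ≅ DRing.toD T) := by
  obtain ⟨M, s, hs, hF, hMb⟩ := exists_free_model T b fun i hi => hab i (Or.inr hi)
  have hM : ∀ i, Projective (M.X i) := fun i => by
    haveI := hF i
    exact (IsProjective.iff_projective _).1 (inferInstance : Module.Projective A (M.X i))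
  have hex : ∀ i, i < a → IsZero (M.homology i) := fun i hi =>
    IsZero.of_iso ((exactAt_iff_isZero_homology _ _).1
      (ShortComplex.exact_of_isZero_X₂ _ (hab i (Or.inl hi)))) (isoOfQuasiIsoAt s i)
  haveI : M.IsGE (a - d) := (CochainComplex.isGE_iff M (a - d)).2 fun i hi =>
    (exactAt_iff_isZero_homology _ _).2 (hex i (by omega))
  haveI : QuasiIso (M.πTruncGE (a - d)) := (M.quasiIso_πTruncGE_iff (a - d)).2 inferInstance
  haveI := (DerivedCategory.isIso_Q_map_iff_quasiIso _ s).2 hs
  haveI := (DerivedCategory.isIso_Q_map_iff_quasiIso _ (M.πTruncGE (a - d))).2 inferInstance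
  have hop : Projective (M.opcycles (a - d)) := by
    have h := hasProjectiveDimensionLT_opcycles M hM a hex d hA d (a - d) le_rfl rfl
    rw [show d + 1 - d = 1 by omega] at h
    exact projective_iff_hasProjectiveDimensionLT_one.2 h
  have hzero : ∀ i, i < a - d → IsZero ((M.truncGE (a - d)).X i) := fun i hi =>
    (M.truncGE (a - d)).isZero_of_isStrictlyGE (a - d) i hi
  refine ⟨M.truncGE (a - d), fun i => ?_, fun i hi => ?_,
    ⟨(asIso (DerivedCategory.Q.map (M.πTruncGE (a - d)))).symm ≪≫ asIso (DerivedCategory.Q.map s)⟩⟩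
  · rcases lt_trichotomy (a - d) i with h | rfl | h
    · exact Projective.of_iso (M.truncGEXIso (a - d) i h).symm (hM i)
    · exact Projective.of_iso (M.truncGEXIsoOpcycles (a - d)).symm hop
    · exact (hzero i h).projective
  · rcases lt_or_ge i (a - d) with h | h
    · exact hzero i h
    · have hbi : b < i := hi.resolve_left (by omega)
      rcases eq_or_lt_of_le h with rfl | h'
      · exact IsZero.of_iso ((IsZero.iff_id_eq_zero _).2 (by
          rw [← cancel_epi (M.pOpcycles (a - d))]
          exact (hMb _ hbi).eq_of_src _ _)) (M.truncGEXIsoOpcycles (a - d))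
      · exact IsZero.of_iso (hMb i hbi) (M.truncGEXIso (a - d) i h')

variable {X : Scheme.{u}} (f : X ⟶ Spec (CommRingCat.of A)) [QuasiCompact f] [IsSeparated f]
  [HTor.HasRΓA f]

/-- `RΓ` is computed by the global sections of a finite resolution. -/
theorem exists_computes (P : CochainComplex X.Modules ℤ) (hq : ∀ i, (P.X i).IsQuasicoherent) {N : ℕ}
    (U : Fin (N + 1) → X.Opens) (hU : ∀ i, IsAffineOpen (U i)) (hcov : ⨆ i, U i = ⊤) :
    ∃ T : DRing.Cx A,
      (∀ b, (∀ i, b < i → IsZero (P.X i)) → ∀ i, b + N < i → IsZero (T.X i)) ∧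
      (∀ b, (∀ i, i < b → IsZero (P.X i)) → ∀ i, i < b → IsZero (T.X i)) ∧
      HTor.Computes f T (DCoh.toD X P) := by
  haveI := isAffineHom_diagonal_of_isSeparated f
  obtain ⟨R, a, _, hR, hRb, hRa⟩ := exists_res_of_cover closed_qcoh P hq U hU hcov
  refine ⟨(ΓA f).obj R, fun b hb i hi => (HTor.globalSectionsA f).map_isZero (hRb b hb i hi),
    fun b hb i hi => (HTor.globalSectionsA f).map_isZero (hRa b hb i hi), ?_⟩
  exact computes_of_quasiIso f (fun i => (hR i).mem closed_qcoh)
    (fun i => (hR i).rightAcyclic f (fun _ h => h)) a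

end Groth.HTorGeom
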