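import Groth.Agent.HTopHyper.HTor.ExtRes
import Groth.Agent.HTopHyper.HTor.Models

/-!
The Künneth formula for derived global sections over an affine base.
-/

universe u

open CategoryTheory CategoryTheory.Limits AlgebraicGeometry Opposite TopologicalSpace HomologicalComplex
  MonoidalCategory
open Groth.CohBase.Kunneth (box)

attribute [local instance] HasDerivedCategory.standard

set_option maxHeartbeats 2000000
set_option synthInstance.maxHeartbeats 200000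
set_option backward.isDefEq.respectTransparency false
set_option linter.style.haveILetI false

namespace Groth.HTorGeom

local notation "up" => ComplexShape.up ℤ

variable {A : Type u} [CommRing A]

theorem isKFlat_of_bounded {K : DRing.Cx A} {b : ℤ} (hb : ∀ i, b < i → IsZero (K.X i))
    (hf : ∀ i, Module.Flat A (K.X i)) : Groth.DAlg.KFlatMod.IsKFlatCx A K :=
  Groth.DAlg.KFlatMod.isKFlatCx_of_flat K hb hf

open Groth.DAlg.KFlatMod in
/-- A tensor product of quasi-isomorphisms is a quasi-isomorphism when the source and target of the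
first one are K-flat. -/
theorem quasiIso_tensorHom_flat {K K' L L' : DRing.Cx A} (f : K ⟶ K') (g : L ⟶ L') [QuasiIso f]
    [QuasiIso g] (hK : IsKFlatCx A K) (hK' : IsKFlatCx A K') :
    QuasiIso (HomologicalComplex.tensorHom f g) := by
  let π := (resAug A).app L'
  haveI : QuasiIso π := resAug_quasiIso L'
  haveI := quasiIso_whiskerRight (res_isKFlat L') f
  haveI := Groth.DTenCalc.quasiIso_whiskerLeft_of_kFlat hK π
  haveI := Groth.DTenCalc.quasiIso_whiskerLeft_of_kFlat hK' π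
  haveI := Groth.DTenCalc.quasiIso_whiskerLeft_of_kFlat hK g
  haveI : QuasiIso (f ▷ L') := by
    have e : K ◁ π ≫ f ▷ L' = f ▷ _ ≫ K' ◁ π := whisker_exchange f π
    haveI : QuasiIso (K ◁ π ≫ f ▷ L') := by rw [e]; infer_instance
    exact quasiIso_of_comp_left (K ◁ π) _
  have e : HomologicalComplex.tensorHom f g = K ◁ g ≫ f ▷ L' := MonoidalCategory.tensorHom_def' f g
  rw [e]
  infer_instance

variable {X₁ X₂ P : Scheme.{u}} (p₁ : P ⟶ X₁) (p₂ : P ⟶ X₂)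

theorem isQCoh_extCxP (K₁ : CochainComplex X₁.Modules ℤ) (K₂ : CochainComplex X₂.Modules ℤ)
    (h₁ : ∀ i, (K₁.X i).IsQuasicoherent) (h₂ : ∀ i, (K₂.X i).IsQuasicoherent) (n : ℤ) :
    ((extCxP p₁ p₂ K₁ K₂).X n).IsQuasicoherent := by
  let B := (((DCoh.tensorBi (X := P)).mapBifunctorHomologicalComplex up up).obj
    ((HTor.pullCx p₁).obj K₁)).obj ((HTor.pullCx p₂).obj K₂)
  let F := B.toGradedObject.mapObjFun (ComplexShape.π up up up) n
  have : ∀ j, ((Discrete.functor F).obj j).IsQuasicoherent := fun j => by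
    haveI := h₁ j.as.1.1
    haveI := h₂ j.as.1.2
    haveI := Groth.QCohMod.isQCoh_pullback_obj p₁ (K₁.X j.as.1.1)
    haveI := Groth.QCohMod.isQCoh_pullback_obj p₂ (K₂.X j.as.1.2)
    haveI : (((HTor.pullCx p₁).obj K₁).X j.as.1.1).IsQuasicoherent := Groth.QCohMod.isQCoh_pullback_obj p₁ _
    haveI : (((HTor.pullCx p₂).obj K₂).X j.as.1.2).IsQuasicoherent := Groth.QCohMod.isQCoh_pullback_obj p₂ _
    exact Groth.QCohMod.isQCoh_tensorMod (M := ((HTor.pullCx p₁).obj K₁).X j.as.1.1) (N := ((HTor.pullCx p₂).obj K₂).X j.as.1.2)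
  exact Groth.QCohMod.isQCoh_of_isColimit (Discrete.functor F) _ (colimit.isColimit _)

variable [X₁.Over (Spec (CommRingCat.of A))] [X₂.Over (Spec (CommRingCat.of A))]
  [P.Over (Spec (CommRingCat.of A))] [p₁.IsOver (Spec (CommRingCat.of A))]
  [p₂.IsOver (Spec (CommRingCat.of A))]
  (h : IsPullback p₁ p₂ (X₁ ↘ Spec (CommRingCat.of A)) (X₂ ↘ Spec (CommRingCat.of A)))

include h in
/-- External tensor products preserve quasi-isomorphisms, if the first complexes have flat terms. -/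
theorem quasiIso_extCxMap {K₁ L₁ : CochainComplex X₁.Modules ℤ} {K₂ L₂ : CochainComplex X₂.Modules ℤ}
    (a₁ : K₁ ⟶ L₁) (a₂ : K₂ ⟶ L₂) [QuasiIso a₁] [QuasiIso a₂]
    (hK₁ : ∀ i, FlatSec A (K₁.X i)) (hL₁ : ∀ i, FlatSec A (L₁.X i))
    (hK₂ : ∀ i, (K₂.X i).IsQuasicoherent) (hL₂ : ∀ i, (L₂.X i).IsQuasicoherent)
    (b₁ b₂ : ℤ) (hb₁ : ∀ i, b₁ < i → IsZero (K₁.X i)) (hc₁ : ∀ i, b₁ < i → IsZero (L₁.X i))
    (hb₂ : ∀ i, b₂ < i → IsZero (K₂.X i)) (hc₂ : ∀ i, b₂ < i → IsZero (L₂.X i)) :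
    QuasiIso (extCxMap p₁ p₂ a₁ a₂) := by
  refine quasiIso_of_sections_cover _ (isQCoh_extCxP p₁ p₂ K₁ K₂ (fun i => (hK₁ i).1) hK₂)
    (isQCoh_extCxP p₁ p₂ L₁ L₂ (fun i => (hL₁ i).1) hL₂)
    (fun UV : X₁.affineOpens × X₂.affineOpens => box p₁ p₂ UV.1.1 UV.2.1)
    (fun UV => Groth.CohBase.Kunneth.isAffineOpen_box A p₁ p₂ h UV.1.2 UV.2.2)
    (eq_top_iff.2 fun x _ => ?_) fun UV => ?_
  · obtain ⟨U, V, hU, hV, hx⟩ := exists_box p₁ p₂ x
    exact Opens.mem_iSup.2 ⟨(⟨U, hU⟩, ⟨V, hV⟩), hx⟩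
  obtain ⟨⟨U, hU⟩, ⟨V, hV⟩⟩ := UV
  haveI q₁ : QuasiIso ((secCx A U).map a₁) := by
    rw [← quasiIso_map_iff_of_preservesHomology ((secCx A U).map a₁) (forget₂ (ModuleCat.{u} A) AddCommGrpCat.{u})]
    exact quasiIso_sec_of_quasiIso a₁ (fun i => (hK₁ i).1) (fun i => (hL₁ i).1) hU
  haveI q₂ : QuasiIso ((secCx A V).map a₂) := by
    rw [← quasiIso_map_iff_of_preservesHomology ((secCx A V).map a₂) (forget₂ (ModuleCat.{u} A) AddCommGrpCat.{u})]
    exact quasiIso_sec_of_quasiIso a₂ hK₂ hL₂ hV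
  haveI := quasiIso_tensorHom_flat ((secCx A U).map a₁) ((secCx A V).map a₂)
    (isKFlat_of_bounded (fun i hi => (secF A U).map_isZero (hb₁ i hi)) fun i => (hK₁ i).2 U hU)
    (isKFlat_of_bounded (fun i hi => (secF A U).map_isZero (hc₁ i hi)) fun i => (hL₁ i).2 U hU)
  haveI := isIso_boxTot (A := A) p₁ p₂ K₁ K₂ U V b₁ b₂ hb₁ hb₂ fun i j _ _ => by
    haveI := (hK₁ i).1
    haveI := hK₂ j
    exact Groth.CohBase.Kunneth.boxSec_bijective A p₁ p₂ _ _ h hU hV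
  haveI := isIso_boxTot (A := A) p₁ p₂ L₁ L₂ U V b₁ b₂ hc₁ hc₂ fun i j _ _ => by
    haveI := (hL₁ i).1
    haveI := hL₂ j
    exact Groth.CohBase.Kunneth.boxSec_bijective A p₁ p₂ _ _ h hU hV
  haveI : QuasiIso ((secCx A (box p₁ p₂ U V)).map (extCxMap p₁ p₂ a₁ a₂)) := by
    haveI : QuasiIso (boxTot (A := A) p₁ p₂ K₁ K₂ U V ≫ (secCx A (box p₁ p₂ U V)).map (extCxMap p₁ p₂ a₁ a₂)) := by
      rw [← boxTot_naturality]; infer_instance
    exact quasiIso_of_comp_left (boxTot (A := A) p₁ p₂ K₁ K₂ U V) _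
  rw [← quasiIso_map_iff_of_preservesHomology ((secCx A (box p₁ p₂ U V)).map (extCxMap p₁ p₂ a₁ a₂))
    (forget₂ (ModuleCat.{u} A) AddCommGrpCat.{u})] at this
  exact this

omit [X₁.Over (Spec (CommRingCat.of A))] [X₂.Over (Spec (CommRingCat.of A))]
  [P.Over (Spec (CommRingCat.of A))] [p₁.IsOver (Spec (CommRingCat.of A))]
  [p₂.IsOver (Spec (CommRingCat.of A))] in
/-- A degree of an external tensor product of bounded above complexes of acyclic summands is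
acyclic. -/
theorem rightAcyclic_extCxP {S : Scheme.{u}} (g : P ⟶ S) (K₁ : CochainComplex X₁.Modules ℤ)
    (K₂ : CochainComplex X₂.Modules ℤ) (b₁ b₂ : ℤ) (hb₁ : ∀ i, b₁ < i → IsZero (K₁.X i))
    (hb₂ : ∀ i, b₂ < i → IsZero (K₂.X i))
    (hac : ∀ i j, Groth.CohFin.RightAcyclic (Scheme.Modules.pushforward g)
      (((DCoh.tensorBi (X := P)).obj (((HTor.pullCx p₁).obj K₁).X i)).obj (((HTor.pullCx p₂).obj K₂).X j)))
    (n : ℤ) : Groth.CohFin.RightAcyclic (Scheme.Modules.pushforward g) ((extCxP p₁ p₂ K₁ K₂).X n) := by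
  intro k
  let F := ((Scheme.Modules.pushforward g).rightDerived (k + 1))
  haveI : F.Additive :=
    { map_add := fun {_ _ _ _} => Groth.CohFin.rightDerived_map_add (Scheme.Modules.pushforward g) _ _ _ }
  rw [IsZero.iff_id_eq_zero, ← CategoryTheory.Functor.map_id]
  have hsum := sum_totProj_ι (F := DCoh.tensorBi (X := P)) (K := (HTor.pullCx p₁).obj K₁)
    (L := (HTor.pullCx p₂).obj K₂) (n - b₂) b₁ n (fun i j hij hne => by
      rcases (show b₁ < i ∨ b₂ < j by omega) with hi | hj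
      · exact Functor.map_isZero (DCoh.tensorBi (X := P)) ((Scheme.Modules.pullback p₁).map_isZero (hb₁ i hi)) |>.obj _
      · exact ((DCoh.tensorBi (X := P)).obj _).map_isZero ((Scheme.Modules.pullback p₂).map_isZero (hb₂ j hj)))
  refine ((congrArg F.map hsum.symm).trans (F.map_sum _ _)).trans (Finset.sum_eq_zero fun i _ => ?_)
  exact (F.map_comp _ _).trans ((congrArg (· ≫ _) ((hac i (n - i) k).eq_of_tgt _ 0)).trans zero_comp)

omit [p₁.IsOver (Spec (CommRingCat.of A))] [p₂.IsOver (Spec (CommRingCat.of A))]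
  [X₁.Over (Spec (CommRingCat.of A))] [X₂.Over (Spec (CommRingCat.of A))] in
/-- Sections over an open equal to the whole space are the global sections. -/
noncomputable def secEqTopIso (O : P.Opens) (hO : O = ⊤) :
    secF A O ≅ HTor.globalSectionsA (P ↘ Spec (CommRingCat.of A)) :=
  eqToIso (congrArg (secF A) hO) ≪≫ secTopIso A

include h in
/-- The Künneth formula over an affine base, for resolutions by direct images from affine opens. -/
theorem computes_ext [HTor.HasRΓA (P ↘ Spec (CommRingCat.of A))]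
    [QuasiCompact (P ↘ Spec (CommRingCat.of A))] [IsSeparated (P ↘ Spec (CommRingCat.of A))]
    [IsAffineHom (pullback.diagonal (terminal.from X₁))]
    [IsAffineHom (pullback.diagonal (terminal.from X₂))]
    {P₁ R₁ : CochainComplex X₁.Modules ℤ} {P₂ R₂ : CochainComplex X₂.Modules ℤ}
    (a₁ : P₁ ⟶ R₁) (a₂ : P₂ ⟶ R₂) [QuasiIso a₁] [QuasiIso a₂]
    (hP₁ : ∀ i, FlatSec A (P₁.X i)) (hR₁ : ∀ i, Elem (FlatSec A) (R₁.X i))
    (hP₂ : ∀ i, (P₂.X i).IsQuasicoherent) (hR₂ : ∀ i, Elem (fun M : X₂.Modules => M.IsQuasicoherent) (R₂.X i))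
    (b₁ b₂ : ℤ) (hb₁ : ∀ i, b₁ < i → IsZero (P₁.X i)) (hc₁ : ∀ i, b₁ < i → IsZero (R₁.X i))
    (hb₂ : ∀ i, b₂ < i → IsZero (P₂.X i)) (hc₂ : ∀ i, b₂ < i → IsZero (R₂.X i)) :
    HTor.Computes (P ↘ Spec (CommRingCat.of A))
      (HTor.tensorCx ((ΓA (X₁ ↘ Spec (CommRingCat.of A))).obj R₁) ((ΓA (X₂ ↘ Spec (CommRingCat.of A))).obj R₂))
      (DCoh.toD P (extCxP p₁ p₂ P₁ P₂)) := by
  haveI := isAffineHom_diagonal_of_isSeparated (P ↘ Spec (CommRingCat.of A))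
  have hR₁' : ∀ i, FlatSec A (R₁.X i) := fun i => (hR₁ i).mem closed_flatSec
  have hR₂' : ∀ i, (R₂.X i).IsQuasicoherent := fun i => (hR₂ i).mem closed_qcoh
  have hE : ∀ i j, _ := fun i j => Elem.ext (p₁ := p₁) (p₂ := p₂) h (fun _ h => h.1) (fun _ h => h) (hR₁ i) (hR₂ j)
  haveI := quasiIso_extCxMap p₁ p₂ h a₁ a₂ hP₁ hR₁' hP₂ hR₂' b₁ b₂ hb₁ hc₁ hb₂ hc₂
  obtain ⟨e⟩ := computes_of_quasiIso (P ↘ Spec (CommRingCat.of A))
    (isQCoh_extCxP p₁ p₂ R₁ R₂ (fun i => (hR₁' i).1) hR₂')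
    (rightAcyclic_extCxP p₁ p₂ (P ↘ Spec (CommRingCat.of A)) R₁ R₂ b₁ b₂ hc₁ hc₂
      fun i j => (hE i j).1.rightAcyclic _ (fun _ h => h))
    (extCxMap p₁ p₂ a₁ a₂)
  haveI := isIso_boxTot (A := A) p₁ p₂ R₁ R₂ ⊤ ⊤ b₁ b₂ hc₁ hc₂ fun i j _ _ =>
    (ConcreteCategory.isIso_iff_bijective _).1 (hE i j).2
  let eP := secEqTopIso (A := A) (box p₁ p₂ ⊤ ⊤) (by simp [box])
  let i₁ := (NatIso.mapHomologicalComplex (secTopIso A (X := X₁)) up).app R₁
  let i₂ := (NatIso.mapHomologicalComplex (secTopIso A (X := X₂)) up).app R₂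
  let iT : HTor.tensorCx ((secCx A ⊤).obj R₁) ((secCx A ⊤).obj R₂) ≅ _ :=
    MonoidalCategory.tensorIso i₁ i₂
  exact ⟨DerivedCategory.Q.mapIso (iT.symm ≪≫ asIso (boxTot (A := A) p₁ p₂ R₁ R₂ ⊤ ⊤) ≪≫
    (NatIso.mapHomologicalComplex eP up).app (extCxP p₁ p₂ R₁ R₂)) ≪≫ e⟩

end Groth.HTorGeom
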