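import Groth.Agent.HTopHyper.HTor.ExtSec
import Groth.Agent.HTopHyper.HTor.BCQis
import Groth.Agent.OmegaSheaf.IsoLocal
import Groth.Agent.DTenCalc.Computes
import Groth.Agent.DerivedCoh.KFlat.Generic

/-!
External tensor products of resolutions by direct images from affine opens.
-/

universe u

open CategoryTheory CategoryTheory.Limits AlgebraicGeometry Opposite TopologicalSpace HomologicalComplex
open scoped TensorProduct
open Groth.CohBase (secA secRes)
open Groth.CohBase.Kunneth (box extTen boxSec)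

attribute [local instance] HasDerivedCategory.standard

set_option maxHeartbeats 2000000
set_option synthInstance.maxHeartbeats 200000
set_option backward.isDefEq.respectTransparency false
set_option linter.style.haveILetI false

namespace Groth.HTorGeom

local notation "up" => ComplexShape.up ℤ

theorem bijective_res_of_eq {X : Scheme.{u}} (M : X.Modules) {U V : X.Opens} (h : V ≤ U) (h' : U ≤ V) :
    Function.Bijective (QCohMod.res M h) :=
  ⟨fun s t hst => by simpa [QCohMod.res_res, QCohMod.res_self] using congrArg (QCohMod.res M h') hst,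
    fun t => ⟨QCohMod.res M h' t, by rw [QCohMod.res_res, QCohMod.res_self]⟩⟩

/-- Restriction of sections of a direct image from `W` to an open containing the intersection with
`W` is bijective. -/
theorem bijective_res_pushRestr {X : Scheme.{u}} (W : X.Opens) (F : X.Modules) {V V' : X.Opens}
    (h : V' ≤ V) (h' : W ⊓ V ≤ V') :
    Function.Bijective (QCohMod.res ((CechOX.pushRestr W).obj F) h) :=
  bijective_res_of_eq F (W.ι.image_mono (W.ι.preimage_mono h))
    (by rw [image_preimage_eq, image_preimage_eq]; exact le_inf inf_le_left h')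

variable {A : Type u} [CommRing A] {X₁ X₂ P : Scheme.{u}}
  [X₁.Over (Spec (CommRingCat.of A))] [X₂.Over (Spec (CommRingCat.of A))]
  [P.Over (Spec (CommRingCat.of A))] {p₁ : P ⟶ X₁} {p₂ : P ⟶ X₂}
  [p₁.IsOver (Spec (CommRingCat.of A))] [p₂.IsOver (Spec (CommRingCat.of A))]

variable (A p₁ p₂) in
omit [X₁.Over (Spec (CommRingCat.of A))] [X₂.Over (Spec (CommRingCat.of A))]
  [P.Over (Spec (CommRingCat.of A))] [p₁.IsOver (Spec (CommRingCat.of A))]
  [p₂.IsOver (Spec (CommRingCat.of A))] in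
theorem exists_box (x : P) : ∃ U V, IsAffineOpen U ∧ IsAffineOpen V ∧ x ∈ box p₁ p₂ U V := by
  obtain ⟨U, hU, hxU⟩ := Groth.QCohMod.exists_affine_mem (p₁ x)
  obtain ⟨V, hV, hxV⟩ := Groth.QCohMod.exists_affine_mem (p₂ x)
  exact ⟨U, V, hU, hV, hxU, hxV⟩

section Base

variable (h : IsPullback p₁ p₂ (X₁ ↘ Spec (CommRingCat.of A)) (X₂ ↘ Spec (CommRingCat.of A)))
  [IsAffineHom (pullback.diagonal (terminal.from X₁))]
  [IsAffineHom (pullback.diagonal (terminal.from X₂))]
  [IsAffineHom (pullback.diagonal (terminal.from P))]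

include h

theorem bijective_res_ext {W₁ U : X₁.Opens} {W₂ V : X₂.Opens} (hW₁ : IsAffineOpen W₁)
    (hW₂ : IsAffineOpen W₂) (hU : IsAffineOpen U) (hV : IsAffineOpen V)
    (F₁ : X₁.Modules) (F₂ : X₂.Modules) [F₁.IsQuasicoherent] [F₂.IsQuasicoherent] :
    Function.Bijective (secRes A
      (extTen p₁ p₂ ((CechOX.pushRestr W₁).obj F₁) ((CechOX.pushRestr W₂).obj F₂))
      (inf_le_inf (p₁.preimage_mono (inf_le_right : W₁ ⊓ U ≤ U))
        (p₂.preimage_mono (inf_le_right : W₂ ⊓ V ≤ V)) :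
        box p₁ p₂ (W₁ ⊓ U) (W₂ ⊓ V) ≤ box p₁ p₂ U V)) := by
  haveI := Groth.CohBase.RelCech.isQCoh_pushRestr hW₁ F₁
  haveI := Groth.CohBase.RelCech.isQCoh_pushRestr hW₂ F₂
  have b : ∀ {U' : X₁.Opens} {V' : X₂.Opens}, IsAffineOpen U' → IsAffineOpen V' →
      Function.Bijective (boxSec A p₁ p₂ ((CechOX.pushRestr W₁).obj F₁)
        ((CechOX.pushRestr W₂).obj F₂) U' V') := fun hU hV =>
    Groth.CohBase.Kunneth.boxSec_bijective A p₁ p₂ _ _ h hU hV
  have e₁ : Function.Bijective (secRes A ((CechOX.pushRestr W₁).obj F₁) (inf_le_right : W₁ ⊓ U ≤ U)) :=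
    (congrArg Function.Bijective (funext fun s => (Groth.CohBase.secRes_apply A _ inf_le_right s).symm)).mp
      (bijective_res_pushRestr W₁ F₁ inf_le_right le_rfl)
  have e₂ : Function.Bijective (secRes A ((CechOX.pushRestr W₂).obj F₂) (inf_le_right : W₂ ⊓ V ≤ V)) :=
    (congrArg Function.Bijective (funext fun s => (Groth.CohBase.secRes_apply A _ inf_le_right s).symm)).mp
      (bijective_res_pushRestr W₂ F₂ inf_le_right le_rfl)
  let M₁ := (CechOX.pushRestr W₁).obj F₁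
  let M₂ := (CechOX.pushRestr W₂).obj F₂
  let hle : box p₁ p₂ (W₁ ⊓ U) (W₂ ⊓ V) ≤ box p₁ p₂ U V :=
    inf_le_inf (p₁.preimage_mono inf_le_right) (p₂.preimage_mono inf_le_right)
  have hf : (fun z => secRes A (extTen p₁ p₂ M₁ M₂) hle (boxSec A p₁ p₂ M₁ M₂ U V z)) =
      fun z => boxSec A p₁ p₂ M₁ M₂ (W₁ ⊓ U) (W₂ ⊓ V)
        (TensorProduct.map (secRes A M₁ inf_le_right) (secRes A M₂ inf_le_right) z) :=
    funext fun z => Groth.CohBase.Kunneth.boxSec_res A p₁ p₂ M₁ M₂ inf_le_right inf_le_right hle z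
  have hb : Function.Bijective (fun z => secRes A (extTen p₁ p₂ M₁ M₂) hle (boxSec A p₁ p₂ M₁ M₂ U V z)) := by
    rw [hf]
    exact (b (hW₁.inf hU) (hW₂.inf hV)).comp (TensorProduct.congr (LinearEquiv.ofBijective _ e₁)
      (LinearEquiv.ofBijective _ e₂)).bijective
  exact (Function.Bijective.of_comp_iff _ (b hU hV)).1 hb

/-- The external tensor product of direct images from affine opens is a direct image from their
box. -/
theorem isIso_η_ext {W₁ : X₁.Opens} {W₂ : X₂.Opens} (hW₁ : IsAffineOpen W₁) (hW₂ : IsAffineOpen W₂)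
    (F₁ : X₁.Modules) (F₂ : X₂.Modules) [F₁.IsQuasicoherent] [F₂.IsQuasicoherent] :
    IsIso ((η (box p₁ p₂ W₁ W₂)).app
      (extTen p₁ p₂ ((CechOX.pushRestr W₁).obj F₁) ((CechOX.pushRestr W₂).obj F₂))) := by
  haveI := Groth.CohBase.RelCech.isQCoh_pushRestr hW₁ F₁
  haveI := Groth.CohBase.RelCech.isQCoh_pushRestr hW₂ F₂
  haveI := Groth.QCohMod.isQCoh_pullback_obj p₁ ((CechOX.pushRestr W₁).obj F₁)
  haveI := Groth.QCohMod.isQCoh_pullback_obj p₂ ((CechOX.pushRestr W₂).obj F₂)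
  let T := extTen p₁ p₂ ((CechOX.pushRestr W₁).obj F₁) ((CechOX.pushRestr W₂).obj F₂)
  haveI : T.IsQuasicoherent := Groth.QCohMod.isQCoh_tensorMod
  haveI := Groth.CohBase.RelCech.isQCoh_pushRestr
    (Groth.CohBase.Kunneth.isAffineOpen_box A p₁ p₂ h hW₁ hW₂) T
  refine @Groth.OmegaSheaf.isIso_of_affine_cover _ T _ _ ‹T.IsQuasicoherent› ‹_› fun x => ?_
  obtain ⟨U, V, hU, hV, hx⟩ := exists_box p₁ p₂ x
  refine ⟨box p₁ p₂ U V, Groth.CohBase.Kunneth.isAffineOpen_box A p₁ p₂ h hU hV, hx, ?_⟩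
  let W := box p₁ p₂ W₁ W₂
  have hcut : W.ι ''ᵁ (W.ι ⁻¹ᵁ box p₁ p₂ U V) = box p₁ p₂ (W₁ ⊓ U) (W₂ ⊓ V) := by
    rw [image_preimage_eq]
    simp only [W, box, Scheme.Hom.preimage_inf]
    exact inf_inf_inf_comm _ _ _ _
  have hres : ((η W).app T).app (box p₁ p₂ U V) = _ := rfl
  change Function.Bijective (QCohMod.res T ((image_preimage_eq W _).le.trans inf_le_right))
  have := (bijective_res_of_eq T hcut.le hcut.ge).comp (bijective_res_ext h hW₁ hW₂ hU hV F₁ F₂)
  exact (congrArg Function.Bijective (funext fun s => QCohMod.res_res _ _ _ _)).mp this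

theorem bijective_boxSec_top {W₁ : X₁.Opens} {W₂ : X₂.Opens} (hW₁ : IsAffineOpen W₁) (hW₂ : IsAffineOpen W₂)
    (F₁ : X₁.Modules) (F₂ : X₂.Modules) [F₁.IsQuasicoherent] [F₂.IsQuasicoherent] :
    Function.Bijective (boxSec A p₁ p₂ ((CechOX.pushRestr W₁).obj F₁) ((CechOX.pushRestr W₂).obj F₂) ⊤ ⊤) := by
  haveI := Groth.CohBase.RelCech.isQCoh_pushRestr hW₁ F₁
  haveI := Groth.CohBase.RelCech.isQCoh_pushRestr hW₂ F₂
  haveI := isIso_η_ext h hW₁ hW₂ F₁ F₂
  let T := extTen p₁ p₂ ((CechOX.pushRestr W₁).obj F₁) ((CechOX.pushRestr W₂).obj F₂)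
  let W := box p₁ p₂ W₁ W₂
  have hle : W ≤ box p₁ p₂ ⊤ ⊤ := inf_le_inf (p₁.preimage_mono le_top) (p₂.preimage_mono le_top)
  have hcut : W.ι ''ᵁ (W.ι ⁻¹ᵁ box p₁ p₂ ⊤ ⊤) = W :=
    (image_preimage_eq W _).trans (inf_eq_left.2 hle)
  have hr : Function.Bijective (secRes A T hle) := by
    have := (bijective_res_of_eq T hcut.ge hcut.le).comp
      (ConcreteCategory.bijective_of_isIso (((η W).app T).app (box p₁ p₂ ⊤ ⊤)))
    exact (congrArg Function.Bijective (funext fun s => QCohMod.res_res _ _ _ _)).mp this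
  have e₁ : Function.Bijective (secRes A ((CechOX.pushRestr W₁).obj F₁) (le_top : W₁ ≤ ⊤)) :=
    (congrArg Function.Bijective (funext fun s => (Groth.CohBase.secRes_apply A _ le_top s).symm)).mp
      (bijective_res_pushRestr W₁ F₁ le_top inf_le_left)
  have e₂ : Function.Bijective (secRes A ((CechOX.pushRestr W₂).obj F₂) (le_top : W₂ ≤ ⊤)) :=
    (congrArg Function.Bijective (funext fun s => (Groth.CohBase.secRes_apply A _ le_top s).symm)).mp
      (bijective_res_pushRestr W₂ F₂ le_top inf_le_left)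
  let M₁ := (CechOX.pushRestr W₁).obj F₁
  let M₂ := (CechOX.pushRestr W₂).obj F₂
  have hf : (fun z => secRes A T hle (boxSec A p₁ p₂ M₁ M₂ ⊤ ⊤ z)) =
      fun z => boxSec A p₁ p₂ M₁ M₂ W₁ W₂
        (TensorProduct.map (secRes A M₁ le_top) (secRes A M₂ le_top) z) :=
    funext fun z => Groth.CohBase.Kunneth.boxSec_res A p₁ p₂ M₁ M₂ le_top le_top hle z
  have hb : Function.Bijective (fun z => secRes A T hle (boxSec A p₁ p₂ M₁ M₂ ⊤ ⊤ z)) := by
    rw [hf]
    exact (Groth.CohBase.Kunneth.boxSec_bijective A p₁ p₂ M₁ M₂ h hW₁ hW₂).comp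
      (TensorProduct.congr (LinearEquiv.ofBijective _ e₁) (LinearEquiv.ofBijective _ e₂)).bijective
  exact (Function.Bijective.of_comp_iff' hr _).1 hb

end Base

section Nat

variable (A p₁ p₂)

/-- `boxSec` as a natural transformation in the first module. -/
noncomputable def boxNatLeft (N : X₂.Modules) (U : X₁.Opens) (V : X₂.Opens) :
    secF A U ⋙ (MonoidalCategory.curriedTensor (ModuleCat.{u} A)).flip.obj ((secF A V).obj N) ⟶
      (Scheme.Modules.pullback p₁ ⋙ (DCoh.tensorBi (X := P)).flip.obj ((Scheme.Modules.pullback p₂).obj N)) ⋙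
        secF A (box p₁ p₂ U V) where
  app M := mkHom (M := ModuleCat.of A (secA A M U ⊗[A] secA A N V))
    (N := secA A (extTen p₁ p₂ M N) (box p₁ p₂ U V)) (boxSec A p₁ p₂ M N U V)
  naturality M M' φ := ModuleCat.hom_ext (TensorProduct.ext' fun s t =>
    (boxSec_map_left p₁ p₂ φ N U V s t).symm)

/-- `boxSec` as a natural transformation in the second module. -/
noncomputable def boxNatRight (M : X₁.Modules) (U : X₁.Opens) (V : X₂.Opens) :
    secF A V ⋙ (MonoidalCategory.curriedTensor (ModuleCat.{u} A)).obj ((secF A U).obj M) ⟶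
      (Scheme.Modules.pullback p₂ ⋙ (DCoh.tensorBi (X := P)).obj ((Scheme.Modules.pullback p₁).obj M)) ⋙
        secF A (box p₁ p₂ U V) where
  app N := mkHom (M := ModuleCat.of A (secA A M U ⊗[A] secA A N V))
    (N := secA A (extTen p₁ p₂ M N) (box p₁ p₂ U V)) (boxSec A p₁ p₂ M N U V)
  naturality N N' φ := ModuleCat.hom_ext (TensorProduct.ext' fun s t =>
    (boxSec_map_right p₁ p₂ M φ U V s t).symm)

end Nat

/-- The properties of external tensor products of elementary modules. -/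
theorem Elem.ext (h : IsPullback p₁ p₂ (X₁ ↘ Spec (CommRingCat.of A)) (X₂ ↘ Spec (CommRingCat.of A)))
    [IsAffineHom (pullback.diagonal (terminal.from X₁))]
    [IsAffineHom (pullback.diagonal (terminal.from X₂))]
    [IsAffineHom (pullback.diagonal (terminal.from P))]
    {Φ₁ : X₁.Modules → Prop} {Φ₂ : X₂.Modules → Prop} (hΦ₁ : ∀ F, Φ₁ F → F.IsQuasicoherent)
    (hΦ₂ : ∀ F, Φ₂ F → F.IsQuasicoherent) {M : X₁.Modules} {N : X₂.Modules}
    (hM : Elem Φ₁ M) (hN : Elem Φ₂ N) :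
    Elem (fun T : P.Modules => T.IsQuasicoherent) (extTen p₁ p₂ M N) ∧
      IsIso ((boxNatRight A p₁ p₂ M ⊤ ⊤).app N) := by
  haveI : (Scheme.Modules.pullback p₁).Additive :=
    (Scheme.Modules.pullbackPushforwardAdjunction p₁).left_adjoint_additive
  haveI : (Scheme.Modules.pullback p₂).Additive :=
    (Scheme.Modules.pullbackPushforwardAdjunction p₂).left_adjoint_additive
  let bR := fun M : X₁.Modules => Scheme.Modules.pullback p₂ ⋙
    (DCoh.tensorBi (X := P)).obj ((Scheme.Modules.pullback p₁).obj M)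
  let bL := fun N : X₂.Modules => Scheme.Modules.pullback p₁ ⋙
    (DCoh.tensorBi (X := P)).flip.obj ((Scheme.Modules.pullback p₂).obj N)
  induction hM generalizing N with
  | base W₁ hW₁ F₁ hF₁ =>
    haveI := hΦ₁ F₁ hF₁
    induction hN with
    | base W₂ hW₂ F₂ hF₂ =>
      haveI := hΦ₂ F₂ hF₂
      haveI := isIso_η_ext h hW₁ hW₂ F₁ F₂
      haveI := Groth.CohBase.RelCech.isQCoh_pushRestr hW₁ F₁
      haveI := Groth.CohBase.RelCech.isQCoh_pushRestr hW₂ F₂
      haveI := Groth.QCohMod.isQCoh_pullback_obj p₁ ((CechOX.pushRestr W₁).obj F₁)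
      haveI := Groth.QCohMod.isQCoh_pullback_obj p₂ ((CechOX.pushRestr W₂).obj F₂)
      let T := extTen p₁ p₂ ((CechOX.pushRestr W₁).obj F₁) ((CechOX.pushRestr W₂).obj F₂)
      haveI : IsIso ((η (box p₁ p₂ W₁ W₂)).app T) := isIso_η_ext h hW₁ hW₂ F₁ F₂
      exact ⟨.of_iso _ _ (asIso ((η (box p₁ p₂ W₁ W₂)).app T)).symm
        (.base _ (Groth.CohBase.Kunneth.isAffineOpen_box A p₁ p₂ h hW₁ hW₂) T Groth.QCohMod.isQCoh_tensorMod),
        (ConcreteCategory.isIso_iff_bijective _).2 (bijective_boxSec_top h hW₁ hW₂ F₁ F₂)⟩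
    | zero N hN => exact ⟨.zero _ ((bR _).map_isZero hN),
        ⟨0, (Functor.map_isZero _ hN).eq_of_src _ _, (Functor.map_isZero _ hN).eq_of_src _ _⟩⟩
    | biprod N N' _ _ hN hN' =>
      haveI := hN.2
      haveI := hN'.2
      haveI := preservesBinaryBiproducts_of_preservesBiproducts (bR ((CechOX.pushRestr W₁).obj F₁))
      exact ⟨.of_iso _ _ ((bR _).mapBiprod N N').symm (.biprod _ _ hN.1 hN'.1), isIso_app_biprod _ N N'⟩
    | of_iso N N' e _ hN =>
      exact ⟨.of_iso _ _ ((bR _).mapIso e) hN.1, (NatTrans.isIso_app_iff_of_iso _ e).1 hN.2⟩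
  | zero M hM =>
    refine ⟨.zero _ ((bL N).map_isZero hM), ?_⟩
    have hz : IsZero ((secF A (⊤ : X₁.Opens) ⋙ (MonoidalCategory.curriedTensor (ModuleCat.{u} A)).flip.obj
        ((secF A ⊤).obj N)).obj M) := Functor.map_isZero _ hM
    exact ⟨0, hz.eq_of_src _ _, (((bL N) ⋙ secF A (box p₁ p₂ ⊤ ⊤)).map_isZero hM).eq_of_src _ _⟩
  | biprod M M' _ _ hM hM' =>
    haveI : IsIso ((boxNatLeft A p₁ p₂ N ⊤ ⊤).app M) := (hM hN).2
    haveI : IsIso ((boxNatLeft A p₁ p₂ N ⊤ ⊤).app M') := (hM' hN).2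
    haveI := preservesBinaryBiproducts_of_preservesBiproducts (bL N)
    exact ⟨.of_iso _ _ ((bL N).mapBiprod M M').symm (.biprod _ _ (hM hN).1 (hM' hN).1),
      isIso_app_biprod (boxNatLeft A p₁ p₂ N ⊤ ⊤) M M'⟩
  | of_iso M M' e _ hM =>
    exact ⟨.of_iso _ _ ((bL N).mapIso e) (hM hN).1,
      (NatTrans.isIso_app_iff_of_iso (boxNatLeft A p₁ p₂ N ⊤ ⊤) e).1 (hM hN).2⟩

end Groth.HTorGeom
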