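import Groth.Agent.HTopHyper.HTor.AffineRes
import Groth.Agent.HTopHyper.HTor.Computes
import Groth.Agent.CohBase.RelCechBC
import Groth.Agent.CohBase.CxModel

/-!
Sections of finite sums of direct images from affine opens, and their behaviour under base change.
-/

universe u

open CategoryTheory CategoryTheory.Limits AlgebraicGeometry Opposite TopologicalSpace
open scoped TensorProduct
open Groth.QCohMod (resFun)
open Groth.PicAux (pullSec)

attribute [local instance] HasDerivedCategory.standard

set_option maxHeartbeats 2000000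
set_option synthInstance.maxHeartbeats 200000
set_option backward.isDefEq.respectTransparency false
set_option linter.style.haveILetI false

namespace Groth.HTorGeom

variable {X : Scheme.{u}}

theorem rightAcyclic_biprod' {S : Scheme.{u}} (f : X ⟶ S) {M N : X.Modules}
    (hM : Groth.CohFin.RightAcyclic (Scheme.Modules.pushforward f) M)
    (hN : Groth.CohFin.RightAcyclic (Scheme.Modules.pushforward f) N) :
    Groth.CohFin.RightAcyclic (Scheme.Modules.pushforward f) (M ⊞ N) :=
  haveI : PreservesLimitsOfSize.{0, 0} (Scheme.Modules.pushforward f) :=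
    (Scheme.Modules.pullbackPushforwardAdjunction f).rightAdjoint_preservesLimits
  haveI : PreservesFiniteLimits (Scheme.Modules.pushforward f) := ⟨fun _ _ _ => inferInstance⟩
  Groth.CohFin.rightAcyclic_biprod (Scheme.Modules.pushforward f) hM hN

theorem flat_prod {A : Type u} [CommRing A] (P Q : Type u) [AddCommGroup P] [Module A P]
    [AddCommGroup Q] [Module A Q] [Module.Flat A P] [Module.Flat A Q] : Module.Flat A (P × Q) := by
  rw [Module.Flat.iff_lTensor_preserves_injective_linearMap]
  intro N N' _ _ _ _ L hL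
  have hs : ∀ z, TensorProduct.prodLeft A A P Q N' (L.lTensor (P × Q) z) =
      Prod.map (L.lTensor P) (L.lTensor Q) (TensorProduct.prodLeft A A P Q N z) := fun z => by
    induction z using TensorProduct.induction_on with
    | zero => simp [Prod.ext_iff]
    | tmul x n => obtain ⟨x, y⟩ := x; simp [Prod.ext_iff]
    | add z w hz hw => simp [Prod.ext_iff, hz, hw]
  intro z w h
  apply (TensorProduct.prodLeft A A P Q N).injective
  apply (Function.Injective.prodMap (Module.Flat.lTensor_preserves_injective_linearMap L hL)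
    (Module.Flat.lTensor_preserves_injective_linearMap L hL))
  rw [← hs, ← hs, h]

section Classes

variable [IsAffineHom (pullback.diagonal (terminal.from X))]

theorem closed_qcoh : Closed (X := X) fun M => M.IsQuasicoherent where
  zero _ h := Groth.Misc4.QCohDPerf.isQCoh_isZero h
  iso e h := (Groth.QCohMod.isQCoh_iff_of_iso e).1 h
  biprod M N hM hN := by haveI := hM; haveI := hN; infer_instance
  push W hW F hF := by haveI := hF; exact Groth.CohBase.RelCech.isQCoh_pushRestr hW F

/-- Elementary modules are acyclic for a morphism to an affine scheme. -/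
theorem Elem.rightAcyclic {S : Scheme.{u}} [IsAffine S] (f : X ⟶ S) {Φ : X.Modules → Prop}
    (hΦ : ∀ F, Φ F → F.IsQuasicoherent) {M : X.Modules} (h : Elem Φ M) :
    Groth.CohFin.RightAcyclic (Scheme.Modules.pushforward f) M := by
  induction h with
  | base W hW F hF =>
    haveI := hΦ F hF
    haveI := Groth.CohBase.RelCech.isAffineHom_ι hW
    haveI : IsAffine W.toScheme := hW
    exact Groth.CohBase.RelCechBC.rightAcyclic_pushRestr' f F
  | zero M h =>
    haveI : Injective M := h.injective
    exact Groth.CohFin.rightAcyclic_of_injective _ _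
  | biprod M N _ _ hM hN => exact rightAcyclic_biprod' f hM hN
  | of_iso M N e _ hM => exact fun k => (hM k).of_iso (((Scheme.Modules.pushforward f).rightDerived (k + 1)).mapIso e.symm)

variable {A : Type u} [CommRing A] [X.Over (Spec (CommRingCat.of A))]

/-- Quasi-coherent with sections on affine opens flat over the base ring. -/
def FlatSec (A : Type u) [CommRing A] [X.Over (Spec (CommRingCat.of A))] (M : X.Modules) : Prop :=
  M.IsQuasicoherent ∧ ∀ V, IsAffineOpen V → Module.Flat A (Groth.CohBase.secA A M V)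

omit [IsAffineHom (pullback.diagonal (terminal.from X))] in
/-- Maps of modules on sections, linearly over the base ring. -/
noncomputable def appA {M N : X.Modules} (φ : M ⟶ N) (V : X.Opens) :
    Groth.CohBase.secA A M V →ₗ[A] Groth.CohBase.secA A N V where
  toFun s := φ.app V s
  map_add' := map_add (φ.app V).hom
  map_smul' a s := Scheme.Modules.Hom.app_smul φ (Groth.CohBase.toSec A V a) s

theorem closed_flatSec : Closed (X := X) (FlatSec A) where
  zero M h := ⟨Groth.Misc4.QCohDPerf.isQCoh_isZero h, fun V _ => by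
    haveI : Subsingleton (Groth.CohBase.secA A M V) :=
      ⟨fun s t => (Groth.RelTilde.eq_zero_of_isZero h (s : Γ(M, V))).trans
        (Groth.RelTilde.eq_zero_of_isZero h (t : Γ(M, V))).symm⟩
    infer_instance⟩
  iso {M N} e h := ⟨(Groth.QCohMod.isQCoh_iff_of_iso e).1 h.1, fun V hV =>
    haveI := h.2 V hV
    Module.Flat.of_retract (appA e.inv V) (appA e.hom V) (LinearMap.ext fun s =>
      congr(($(e.inv_hom_id)).app V (s : Γ(N, V))))⟩
  biprod M N hM hN := by
    refine ⟨closed_qcoh.biprod M N hM.1 hN.1, fun V hV => ?_⟩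
    haveI := hM.2 V hV
    haveI := hN.2 V hV
    haveI := flat_prod (A := A) (Groth.CohBase.secA A M V) (Groth.CohBase.secA A N V)
    refine Module.Flat.of_retract ((appA (biprod.fst : M ⊞ N ⟶ M) V).prod (appA biprod.snd V))
      ((appA (biprod.inl : M ⟶ M ⊞ N) V).coprod (appA biprod.inr V)) (LinearMap.ext fun s => ?_)
    exact congr(($(biprod.total (X := M) (Y := N))).app V (s : Γ(M ⊞ N, V)))
  push W hW F hF := by
    refine ⟨closed_qcoh.push W hW F hF.1, fun V hV => ?_⟩
    have hc : IsAffineOpen (W.ι ''ᵁ (W.ι ⁻¹ᵁ V)) := (image_preimage_eq W V).symm ▸ hW.inf hV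
    haveI := hF.2 _ hc
    let e : Groth.CohBase.secA A ((CechOX.pushRestr W).obj F) V ≃ₗ[A]
        Groth.CohBase.secA A F (W.ι ''ᵁ (W.ι ⁻¹ᵁ V)) :=
      { AddEquiv.refl Γ(F, W.ι ''ᵁ (W.ι ⁻¹ᵁ V)) with
        map_smul' := fun a s => by
          change (W.ι.appIso (W.ι ⁻¹ᵁ V)).inv (W.ι.app V (Groth.CohBase.toSec A V a)) •
              (show Γ(F, W.ι ''ᵁ (W.ι ⁻¹ᵁ V)) from s) = _
          rw [Groth.CohBase.RelCechBC.smul_pushRestr, Groth.CohBase.resFun_toSec]
          rfl }
    exact Module.Flat.of_linearEquiv e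

omit [IsAffineHom (pullback.diagonal (terminal.from X))] in
theorem flatSec_of_isFlatOver (F : X.Modules) [F.IsQuasicoherent]
    (hfl : FlatMod.IsFlatOver (X ↘ Spec (CommRingCat.of A)) F) : FlatSec A F :=
  ⟨‹_›, fun _ hV => Groth.CohBase.flat_secA A F hfl hV⟩

end Classes

section Top

variable {A : Type u} [CommRing A] {f : X ⟶ Spec (CommRingCat.of A)}

/-- Global sections of elementary modules of flat type are flat. -/
theorem Elem.flat_top [IsAffineHom (pullback.diagonal (terminal.from X))] {M : X.Modules}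
    (h : letI : X.Over (Spec (CommRingCat.of A)) := ⟨f⟩; Elem (FlatSec A) M) :
    Module.Flat A ((HTor.globalSectionsA f).obj M) := by
  let : X.Over (Spec (CommRingCat.of A)) := ⟨f⟩
  let G := HTor.globalSectionsA f
  induction h with
  | base W hW F hF =>
    let U := W.ι ''ᵁ (W.ι ⁻¹ᵁ (⊤ : X.Opens))
    have hU : IsAffineOpen U :=
      (show U = W from (image_preimage_eq W ⊤).trans (inf_top_eq _)) ▸ hW
    haveI := hF.2 U hU
    let e : G.obj ((CechOX.pushRestr W).obj F) ≃ₗ[A] Groth.CohBase.secA A F U :=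
      { AddEquiv.refl Γ(F, U) with
        map_smul' := fun a s => by
          change (W.ι.appIso (W.ι ⁻¹ᵁ (⊤ : X.Opens))).inv (W.ι.app ⊤
              (f.appTop ((Scheme.ΓSpecIso (CommRingCat.of A)).inv a))) •
              (show Γ(F, U) from s) = Groth.CohBase.toSec A U a • (show Γ(F, U) from s)
          rw [Groth.CohBase.RelCechBC.smul_pushRestr]
          rfl }
    exact Module.Flat.of_linearEquiv e
  | zero M h =>
    haveI := ModuleCat.subsingleton_of_isZero (G.map_isZero h)
    infer_instance
  | biprod M N _ _ hM hN =>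
    haveI := hM
    haveI := hN
    haveI := flat_prod (A := A) (G.obj M) (G.obj N)
    refine Module.Flat.of_retract ((G.map (biprod.fst : M ⊞ N ⟶ M)).hom.prod (G.map biprod.snd).hom)
      ((G.map (biprod.inl : M ⟶ M ⊞ N)).hom.coprod (G.map biprod.inr).hom) (LinearMap.ext fun s => ?_)
    have h := congrArg G.map (biprod.total (X := M) (Y := N))
    rw [Functor.map_add, Functor.map_comp, Functor.map_comp, CategoryTheory.Functor.map_id] at h
    exact congr(($h) s)
  | of_iso M N e _ hM =>
    haveI := hM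
    exact Module.Flat.of_linearEquiv (G.mapIso e).toLinearEquiv.symm

end Top

section BaseChange

variable {A A' : Type u} [CommRing A] [CommRing A'] {φ : A →+* A'} {X' : Scheme.{u}}
  {f : X ⟶ Spec (CommRingCat.of A)} {f' : X' ⟶ Spec (CommRingCat.of A')} {g' : X' ⟶ X}
  (w : g' ≫ f = f' ≫ Spec.map (CommRingCat.ofHom φ))

include w in
theorem toGlobal_comp (a : A) :
    g'.appTop (f.appTop ((Scheme.ΓSpecIso (CommRingCat.of A)).inv a)) =
      f'.appTop ((Scheme.ΓSpecIso (CommRingCat.of A')).inv (φ a)) := by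
  have h := congr(Scheme.Hom.appTop $w)
  rw [Scheme.Hom.comp_appTop, Scheme.Hom.comp_appTop] at h
  have h2 := Scheme.ΓSpecIso_inv_naturality (CommRingCat.ofHom φ)
  refine (ConcreteCategory.congr_hom h _).trans (congrArg f'.appTop ?_)
  exact (ConcreteCategory.congr_hom h2 a).symm

/-- Pullback of global sections, linearly. -/
noncomputable def pullΓ (M : X.Modules) :
    (HTor.globalSectionsA f).obj M ⟶ (ModuleCat.restrictScalars φ).obj
      ((HTor.globalSectionsA f').obj ((Scheme.Modules.pullback g').obj M)) :=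
  ModuleCat.ofHom (X := (HTor.globalSectionsA f).obj M) (Y := (ModuleCat.restrictScalars φ).obj
    ((HTor.globalSectionsA f').obj ((Scheme.Modules.pullback g').obj M)))
  { toFun := fun s => (show Γ((Scheme.Modules.pullback g').obj M, ⊤) from
      pullSec g' M (show Γ(M, ⊤) from s))
    map_add' := fun s t => map_add
      (((Scheme.Modules.pullbackPushforwardAdjunction g').unit.app M).app ⊤).hom s t
    map_smul' := fun a s => by
      refine (Groth.PicAux.pullSec_smul g' M _ _).trans ?_
      exact congrArg (fun r : Γ(X', ⊤) => r •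
        (show Γ((Scheme.Modules.pullback g').obj M, ⊤) from pullSec g' M (show Γ(M, ⊤) from s)))
        (toGlobal_comp w a) }

/-- The base change map of global sections. -/
noncomputable def θ :
    HTor.globalSectionsA f ⋙ ModuleCat.extendScalars φ ⟶
      Scheme.Modules.pullback g' ⋙ HTor.globalSectionsA f' where
  app M := ((ModuleCat.extendRestrictScalarsAdj φ).homEquiv _ _).symm (pullΓ w M)
  naturality M N u := by
    apply ((ModuleCat.extendRestrictScalarsAdj φ).homEquiv _ _).injective
    rw [Functor.comp_map, Functor.comp_map, Adjunction.homEquiv_naturality_left,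
      Adjunction.homEquiv_naturality_right, Equiv.apply_symm_apply, Equiv.apply_symm_apply]
    exact ModuleCat.hom_ext (LinearMap.ext fun s =>
      (Groth.PicAux.pullSec_map g' u (U := ⊤) (show Γ(M, ⊤) from s)).symm)

theorem θ_tmul (M : X.Modules) (b : A') (s : (HTor.globalSectionsA f).obj M) :
    letI : Algebra A A' := φ.toAlgebra
    (θ w).app M (b ⊗ₜ[A] s) = b • (show (HTor.globalSectionsA f').obj
      ((Scheme.Modules.pullback g').obj M) from pullSec g' M (show Γ(M, ⊤) from s)) := rfl

variable {w}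

/-- The base change map of global sections is bijective on a direct image from an affine open. -/
theorem isIso_θ_base (sq : IsPullback g' f' f (Spec.map (CommRingCat.ofHom φ)))
    {W : X.Opens} (hW : IsAffineOpen W) [IsAffineHom W.ι] (F : X.Modules) [F.IsQuasicoherent] :
    IsIso ((θ sq.w).app ((CechOX.pushRestr W).obj F)) := by
  have sq₁ : IsPullback g' (𝟙 X') (𝟙 X) g' := IsPullback.of_id_snd
  haveI : IsAffineHom (W.ι ≫ 𝟙 X) := by rw [Category.comp_id]; infer_instance
  haveI := Groth.CohBase.RelCechBC.isIso_phi sq₁ (W' := g' ⁻¹ᵁ W) rfl F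
  let N := (Scheme.Modules.pullback g').obj F
  let M := (CechOX.pushRestr W).obj F
  let β : (Scheme.Modules.pullback g').obj M ⟶ (CechOX.pushRestr (g' ⁻¹ᵁ W)).obj N :=
    (Scheme.Modules.pullback g').map ((Scheme.Modules.pushforwardId X).inv.app M) ≫
      Groth.CohBase.RelCechBC.phi sq₁.w (W := W) (W' := g' ⁻¹ᵁ W) le_rfl F ≫
        (Scheme.Modules.pushforwardId X').hom.app _
  haveI : IsIso β := inferInstance
  haveI : IsAffine W.toScheme := hW
  haveI : IsAffineHom ((g' ⁻¹ᵁ W).ι ≫ f') := MorphismProperty.of_isPullback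
    (Groth.CohBase.RelCechBC.isPullback_restrict sq W) inferInstance
  let U := W.ι ''ᵁ (W.ι ⁻¹ᵁ (⊤ : X.Opens))
  let U' := (g' ⁻¹ᵁ W).ι ''ᵁ ((g' ⁻¹ᵁ W).ι ⁻¹ᵁ (⊤ : X'.Opens))
  have hUW : U = W := (image_preimage_eq W ⊤).trans (inf_top_eq _)
  have hU'W : U' = g' ⁻¹ᵁ W := (image_preimage_eq _ ⊤).trans (inf_top_eq _)
  have hU : IsAffineOpen U := hUW ▸ hW
  have hU'a : IsAffineOpen U' :=
    ((isAffineOpen_top _).preimage ((g' ⁻¹ᵁ W).ι ≫ f')).image_of_isOpenImmersion _
  have e : (⊤ : (Spec (CommRingCat.of A')).Opens) ≤ Spec.map (CommRingCat.ofHom φ) ⁻¹ᵁ ⊤ := le_top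
  have eU : U ≤ f ⁻¹ᵁ ⊤ := le_top
  have e₂ : U' ≤ f' ⁻¹ᵁ ⊤ := le_top
  have hU' : U' = g' ⁻¹ᵁ U ⊓ f' ⁻¹ᵁ (⊤ : (Spec (CommRingCat.of A')).Opens) := by
    rw [hUW, hU'W, Scheme.Hom.preimage_top, inf_top_eq]
  have e₁ : U' ≤ g' ⁻¹ᵁ U := hU'.le.trans inf_le_left
  have hp := (isIso_pushoutSection_iff sq e eU hU').1
    (isIso_pushoutSection_of_isAffineOpen sq e eU hU' (isAffineOpen_top _) (isAffineOpen_top _) hU)
  let gA : CommRingCat.of A ⟶ Γ(X, U) :=
    (Scheme.ΓSpecIso (CommRingCat.of A)).inv ≫ f.appLE ⊤ U eU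
  let gA' : CommRingCat.of A' ⟶ Γ(X', U') :=
    (Scheme.ΓSpecIso (CommRingCat.of A')).inv ≫ f'.appLE ⊤ U' e₂
  let hS := Scheme.ΓSpecIso_inv_naturality (CommRingCat.ofHom φ)
  have hp₂ : IsPushout gA (CommRingCat.ofHom φ) (g'.appLE U U' e₁) gA' :=
    hp.of_iso (Scheme.ΓSpecIso (CommRingCat.of A)) (Iso.refl _) (Scheme.ΓSpecIso (CommRingCat.of A'))
      (Iso.refl _) (by simp [gA])
      ((congrArg (· ≫ (Scheme.ΓSpecIso (CommRingCat.of A')).hom) (Scheme.Hom.appLE_eq_app _)).trans
        (Scheme.ΓSpecIso_naturality (CommRingCat.ofHom φ)))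
      (by simp) (by simp [gA'])
  let : Algebra A A' := φ.toAlgebra
  let : Algebra A Γ(X, U) := gA.hom.toAlgebra
  let : Algebra A' Γ(X', U') := gA'.hom.toAlgebra
  let := Groth.QCohMod.sectionsAlg g' e₁
  let : Algebra A Γ(X', U') := ((g'.appLE U U' e₁).hom.comp gA.hom).toAlgebra
  have : IsScalarTower A Γ(X, U) Γ(X', U') := .of_algebraMap_eq fun _ => rfl
  have : IsScalarTower A A' Γ(X', U') :=
    .of_algebraMap_eq fun r => ConcreteCategory.congr_hom hp₂.w r
  have hp' : Algebra.IsPushout A Γ(X, U) A' Γ(X', U') :=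
    CommRingCat.isPushout_iff_isPushout.1 hp₂
  have : Algebra.IsPushout A A' Γ(X, U) Γ(X', U') := hp'.symm
  let : Module A Γ(F, U) := Module.compHom _ gA.hom
  have : IsScalarTower A Γ(X, U) Γ(F, U) := .of_algebraMap_smul fun _ _ => rfl
  let : Module A' Γ(N, U') := Module.compHom _ gA'.hom
  let ident : (HTor.globalSectionsA f).obj M ≃ₗ[A] Γ(F, U) :=
    { AddEquiv.refl Γ(F, U) with
      map_smul' := fun r s => by
        change (W.ι.appIso (W.ι ⁻¹ᵁ (⊤ : X.Opens))).inv (W.ι.app ⊤
            (f.appTop ((Scheme.ΓSpecIso (CommRingCat.of A)).inv r))) •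
          (show Γ(F, U) from s) = _
        rw [Groth.CohBase.RelCechBC.smul_pushRestr]
        rfl }
  let c := LinearEquiv.lTensor A' ident
  let a := (Algebra.IsPushout.cancelBaseChange A A' Γ(X, U) Γ(X', U') Γ(F, U)).symm
  let T := (HTor.globalSectionsA f').map β
  have hsm' : ∀ (b : A') (t : (HTor.globalSectionsA f').obj ((CechOX.pushRestr (g' ⁻¹ᵁ W)).obj N)),
      (show Γ(N, U') from b • t) = gA' b • (show Γ(N, U') from t) := fun b t => by
    change ((g' ⁻¹ᵁ W).ι.appIso _).inv ((g' ⁻¹ᵁ W).ι.app ⊤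
        (f'.appTop ((Scheme.ΓSpecIso (CommRingCat.of A')).inv b))) •
      (show Γ(N, U') from t) = _
    rw [Groth.CohBase.RelCechBC.smul_pushRestr]
    rfl
  have key : ∀ z : A' ⊗[A] (HTor.globalSectionsA f).obj M,
      (show Γ(N, U') from T ((θ sq.w).app M z)) =
        Groth.QCohMod.pullSecTensor g' F e₁ (a (c z)) := by
    intro z
    induction z using TensorProduct.induction_on with
    | zero => simp only [map_zero]
    | add p q hp hq =>
      rw [map_add c, map_add a, map_add (Groth.QCohMod.pullSecTensor g' F e₁)]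
      exact ((congrArg T (map_add _ p q)).trans (map_add _ _ _)).trans (congrArg₂ (· + ·) hp hq)
    | tmul b s =>
      rw [show (θ sq.w).app M (b ⊗ₜ[A] s) = b • (show (HTor.globalSectionsA f').obj
        ((Scheme.Modules.pullback g').obj M) from pullSec g' M (show Γ(M, ⊤) from s)) from rfl,
        map_smul]
      refine (hsm' b _).trans ?_
      change gA' b • (show Γ(N, U') from β.app ⊤ (pullSec g' M (show Γ(M, ⊤) from s))) =
        Groth.QCohMod.pullSecTensor g' F e₁ (a (b ⊗ₜ (show Γ(F, U) from s)))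
      rw [Algebra.IsPushout.cancelBaseChange_symm_tmul, Groth.QCohMod.pullSecTensor_tmul,
        Algebra.algebraMap_eq_smul_one]
      refine congrArg₂ (· • ·) (mul_one (gA' b)).symm ?_
      refine (congrArg ((Groth.CohBase.RelCechBC.phi sq₁.w (W := W) (W' := g' ⁻¹ᵁ W) le_rfl F).app ⊤)
        (Groth.PicAux.pullSec_map g' ((Scheme.Modules.pushforwardId X).inv.app M) (U := ⊤)
          (show Γ(M, ⊤) from s))).trans ?_
      refine Eq.trans ?_ (Groth.CohBase.RelCechBC.phi_pullSec sq₁.w (W := W) (W' := g' ⁻¹ᵁ W) le_rfl F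
        (V := ⊤) (V' := ⊤) le_top e₁ (show Γ(F, U) from s))
      exact congrArg ((Groth.CohBase.RelCechBC.phi sq₁.w (W := W) (W' := g' ⁻¹ᵁ W) le_rfl F).app ⊤)
        (Groth.QCohMod.res_self _ _).symm
  have h1 : Function.Bijective ((Groth.QCohMod.pullSecTensor g' F e₁) ∘ fun z => a (c z)) :=
    (Groth.QCohMod.pullSecTensor_bijective g' F e₁ hU hU'a).comp (a.bijective.comp c.bijective)
  have h2 : Function.Bijective (fun z => T ((θ sq.w).app M z)) := by
    rw [show (fun z => T ((θ sq.w).app M z)) =
      (Groth.QCohMod.pullSecTensor g' F e₁) ∘ (fun z => a (c z)) from funext key]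
    exact h1
  have hT : Function.Bijective T := ConcreteCategory.bijective_of_isIso T
  exact (ConcreteCategory.isIso_iff_bijective _).2 ((hT.of_comp_iff' _).1 h2)

/-- A natural transformation of additive functors which is invertible on two objects is invertible
on their biproduct. -/
theorem isIso_app_biprod {C D : Type*} [Category C] [Category D] [Preadditive C] [Preadditive D]
    {F G : C ⥤ D} [F.Additive] [G.Additive] (η : F ⟶ G) (M N : C) [HasBinaryBiproduct M N]
    [IsIso (η.app M)] [IsIso (η.app N)] : IsIso (η.app (M ⊞ N)) := by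
  refine ⟨G.map biprod.fst ≫ inv (η.app M) ≫ F.map biprod.inl +
    G.map biprod.snd ≫ inv (η.app N) ≫ F.map biprod.inr, ?_, ?_⟩
  · simp only [Preadditive.comp_add, ← NatTrans.naturality_assoc, IsIso.hom_inv_id_assoc,
      ← Functor.map_comp, ← Functor.map_add, biprod.total, CategoryTheory.Functor.map_id]
  · simp only [Preadditive.add_comp, Category.assoc, NatTrans.naturality, IsIso.inv_hom_id_assoc,
      ← Functor.map_comp, ← Functor.map_add, biprod.total, CategoryTheory.Functor.map_id]

/-- The base change map of global sections is bijective on elementary modules. -/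
theorem Elem.isIso_θ [IsAffineHom (pullback.diagonal (terminal.from X))]
    (sq : IsPullback g' f' f (Spec.map (CommRingCat.ofHom φ))) {Φ : X.Modules → Prop}
    (hΦ : ∀ F, Φ F → F.IsQuasicoherent) {M : X.Modules} (h : Elem Φ M) :
    IsIso ((θ sq.w).app M) := by
  haveI : (ModuleCat.extendScalars.{u, u, u} φ).Additive :=
    (ModuleCat.extendRestrictScalarsAdj φ).left_adjoint_additive
  haveI : (Scheme.Modules.pullback g').Additive :=
    (Scheme.Modules.pullbackPushforwardAdjunction g').left_adjoint_additive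
  induction h with
  | base W hW F hF =>
    haveI := hΦ F hF
    haveI := Groth.CohBase.RelCech.isAffineHom_ι hW
    exact isIso_θ_base sq hW F
  | zero M h =>
    exact ⟨0, (Functor.map_isZero _ h).eq_of_src _ _, (Functor.map_isZero _ h).eq_of_src _ _⟩
  | biprod M N _ _ hM hN =>
    haveI := hM
    haveI := hN
    exact isIso_app_biprod (θ sq.w) M N
  | of_iso M N e _ hM =>
    haveI := hM
    exact (NatTrans.isIso_app_iff_of_iso (θ sq.w) e).1 inferInstance

end BaseChange

end Groth.HTorGeom
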