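import Groth.Agent.HTopHyper.HTor.TotIso
import Groth.Agent.HTopHyper.HTor.GammaBC
import Groth.Agent.HTopHyper.HTor.Basic
import Groth.Agent.CohBase.Kunneth.BoxSec
import Groth.Agent.DerivedCoh.KFlat.SchemeStalk

/-!
Sections of external tensor products of complexes over boxes of opens.
-/

universe u

open CategoryTheory CategoryTheory.Limits AlgebraicGeometry Opposite TopologicalSpace HomologicalComplex
open scoped TensorProduct
open Groth.PicAux (pullSec tmulSec)
open Groth.CohBase (secA toSec)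
open Groth.CohBase.Kunneth (box extTen boxSec)

attribute [local instance] HasDerivedCategory.standard

set_option maxHeartbeats 2000000
set_option synthInstance.maxHeartbeats 200000
set_option backward.isDefEq.respectTransparency false
set_option linter.style.haveILetI false

namespace Groth.HTorGeom

/-- A linear map between objects of `ModuleCat`, as a morphism. -/
noncomputable abbrev mkHom {A : Type u} [CommRing A] {M N : ModuleCat.{u} A} (l : M →ₗ[A] N) : M ⟶ N :=
  ModuleCat.ofHom l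

local notation "up" => ComplexShape.up ℤ

section SecF

variable (A : Type u) [CommRing A] {X : Scheme.{u}} [X.Over (Spec (CommRingCat.of A))]

/-- Sections over an open, with values in modules over the base ring. -/
noncomputable def secF (W : X.Opens) : X.Modules ⥤ ModuleCat.{u} A where
  obj M := secA A M W
  map {M N} φ := mkHom (M := secA A M W) (N := secA A N W) (appA φ W)
  map_id _ := rfl
  map_comp _ _ := rfl

instance additive_secF (W : X.Opens) : (secF A W).Additive where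
  map_add {_ _ _ _} := ModuleCat.hom_ext (LinearMap.ext fun _ => rfl)

/-- Sections over the whole space are the global sections. -/
noncomputable def secTopIso :
    secF A (⊤ : X.Opens) ≅ HTor.globalSectionsA (X ↘ Spec (CommRingCat.of A)) :=
  NatIso.ofComponents (fun M => LinearEquiv.toModuleIso
    (show secA A M (⊤ : X.Opens) ≃ₗ[A] (HTor.globalSectionsA (X ↘ Spec (CommRingCat.of A))).obj M from
    { AddEquiv.refl Γ(M, (⊤ : X.Opens)) with
      map_smul' := fun a s => congrArg (fun r : Γ(X, ⊤) => r • (show Γ(M, (⊤ : X.Opens)) from s))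
        (Groth.QCohMod.resFun_self _) }))
    (fun _ => rfl)

end SecF

variable {A : Type u} [CommRing A] {X₁ X₂ P : Scheme.{u}}
  [X₁.Over (Spec (CommRingCat.of A))] [X₂.Over (Spec (CommRingCat.of A))]
  [P.Over (Spec (CommRingCat.of A))] (p₁ : P ⟶ X₁) (p₂ : P ⟶ X₂)
  [p₁.IsOver (Spec (CommRingCat.of A))] [p₂.IsOver (Spec (CommRingCat.of A))]

omit [X₁.Over (Spec (CommRingCat.of A))] [X₂.Over (Spec (CommRingCat.of A))]
  [P.Over (Spec (CommRingCat.of A))] [p₁.IsOver (Spec (CommRingCat.of A))]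
  [p₂.IsOver (Spec (CommRingCat.of A))] in
theorem app_res_pullSec {M N : X₁.Modules} (φ : M ⟶ N) {U : X₁.Opens} {W : P.Opens}
    (e : W ≤ p₁ ⁻¹ᵁ U) (s : Γ(M, U)) :
    ((Scheme.Modules.pullback p₁).map φ).app W (QCohMod.res _ e (pullSec p₁ M s)) =
      QCohMod.res _ e (pullSec p₁ N (φ.app U s)) :=
  (QCohMod.res_app _ e _).symm.trans (congrArg (QCohMod.res _ e) (Groth.PicAux.pullSec_map p₁ φ s))

/-- `boxSec` is natural in the first module. -/
theorem boxSec_map_left {M N : X₁.Modules} (φ : M ⟶ N) (F₂ : X₂.Modules) (U : X₁.Opens) (V : X₂.Opens)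
    (s : secA A M U) (t : secA A F₂ V) :
    (secF A (box p₁ p₂ U V)).map (((DCoh.tensorBi (X := P)).map ((Scheme.Modules.pullback p₁).map φ)).app
        ((Scheme.Modules.pullback p₂).obj F₂)) (boxSec A p₁ p₂ M F₂ U V (s ⊗ₜ t)) =
      boxSec A p₁ p₂ N F₂ U V (appA φ U s ⊗ₜ t) :=
  (Groth.DerivedCoh.KFlat.tensorMap_left_tmulSec ((Scheme.Modules.pullback p₁).map φ) _ _ _ _).trans
    (congrArg (fun z => tmulSec z _) (app_res_pullSec p₁ φ _ _))

/-- `boxSec` is natural in the second module. -/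
theorem boxSec_map_right (F₁ : X₁.Modules) {M N : X₂.Modules} (φ : M ⟶ N) (U : X₁.Opens) (V : X₂.Opens)
    (s : secA A F₁ U) (t : secA A M V) :
    (secF A (box p₁ p₂ U V)).map (((DCoh.tensorBi (X := P)).obj ((Scheme.Modules.pullback p₁).obj F₁)).map
        ((Scheme.Modules.pullback p₂).map φ)) (boxSec A p₁ p₂ F₁ M U V (s ⊗ₜ t)) =
      boxSec A p₁ p₂ F₁ N U V (s ⊗ₜ appA φ V t) :=
  (Groth.DerivedCoh.KFlat.tensorMap_tmulSec _ ((Scheme.Modules.pullback p₂).map φ) _ _ _).trans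
    (congrArg (tmulSec _) (app_res_pullSec p₂ φ _ _))

/-- The external tensor product of complexes. -/
noncomputable abbrev extCxP (K₁ : CochainComplex X₁.Modules ℤ) (K₂ : CochainComplex X₂.Modules ℤ) :
    CochainComplex P.Modules ℤ :=
  (DCoh.tensorCx.obj ((HTor.pullCx p₁).obj K₁)).obj ((HTor.pullCx p₂).obj K₂)

/-- The map of external tensor products induced by maps of complexes. -/
noncomputable abbrev extCxMap {K₁ L₁ : CochainComplex X₁.Modules ℤ} {K₂ L₂ : CochainComplex X₂.Modules ℤ}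
    (a₁ : K₁ ⟶ L₁) (a₂ : K₂ ⟶ L₂) : extCxP p₁ p₂ K₁ K₂ ⟶ extCxP p₁ p₂ L₁ L₂ :=
  mapBifunctorMap ((HTor.pullCx p₁).map a₁) ((HTor.pullCx p₂).map a₂) (DCoh.tensorBi (X := P)) up

variable (A) in
/-- The complex of sections over an open. -/
noncomputable abbrev secCx {X : Scheme.{u}} [X.Over (Spec (CommRingCat.of A))] (W : X.Opens) :
    CochainComplex X.Modules ℤ ⥤ DRing.Cx A :=
  (secF A W).mapHomologicalComplex up

/-- `boxSec` on the summands. -/
noncomputable abbrev boxEta (K₁ : CochainComplex X₁.Modules ℤ) (K₂ : CochainComplex X₂.Modules ℤ)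
    (U : X₁.Opens) (V : X₂.Opens) (i j : ℤ) :
    ((MonoidalCategory.curriedTensor (ModuleCat.{u} A)).obj (((secCx A U).obj K₁).X i)).obj
        (((secCx A V).obj K₂).X j) ⟶
      (secF A (box p₁ p₂ U V)).obj (((DCoh.tensorBi (X := P)).obj (((HTor.pullCx p₁).obj K₁).X i)).obj
        (((HTor.pullCx p₂).obj K₂).X j)) :=
  mkHom (M := ModuleCat.of A (secA A (K₁.X i) U ⊗[A] secA A (K₂.X j) V))
    (N := secA A (extTen p₁ p₂ (K₁.X i) (K₂.X j)) (box p₁ p₂ U V)) (boxSec A p₁ p₂ (K₁.X i) (K₂.X j) U V)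

/-- Sections over a box compare with tensor products of sections. -/
noncomputable def boxTotF (K₁ : CochainComplex X₁.Modules ℤ) (K₂ : CochainComplex X₂.Modules ℤ)
    (U : X₁.Opens) (V : X₂.Opens) (n : ℤ) :
    (HTor.tensorCx ((secCx A U).obj K₁) ((secCx A V).obj K₂)).X n ⟶
      ((secCx A (box p₁ p₂ U V)).obj (extCxP p₁ p₂ K₁ K₂)).X n :=
  totDeg (DCoh.tensorBi (X := P)) (MonoidalCategory.curriedTensor (ModuleCat.{u} A))
    (secF A (box p₁ p₂ U V)) _ _ _ _ (boxEta p₁ p₂ K₁ K₂ U V) n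

variable (K₁ : CochainComplex X₁.Modules ℤ) (K₂ : CochainComplex X₂.Modules ℤ) (U : X₁.Opens) (V : X₂.Opens)

theorem boxTotF_ι (i j n : ℤ) (h : i + j = n) (s : secA A (K₁.X i) U) (t : secA A (K₂.X j) V) :
    boxTotF p₁ p₂ K₁ K₂ U V n (HTorLib.ι' ((secCx A U).obj K₁) ((secCx A V).obj K₂) i j n h (s ⊗ₜ t)) =
      (secF A (box p₁ p₂ U V)).map (ιMapBifunctor ((HTor.pullCx p₁).obj K₁) ((HTor.pullCx p₂).obj K₂)
        (DCoh.tensorBi (X := P)) up i j n h) (boxSec A p₁ p₂ (K₁.X i) (K₂.X j) U V (s ⊗ₜ t)) :=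
  LinearMap.congr_fun (congrArg ModuleCat.Hom.hom (ι_totDeg (DCoh.tensorBi (X := P))
    (MonoidalCategory.curriedTensor (ModuleCat.{u} A)) (secF A (box p₁ p₂ U V))
    ((HTor.pullCx p₁).obj K₁) ((HTor.pullCx p₂).obj K₂) ((secCx A U).obj K₁) ((secCx A V).obj K₂)
    (boxEta p₁ p₂ K₁ K₂ U V) i j n h)) (s ⊗ₜ t)

omit [X₁.Over (Spec (CommRingCat.of A))] [X₂.Over (Spec (CommRingCat.of A))]
  [P.Over (Spec (CommRingCat.of A))] [p₁.IsOver (Spec (CommRingCat.of A))]
  [p₂.IsOver (Spec (CommRingCat.of A))] in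
theorem ι_d_extCxP (i j n n' : ℤ) (h : i + j = n) (hn : n + 1 = n') :
    ιMapBifunctor ((HTor.pullCx p₁).obj K₁) ((HTor.pullCx p₂).obj K₂) (DCoh.tensorBi (X := P)) up i j n h ≫
        (extCxP p₁ p₂ K₁ K₂).d n n' =
      ((DCoh.tensorBi (X := P)).map ((Scheme.Modules.pullback p₁).map (K₁.d i (i + 1)))).app
          ((Scheme.Modules.pullback p₂).obj (K₂.X j)) ≫
        ιMapBifunctor ((HTor.pullCx p₁).obj K₁) ((HTor.pullCx p₂).obj K₂) (DCoh.tensorBi (X := P)) up
          (i + 1) j n' (show i + 1 + j = n' by omega) +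
      (i.negOnePow : ℤ) •
        (((DCoh.tensorBi (X := P)).obj ((Scheme.Modules.pullback p₁).obj (K₁.X i))).map
            ((Scheme.Modules.pullback p₂).map (K₂.d j (j + 1))) ≫
          ιMapBifunctor ((HTor.pullCx p₁).obj K₁) ((HTor.pullCx p₂).obj K₂) (DCoh.tensorBi (X := P)) up
            i (j + 1) n' (show i + (j + 1) = n' by omega)) := by
  change _ ≫ (mapBifunctor ((HTor.pullCx p₁).obj K₁) ((HTor.pullCx p₂).obj K₂) (DCoh.tensorBi (X := P)) up).d n n' = _
  rw [mapBifunctor.d_eq, Preadditive.comp_add, mapBifunctor.ι_D₁, mapBifunctor.ι_D₂,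
    mapBifunctor.d₁_eq ((HTor.pullCx p₁).obj K₁) ((HTor.pullCx p₂).obj K₂) (DCoh.tensorBi (X := P)) up
      (show (ComplexShape.up ℤ).Rel i (i + 1) from rfl) j n' (show i + 1 + j = n' by omega),
    mapBifunctor.d₂_eq ((HTor.pullCx p₁).obj K₁) ((HTor.pullCx p₂).obj K₂) (DCoh.tensorBi (X := P)) up i
      (show (ComplexShape.up ℤ).Rel j (j + 1) from rfl) n' (show i + (j + 1) = n' by omega)]
  simp only [ComplexShape.ε₁, TotalComplexShape.ε₁, ComplexShape.ε₂, TotalComplexShape.ε₂,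
    ComplexShape.ε, ComplexShape.TensorSigns.ε', one_smul]
  rfl

/-- The comparison map as a map of complexes. -/
noncomputable def boxTot :
    HTor.tensorCx ((secCx A U).obj K₁) ((secCx A V).obj K₂) ⟶
      (secCx A (box p₁ p₂ U V)).obj (extCxP p₁ p₂ K₁ K₂) where
  f := boxTotF p₁ p₂ K₁ K₂ U V
  comm' n n' hn := by
    refine ModuleCat.hom_ext (HTorLib.linearMap_ext fun i j h s t => ?_)
    have hn' : n + 1 = n' := hn
    let G := secF A (box p₁ p₂ U V)
    refine (congrArg (G.map ((extCxP p₁ p₂ K₁ K₂).d n n')) (boxTotF_ι p₁ p₂ K₁ K₂ U V i j n h s t)).trans ?_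
    refine Eq.trans ?_ (congrArg (boxTotF p₁ p₂ K₁ K₂ U V n')
      (HTorLib.d_ι' ((secCx A U).obj K₁) ((secCx A V).obj K₂) i j n h n' hn' s t)).symm
    rw [map_add, map_zsmul, boxTotF_ι, boxTotF_ι]
    have key := congrArg G.map (ι_d_extCxP p₁ p₂ K₁ K₂ i j n n' h hn')
    simp only [Functor.map_add, Functor.map_zsmul, Functor.map_comp] at key
    refine (congr($key (boxSec A p₁ p₂ (K₁.X i) (K₂.X j) U V (s ⊗ₜ t)))).trans ?_
    exact congrArg₂ (· + ·) (congrArg (G.map (ιMapBifunctor ((HTor.pullCx p₁).obj K₁)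
        ((HTor.pullCx p₂).obj K₂) (DCoh.tensorBi (X := P)) up (i + 1) j n' (show i + 1 + j = n' by omega)))
        (boxSec_map_left p₁ p₂ (K₁.d i (i + 1)) (K₂.X j) U V s t))
      (congrArg ((i.negOnePow : ℤ) • ·) (congrArg (G.map (ιMapBifunctor ((HTor.pullCx p₁).obj K₁)
        ((HTor.pullCx p₂).obj K₂) (DCoh.tensorBi (X := P)) up i (j + 1) n' (show i + (j + 1) = n' by omega)))
        (boxSec_map_right p₁ p₂ (K₁.X i) (K₂.d j (j + 1)) U V s t)))

/-- The comparison map is natural. -/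
theorem boxTot_naturality {L₁ : CochainComplex X₁.Modules ℤ} {L₂ : CochainComplex X₂.Modules ℤ}
    (a₁ : K₁ ⟶ L₁) (a₂ : K₂ ⟶ L₂) :
    HomologicalComplex.tensorHom ((secCx A U).map a₁) ((secCx A V).map a₂) ≫ boxTot p₁ p₂ L₁ L₂ U V =
      boxTot p₁ p₂ K₁ K₂ U V ≫ (secCx A (box p₁ p₂ U V)).map (extCxMap p₁ p₂ a₁ a₂) := by
  refine HomologicalComplex.hom_ext _ _ fun n => ModuleCat.hom_ext (HTorLib.linearMap_ext fun i j h s t => ?_)
  let G := secF A (box p₁ p₂ U V)
  refine ((congrArg (boxTotF p₁ p₂ L₁ L₂ U V n) (HTorLib.tensorHom_ι' ((secCx A U).map a₁)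
    ((secCx A V).map a₂) i j n h s t)).trans (boxTotF_ι p₁ p₂ L₁ L₂ U V i j n h _ _)).trans ?_
  refine Eq.trans ?_ (congrArg (G.map ((extCxMap p₁ p₂ a₁ a₂).f n))
    (boxTotF_ι p₁ p₂ K₁ K₂ U V i j n h s t)).symm
  have key := congrArg G.map (ι_mapBifunctorMap ((HTor.pullCx p₁).map a₁) ((HTor.pullCx p₂).map a₂)
    (DCoh.tensorBi (X := P)) up i j n h)
  simp only [Functor.map_comp] at key
  refine Eq.trans ?_ (congr($key (boxSec A p₁ p₂ (K₁.X i) (K₂.X j) U V (s ⊗ₜ t)))).symm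
  refine congrArg (G.map (ιMapBifunctor ((HTor.pullCx p₁).obj L₁) ((HTor.pullCx p₂).obj L₂)
    (DCoh.tensorBi (X := P)) up i j n h)) ?_
  exact ((congrArg (G.map _) (boxSec_map_left p₁ p₂ (a₁.f i) (K₂.X j) U V s t)).trans
    (boxSec_map_right p₁ p₂ (L₁.X i) (a₂.f j) U V (appA (a₁.f i) U s) t)).symm

/-- The comparison map is an isomorphism for bounded above complexes with bijective `boxSec`. -/
theorem isIso_boxTot (b₁ b₂ : ℤ) (h₁ : ∀ i, b₁ < i → IsZero (K₁.X i)) (h₂ : ∀ i, b₂ < i → IsZero (K₂.X i))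
    (h : ∀ i j, i ≤ b₁ → j ≤ b₂ → Function.Bijective (boxSec A p₁ p₂ (K₁.X i) (K₂.X j) U V)) :
    IsIso (boxTot (A := A) p₁ p₂ K₁ K₂ U V) := by
  haveI : ∀ n, IsIso ((boxTot p₁ p₂ K₁ K₂ U V).f n) := fun n => by
    refine isIso_totDeg (DCoh.tensorBi (X := P)) (MonoidalCategory.curriedTensor (ModuleCat.{u} A))
      (secF A (box p₁ p₂ U V)) _ _ _ _ _ n (n - b₂) b₁ (fun i hi hi' => ?_) ?_ ?_
    · exact (ConcreteCategory.isIso_iff_bijective _).2 (h i (n - i) hi' (by omega))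
    all_goals
      intro i j hij hne
      rcases (show b₁ < i ∨ b₂ < j by omega) with hi | hj
    · exact Functor.map_isZero (DCoh.tensorBi (X := P)) ((Scheme.Modules.pullback p₁).map_isZero (h₁ i hi)) |>.obj _
    · exact ((DCoh.tensorBi (X := P)).obj _).map_isZero ((Scheme.Modules.pullback p₂).map_isZero (h₂ j hj))
    · exact Functor.map_isZero (MonoidalCategory.curriedTensor (ModuleCat.{u} A))
        ((secF A U).map_isZero (h₁ i hi)) |>.obj _
    · exact ((MonoidalCategory.curriedTensor (ModuleCat.{u} A)).obj _).map_isZero ((secF A V).map_isZero (h₂ j hj))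
  exact HomologicalComplex.Hom.isIso_of_components _

end Groth.HTorGeom
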