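import Mathlib.Algebra.Category.ModuleCat.FilteredColimits
import Mathlib.Algebra.Category.ModuleCat.Adjunctions
import Mathlib.CategoryTheory.Limits.Types.Filtered
import Groth.Agent.FlatCxBase.Core

/-!
Elementwise filtered colimits of modules; homology and kernels preserve them.
-/

set_option autoImplicit false
set_option backward.isDefEq.respectTransparency false

universe u v w

open CategoryTheory CategoryTheory.Limits

namespace Groth.HTorLib

variable {A : Type u} [CommRing A] {J : Type u} [SmallCategory J] [IsFiltered J]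

/-- elementwise colimit property -/
structure IsFC {F : J ⥤ ModuleCat.{u} A} (c : Cocone F) : Prop where
  surj : ∀ x : c.pt, ∃ j y, c.ι.app j y = x
  eq_zero : ∀ (j : J) (y : F.obj j), c.ι.app j y = 0 → ∃ (k : J) (f : j ⟶ k), F.map f y = 0

lemma isFC_of_isColimit {F : J ⥤ ModuleCat.{u} A} {c : Cocone F} (hc : IsColimit c) : IsFC c := by
  have ht := isColimitOfPreserves (forget (ModuleCat.{u} A)) hc
  refine ⟨fun x => ?_, fun j y hy => ?_⟩
  · obtain ⟨j, y, hy⟩ := Types.jointly_surjective_of_isColimit ht x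
    exact ⟨j, y, hy⟩
  · obtain ⟨k, f, g, hfg⟩ := (Types.FilteredColimit.isColimit_eq_iff (F ⋙ forget _) ht
      (xi := y) (xj := (0 : F.obj j))).1 (hy.trans (map_zero (c.ι.app j).hom).symm)
    exact ⟨k, f, hfg.trans (map_zero (F.map g).hom)⟩

lemma isColimit_of_isFC {F : J ⥤ ModuleCat.{u} A} {c : Cocone F} (hc : IsFC c) :
    Nonempty (IsColimit c) := by
  refine ⟨isColimitOfReflects (forget (ModuleCat.{u} A)) ?_⟩
  refine Types.FilteredColimit.isColimitOf (F ⋙ forget _) _
    (fun x => ?_) (fun i j xi xj h => ?_)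
  · obtain ⟨j, y, hy⟩ := hc.surj x
    exact ⟨j, y, hy.symm⟩
  · obtain ⟨l, f, hf⟩ := hc.eq_zero (IsFiltered.max i j)
      (F.map (IsFiltered.leftToMax i j) xi - F.map (IsFiltered.rightToMax i j) xj) (by
        rw [map_sub, sub_eq_zero]
        refine (ConcreteCategory.congr_hom (c.w _) xi).trans (h.trans ?_)
        exact (ConcreteCategory.congr_hom (c.w _) xj).symm)
    refine ⟨l, IsFiltered.leftToMax i j ≫ f, IsFiltered.rightToMax i j ≫ f, ?_⟩
    rw [map_sub, sub_eq_zero] at hf
    exact (ConcreteCategory.congr_hom (F.map_comp _ _) xi).trans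
      (hf.trans (ConcreteCategory.congr_hom (F.map_comp _ _) xj).symm)

variable {C : Type v} [Category.{w} C]

/-- the kernel of a natural transformation, pointwise -/
noncomputable def kerFun {G G' : C ⥤ ModuleCat.{u} A} (α : G ⟶ G') : C ⥤ ModuleCat.{u} A where
  obj M := ModuleCat.of A (LinearMap.ker (α.app M).hom)
  map {M M'} f := ModuleCat.ofHom ((G.map f).hom.restrict fun x hx => by
    rw [LinearMap.mem_ker] at hx ⊢
    refine (ConcreteCategory.congr_hom (α.naturality f) x).trans ?_
    exact (congrArg _ hx).trans (map_zero (G'.map f).hom))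
  map_id M := ModuleCat.hom_ext (LinearMap.ext fun x => Subtype.ext
    (ConcreteCategory.congr_hom (G.map_id M) x.1))
  map_comp f g := ModuleCat.hom_ext (LinearMap.ext fun x => Subtype.ext
    (ConcreteCategory.congr_hom (G.map_comp f g) x.1))

lemma preservesColimitsOfShape_kerFun {G G' : C ⥤ ModuleCat.{u} A} (α : G ⟶ G')
    [PreservesColimitsOfShape J G] [PreservesColimitsOfShape J G'] :
    PreservesColimitsOfShape J (kerFun α) where
  preservesColimit {K} := ⟨fun {c} hc => by
    have h1 := isFC_of_isColimit (isColimitOfPreserves G hc)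
    have h2 := isFC_of_isColimit (isColimitOfPreserves G' hc)
    refine isColimit_of_isFC ⟨fun x => ?_, fun j y hy => ?_⟩
    · obtain ⟨j, y, hy⟩ := h1.surj x.1
      obtain ⟨k, f, hf⟩ := h2.eq_zero j (α.app (K.obj j) y) (by
        refine (ConcreteCategory.congr_hom (α.naturality (c.ι.app j)) y).symm.trans ?_
        exact (congrArg _ hy).trans x.2)
      refine ⟨k, ⟨G.map (K.map f) y, ?_⟩, Subtype.ext ?_⟩
      · exact (ConcreteCategory.congr_hom (α.naturality (K.map f)) y).trans hf
      · refine Eq.trans ?_ hy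
        exact (ConcreteCategory.congr_hom ((G.mapCocone c).w f) y)
    · obtain ⟨k, f, hf⟩ := h1.eq_zero j y.1 (congrArg Subtype.val hy)
      exact ⟨k, f, Subtype.ext hf⟩⟩

/-- homology of a functorial complex commutes with filtered colimits -/
lemma preservesColimitsOfShape_homology {ι : Type} {cs : ComplexShape ι}
    (T : C ⥤ HomologicalComplex (ModuleCat.{u} A) cs)
    (h : ∀ i, PreservesColimitsOfShape J (T ⋙ HomologicalComplex.eval _ cs i)) (p : ι) :
    PreservesColimitsOfShape J (T ⋙ HomologicalComplex.homologyFunctor _ cs p) where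
  preservesColimit {K} := ⟨fun {c} hc => by
    have hi := fun i => @isFC_of_isColimit A _ J _ _ _ _
      (@isColimitOfPreserves _ _ _ _ _ _ K (T ⋙ HomologicalComplex.eval _ cs i) c hc
        ((h i).preservesColimit))
    refine isColimit_of_isFC ⟨fun a => ?_, fun j b hb => ?_⟩
    · obtain ⟨⟨x, hx⟩, rfl⟩ := Groth.FlatCxBase.cls_surjective p a
      obtain ⟨j, y, hy⟩ := (hi p).surj x
      obtain ⟨k, f, hf⟩ := (hi (cs.next p)).eq_zero j ((T.obj (K.obj j)).d p (cs.next p) y) (by
        refine (ConcreteCategory.congr_hom ((T.map (c.ι.app j)).comm p (cs.next p)) y).symm.trans ?_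
        exact (congrArg _ hy).trans hx)
      have hyk : ((T.map (K.map f)).f p) y ∈
          LinearMap.ker ((T.obj (K.obj k)).d p (cs.next p)).hom :=
        (ConcreteCategory.congr_hom ((T.map (K.map f)).comm p (cs.next p)) y).trans hf
      refine ⟨k, Groth.FlatCxBase.cls _ p ⟨_, hyk⟩, ?_⟩
      refine (Groth.FlatCxBase.homologyMap_cls (T.map (c.ι.app k)) p _).trans ?_
      refine congrArg _ (Subtype.ext ?_)
      exact (ConcreteCategory.congr_hom
        (((T ⋙ HomologicalComplex.eval _ cs p).mapCocone c).w f) y).trans hy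
    · obtain ⟨⟨y, hy⟩, rfl⟩ := Groth.FlatCxBase.cls_surjective p b
      obtain ⟨w, hw⟩ := (Groth.FlatCxBase.cls_eq_zero_iff p rfl _).1
        ((Groth.FlatCxBase.homologyMap_cls (T.map (c.ι.app j)) p _).symm.trans hb)
      obtain ⟨i, w', hw'⟩ := (hi (cs.prev p)).surj w
      let m := IsFiltered.max i j
      let fi := IsFiltered.leftToMax i j
      let fj := IsFiltered.rightToMax i j
      obtain ⟨k, f, hf⟩ := (hi p).eq_zero m
        ((T.map (K.map fj)).f p y -
          (T.obj (K.obj m)).d (cs.prev p) p ((T.map (K.map fi)).f (cs.prev p) w')) (by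
        rw [map_sub, sub_eq_zero]
        refine (ConcreteCategory.congr_hom
          (((T ⋙ HomologicalComplex.eval _ cs p).mapCocone c).w fj) y).trans (hw.symm.trans ?_)
        refine (congrArg _ (hw'.symm.trans (ConcreteCategory.congr_hom
          (((T ⋙ HomologicalComplex.eval _ cs (cs.prev p)).mapCocone c).w fi) w').symm)).trans ?_
        exact ConcreteCategory.congr_hom ((T.map (c.ι.app m)).comm (cs.prev p) p) _)
      rw [map_sub, sub_eq_zero] at hf
      refine ⟨k, fj ≫ f, ?_⟩
      refine (Groth.FlatCxBase.homologyMap_cls (T.map (K.map (fj ≫ f))) p _).trans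
        ((Groth.FlatCxBase.cls_eq_zero_iff p rfl _).2
          ⟨(T.map (K.map f)).f (cs.prev p) ((T.map (K.map fi)).f (cs.prev p) w'), ?_⟩)
      refine (ConcreteCategory.congr_hom ((T.map (K.map f)).comm (cs.prev p) p) _).trans
        (hf.symm.trans ?_)
      exact (ConcreteCategory.congr_hom
        (((K ⋙ T ⋙ HomologicalComplex.eval _ cs p)).map_comp fj f) y).symm⟩

end Groth.HTorLib
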