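import Groth.Agent.HTopHyper.HTor.BCQis

/-!
Base change of `RΓ(X, P)` for a complex flat over an affine base.
-/

universe u

open CategoryTheory CategoryTheory.Limits AlgebraicGeometry Opposite TopologicalSpace
open Groth.PicAux (pullSec)

attribute [local instance] HasDerivedCategory.standard

set_option maxHeartbeats 2000000
set_option synthInstance.maxHeartbeats 200000
set_option backward.isDefEq.respectTransparency false
set_option linter.style.haveILetI false

namespace Groth.HTorGeom

local notation "up" => ComplexShape.up ℤ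

variable {X : Scheme.{u}}

/-- A separated morphism to an affine scheme has affine absolute diagonal. -/
theorem isAffineHom_diagonal_of_isSeparated {S : Scheme.{u}} [IsAffine S] (f : X ⟶ S) [IsSeparated f] :
    IsAffineHom (pullback.diagonal (terminal.from X)) := by
  haveI : IsSeparated (terminal.from X) := by
    rw [← terminal.comp_from f]; infer_instance
  infer_instance

/-- A quasi-compact scheme has a cover by finitely many affine opens indexed by `Fin (N + 1)`. -/
theorem exists_fin_cover [CompactSpace X] :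
    ∃ (N : ℕ) (U : Fin (N + 1) → X.Opens), (∀ i, IsAffineOpen (U i)) ∧ ⨆ i, U i = ⊤ := by
  obtain ⟨T, hT⟩ := Groth.Dual3Deligne.exists_affine_finset_cover X
  refine ⟨T.card, Fin.cons ⊥ fun i => (T.equivFin.symm i).1.1, fun i => ?_, eq_top_iff.2 fun x _ => ?_⟩
  · exact Fin.cases (isAffineOpen_bot X) (fun j => (T.equivFin.symm j).1.2) i
  · obtain ⟨U, hU⟩ := hT x
    exact Opens.mem_iSup.2 ⟨(T.equivFin U).succ, by simpa using hU⟩

/-- Pullbacks of elementary modules along affine morphisms are elementary. -/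
theorem Elem.pullback {X' : Scheme.{u}} (g' : X' ⟶ X) [IsAffineHom g']
    [IsAffineHom (pullback.diagonal (terminal.from X))] {Φ : X.Modules → Prop}
    (hΦ : ∀ F, Φ F → F.IsQuasicoherent) {M : X.Modules} (h : Elem Φ M) :
    Elem (fun N : X'.Modules => N.IsQuasicoherent) ((Scheme.Modules.pullback g').obj M) := by
  haveI : (Scheme.Modules.pullback g').Additive :=
    (Scheme.Modules.pullbackPushforwardAdjunction g').left_adjoint_additive
  induction h with
  | base W hW F hF =>
    haveI := hΦ F hF
    haveI := Groth.CohBase.RelCech.isAffineHom_ι hW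
    have sq₁ : IsPullback g' (𝟙 X') (𝟙 X) g' := IsPullback.of_id_snd
    haveI : IsAffineHom (W.ι ≫ 𝟙 X) := by rw [Category.comp_id]; infer_instance
    haveI := Groth.CohBase.RelCechBC.isIso_phi sq₁ (W' := g' ⁻¹ᵁ W) rfl F
    refine .of_iso _ _ ?_ (.base (g' ⁻¹ᵁ W) (hW.preimage g') ((Scheme.Modules.pullback g').obj F)
      inferInstance)
    exact ((Scheme.Modules.pullback g').mapIso ((Scheme.Modules.pushforwardId X).app _).symm ≪≫
      asIso (Groth.CohBase.RelCechBC.phi sq₁.w (W := W) (W' := g' ⁻¹ᵁ W) le_rfl F) ≪≫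
      (Scheme.Modules.pushforwardId X').app _).symm
  | zero M h => exact .zero _ (Functor.map_isZero _ h)
  | biprod M N _ _ hM hN =>
    haveI := preservesBinaryBiproducts_of_preservesBiproducts (Scheme.Modules.pullback g')
    exact .of_iso _ _ ((Scheme.Modules.pullback g').mapBiprod M N).symm (.biprod _ _ hM hN)
  | of_iso M N e _ hM => exact .of_iso _ _ ((Scheme.Modules.pullback g').mapIso e) hM

variable {A : Type u} [CommRing A] {f : X ⟶ Spec (CommRingCat.of A)}

/-- A finite acyclic resolution of a complex flat over the base, by modules of flat type. -/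
theorem exists_flat_res [QuasiCompact f] [IsSeparated f] (P : CochainComplex X.Modules ℤ)
    (hq : ∀ i, (P.X i).IsQuasicoherent) (hfl : ∀ i, FlatMod.IsFlatOver f (P.X i)) {b : ℤ}
    (hb : ∀ i, b < i → IsZero (P.X i)) :
    letI : X.Over (Spec (CommRingCat.of A)) := ⟨f⟩
    ∃ (R : CochainComplex X.Modules ℤ) (a : P ⟶ R) (c : ℤ), b ≤ c ∧ QuasiIso a ∧
      (∀ i, Elem (FlatSec A) (R.X i)) ∧ (∀ i, c < i → IsZero (R.X i)) ∧
      (∀ i, FlatSec A (P.X i)) := by
  let : X.Over (Spec (CommRingCat.of A)) := ⟨f⟩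
  haveI := isAffineHom_diagonal_of_isSeparated f
  haveI : CompactSpace X := QuasiCompact.compactSpace_of_compactSpace f
  obtain ⟨N, U, hU, hcov⟩ := exists_fin_cover (X := X)
  have hF : ∀ i, FlatSec A (P.X i) := fun i => by
    haveI := hq i
    exact flatSec_of_isFlatOver (P.X i) (hfl i)
  obtain ⟨R, a, ha, hR, hRb, -⟩ := exists_res_of_cover closed_flatSec P hF U hU hcov
  exact ⟨R, a, b + N, by omega, ha, hR, hRb b hb, hF⟩

/-- Cohomology and base change for a complex flat over an affine base. -/
theorem computes_bc {A' : Type u} [CommRing A'] {φ : A →+* A'} {X' : Scheme.{u}}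
    {f' : X' ⟶ Spec (CommRingCat.of A')} {g' : X' ⟶ X}
    (sq : IsPullback g' f' f (Spec.map (CommRingCat.ofHom φ)))
    [QuasiCompact f] [IsSeparated f] [HTor.HasRΓA f] [HTor.HasRΓA f']
    (P : CochainComplex X.Modules ℤ) (hq : ∀ i, (P.X i).IsQuasicoherent) {b : ℤ}
    (hb : ∀ i, b < i → IsZero (P.X i)) (hfl : ∀ i, FlatMod.IsFlatOver f (P.X i))
    (L : DRing.Cx A) (hL : ∀ i, Projective (L.X i)) {c : ℤ} (hc : ∀ i, c < i → IsZero (L.X i))
    (e : HTor.Computes f L (DCoh.toD X P)) :
    HTor.Computes f' (CohIII.bcCx φ L) (DCoh.toD X' ((HTor.pullCx g').obj P)) := by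
  let : X.Over (Spec (CommRingCat.of A)) := ⟨f⟩
  haveI := isAffineHom_diagonal_of_isSeparated f
  haveI : QuasiCompact f' := MorphismProperty.of_isPullback (P := @QuasiCompact) sq inferInstance
  haveI : IsSeparated f' := MorphismProperty.of_isPullback (P := @IsSeparated) sq inferInstance
  haveI : IsAffineHom g' := MorphismProperty.of_isPullback (P := @IsAffineHom) sq.flip inferInstance
  haveI := isAffineHom_diagonal_of_isSeparated f'
  obtain ⟨R, a, d, hbd, ha, hR, hRd, hPF⟩ := exists_flat_res P hq hfl hb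
  have hRF : ∀ i, FlatSec A (R.X i) := fun i => (hR i).mem closed_flatSec
  have hRq : ∀ i, (R.X i).IsQuasicoherent := fun i => (hRF i).1
  haveI := quasiIso_pullback_of_flat sq a hPF hRF d (fun i hi => hb i (lt_of_le_of_lt hbd hi)) hRd
  have hR' : ∀ i, Elem (fun N : X'.Modules => N.IsQuasicoherent) (((HTor.pullCx g').obj R).X i) :=
    fun i => (hR i).pullback g' (fun _ h => h.1)
  obtain ⟨e₁⟩ := computes_of_quasiIso f' (fun i => (hR' i).mem closed_qcoh)
    (fun i => (hR' i).rightAcyclic f' (fun _ h => h)) ((HTor.pullCx g').map a)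
  obtain ⟨e₀⟩ := computes_of_quasiIso f hRq (fun i => (hR i).rightAcyclic f (fun _ h => h.1)) a
  obtain ⟨e'⟩ := e
  obtain ⟨q, _⟩ := exists_quasiIso_of_iso hL c hc (e' ≪≫ e₀.symm)
  haveI : ∀ i, Module.Flat A (((ΓA f).obj R).X i) := fun i => (hR i).flat_top
  haveI : ∀ i, Module.Flat A (L.X i) := fun i => by
    haveI : Module.Projective A (L.X i) := (IsProjective.iff_projective _).2 (hL i)
    infer_instance
  haveI := Groth.SuppCx.CechExt.quasiIso_extF φ (max c d)
    (fun i hi => hc i (lt_of_le_of_lt (le_max_left _ _) hi))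
    (fun i hi => (HTor.globalSectionsA f).map_isZero (hRd i (lt_of_le_of_lt (le_max_right _ _) hi))) q
  let t := (NatTrans.mapHomologicalComplex (θ sq.w) up).app R
  haveI : ∀ i, IsIso (t.f i) := fun i => (hR i).isIso_θ sq (fun _ h => h.1)
  haveI : IsIso t := HomologicalComplex.Hom.isIso_of_components _
  haveI : IsIso (DerivedCategory.Q.map (((ModuleCat.extendScalars.{u, u, u} φ).mapHomologicalComplex up).map q ≫ t)) :=
    (DerivedCategory.isIso_Q_map_iff_quasiIso _ _).2 inferInstance
  exact ⟨asIso (DerivedCategory.Q.map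
    (((ModuleCat.extendScalars.{u, u, u} φ).mapHomologicalComplex up).map q ≫ t)) ≪≫ e₁⟩

end Groth.HTorGeom
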