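import Groth.Agent.HTopHyper.HTor.Basic

/-!
Cycles, classes and descent for the homology of cochain complexes of modules.
-/

set_option autoImplicit false

universe u

open CategoryTheory CategoryTheory.Limits HomologicalComplex

namespace Groth.HTorLib

variable {A : Type u} [CommRing A]

/-- the cycles, as a submodule -/
noncomputable abbrev Z (K : DRing.Cx A) (j : ℤ) : Submodule A (K.X j) :=
  LinearMap.ker (K.d j (j + 1)).hom

lemma mem_Z {K : DRing.Cx A} {j : ℤ} {x : K.X j} : x ∈ Z K j ↔ K.d j (j + 1) x = 0 := Iff.rfl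

lemma d_mem_Z (K : DRing.Cx A) (i j : ℤ) (w : K.X i) : K.d i j w ∈ Z K j :=
  LinearMap.congr_fun (congrArg ModuleCat.Hom.hom (K.d_comp_d i j (j + 1))) w

lemma mem_Z_next {K : DRing.Cx A} {j : ℤ} {x : K.X j} :
    x ∈ Z K j ↔ x ∈ LinearMap.ker (K.d j ((ComplexShape.up ℤ).next j)).hom := by
  rw [Groth.FlatCxBase.cochain_next]

/-- the class of a cycle -/
noncomputable def cl (K : DRing.Cx A) (j : ℤ) : Z K j →ₗ[A] K.homology j :=
  (Groth.FlatCxBase.cls K j).comp
    (Submodule.inclusion fun _ hx => (mem_Z_next).1 hx)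

lemma cl_congr (K : DRing.Cx A) (j : ℤ) {x y : Z K j} (h : x.1 = y.1) : cl K j x = cl K j y :=
  congrArg _ (Subtype.ext h)

lemma cl_surjective (K : DRing.Cx A) (j : ℤ) : Function.Surjective (cl K j) := fun a => by
  obtain ⟨x, rfl⟩ := Groth.FlatCxBase.cls_surjective j a
  exact ⟨⟨x.1, mem_Z_next.2 x.2⟩, rfl⟩

lemma cl_eq_zero_iff (K : DRing.Cx A) (j : ℤ) (x : Z K j) :
    cl K j x = 0 ↔ ∃ w, K.d (j - 1) j w = x.1 :=
  Groth.FlatCxBase.cls_eq_zero_iff j (Groth.FlatCxBase.cochain_prev j) _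

lemma cl_eq_zero_iff' (K : DRing.Cx A) {i j : ℤ} (h : i + 1 = j) (x : Z K j) :
    cl K j x = 0 ↔ ∃ w, K.d i j w = x.1 := by
  obtain rfl : i = j - 1 := by omega
  exact cl_eq_zero_iff K j x

lemma cl_d (K : DRing.Cx A) (i j : ℤ) (w : K.X i) :
    cl K j ⟨K.d i j w, d_mem_Z K i j w⟩ = 0 := by
  by_cases h : i + 1 = j
  · exact (cl_eq_zero_iff' K h _).2 ⟨w, rfl⟩
  · refine (cl_congr K j (y := 0) ?_).trans (map_zero _)
    exact LinearMap.congr_fun (congrArg ModuleCat.Hom.hom (K.shape i j h)) w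

lemma f_mem_Z {K L : DRing.Cx A} (φ : K ⟶ L) (j : ℤ) (x : Z K j) : φ.f j x.1 ∈ Z L j :=
  mem_Z_next.2 (Groth.FlatCxBase.map_mem_ker φ j ⟨x.1, mem_Z_next.1 x.2⟩)

lemma map_cl {K L : DRing.Cx A} (φ : K ⟶ L) (j : ℤ) (x : Z K j) :
    homologyMap φ j (cl K j x) = cl L j ⟨φ.f j x.1, f_mem_Z φ j x⟩ :=
  Groth.FlatCxBase.homologyMap_cls φ j _

lemma π_eq_cl (K : DRing.Cx A) (j : ℤ) (z : K.cycles j) :
    K.iCycles j z ∈ Z K j ∧ ∀ h, K.homologyπ j z = cl K j ⟨K.iCycles j z, h⟩ := by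
  have hz : K.iCycles j z ∈ LinearMap.ker (K.d j ((ComplexShape.up ℤ).next j)).hom :=
    LinearMap.congr_fun (congrArg ModuleCat.Hom.hom (K.iCycles_d j _)) z
  refine ⟨mem_Z_next.2 hz, fun h => ?_⟩
  have : z = (K.sc j).moduleCatCyclesIso.inv ⟨K.iCycles j z, hz⟩ := by
    apply (ModuleCat.mono_iff_injective (K.sc j).iCycles).1 inferInstance
    exact (Groth.FlatCxBase.iCycles_inv (K.sc j) ⟨K.iCycles j z, hz⟩).symm
  exact congrArg (K.homologyπ j) this

/-- descend a map on cycles killing boundaries to homology -/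
noncomputable def liftCl (K : DRing.Cx A) (j : ℤ) {V : Type*} [AddCommGroup V] [Module A V]
    (f : Z K j →ₗ[A] V) (hf : ∀ w, f ⟨K.d (j - 1) j w, d_mem_Z K (j - 1) j w⟩ = 0) :
    K.homology j →ₗ[A] V :=
  (Submodule.liftQ (LinearMap.ker (cl K j)) f (fun x hx => by
    obtain ⟨w, hw⟩ := (cl_eq_zero_iff K j x).1 hx
    exact LinearMap.mem_ker.2 ((congrArg f (Subtype.ext hw.symm)).trans (hf w)))).comp
    ((cl K j).quotKerEquivOfSurjective (cl_surjective K j)).symm.toLinearMap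

@[simp]
lemma liftCl_cl (K : DRing.Cx A) (j : ℤ) {V : Type*} [AddCommGroup V] [Module A V]
    (f : Z K j →ₗ[A] V) (hf) (x : Z K j) : liftCl K j f hf (cl K j x) = f x := by
  have : ((cl K j).quotKerEquivOfSurjective (cl_surjective K j)).symm (cl K j x) =
      Submodule.Quotient.mk x := by
    rw [LinearEquiv.symm_apply_eq]; rfl
  simp only [liftCl, LinearMap.comp_apply, LinearEquiv.coe_coe, this]
  rfl

lemma hom_ext_cl {K : DRing.Cx A} {j : ℤ} {V : Type*} [AddCommGroup V] [Module A V]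
    {f g : K.homology j →ₗ[A] V} (h : ∀ x, f (cl K j x) = g (cl K j x)) : f = g :=
  LinearMap.ext fun a => by obtain ⟨x, rfl⟩ := cl_surjective K j a; exact h x

lemma subsingleton_homology_of_isZero (K : DRing.Cx A) (j : ℤ) (h : IsZero (K.X j)) :
    Subsingleton (K.homology j) := by
  have := ModuleCat.subsingleton_of_isZero h
  exact (cl_surjective K j).subsingleton

end Groth.HTorLib
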