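import Groth.Agent.HTopHyper.HTor.Homology

/-!
The Künneth map.
-/

set_option autoImplicit false
set_option backward.isDefEq.respectTransparency false

universe u

open CategoryTheory CategoryTheory.Limits HomologicalComplex
open scoped TensorProduct

namespace Groth.HTorLib

variable {A : Type u} [CommRing A]

lemma pair_mem (L M : DRing.Cx A) (i j n : ℤ) (h : i + j = n) (z : Z L i) (y : Z M j) :
    ι' L M i j n h (z.1 ⊗ₜ y.1) ∈ Z (HTor.tensorCx L M) n := by
  rw [mem_Z, d_ι' L M i j n h (n + 1) rfl, mem_Z.1 z.2, mem_Z.1 y.2]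
  simp only [TensorProduct.zero_tmul, TensorProduct.tmul_zero, map_zero, zero_add, smul_zero]

/-- the product of two cycles -/
noncomputable def pair (L M : DRing.Cx A) (i j n : ℤ) (h : i + j = n) :
    Z L i →ₗ[A] Z M j →ₗ[A] Z (HTor.tensorCx L M) n :=
  LinearMap.mk₂ A (fun z y => ⟨ι' L M i j n h (z.1 ⊗ₜ y.1), pair_mem L M i j n h z y⟩)
    (fun z z' y => Subtype.ext (by simp [TensorProduct.add_tmul]))
    (fun c z y => Subtype.ext ((congrArg (ι' L M i j n h)
      (TensorProduct.smul_tmul' c z.1 y.1).symm).trans (map_smul _ _ _)))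
    (fun z y y' => Subtype.ext (by simp [TensorProduct.tmul_add]))
    (fun c z y => Subtype.ext (by simp [TensorProduct.tmul_smul]))

@[simp]
lemma pair_val (L M : DRing.Cx A) (i j n : ℤ) (h : i + j = n) (z : Z L i) (y : Z M j) :
    (pair L M i j n h z y).1 = ι' L M i j n h (z.1 ⊗ₜ y.1) := rfl

lemma cl_pair_eq_zero_left (L M : DRing.Cx A) (i j n : ℤ) (h : i + j = n) (z : Z L i) (y : Z M j)
    (hz : cl L i z = 0) : cl (HTor.tensorCx L M) n (pair L M i j n h z y) = 0 := by
  obtain ⟨w, hw⟩ := (cl_eq_zero_iff L i z).1 hz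
  refine (cl_eq_zero_iff _ _ _).2 ⟨ι' L M (i - 1) j (n - 1) (by omega) (w ⊗ₜ y.1), ?_⟩
  rw [d_ι' L M (i - 1) j (n - 1) (by omega) n (by omega), mem_Z.1 y.2, TensorProduct.tmul_zero,
    map_zero, smul_zero, add_zero, pair_val]
  have : ∀ (i' : ℤ) (hi : i' = i) (h' : i' + j = n),
      ι' L M i' j n h' (L.d (i - 1) i' w ⊗ₜ y.1) = ι' L M i j n h (z.1 ⊗ₜ y.1) := by
    rintro i' rfl h'; rw [hw]
  exact this _ (by omega) _

lemma cl_pair_eq_zero_right (L M : DRing.Cx A) (i j n : ℤ) (h : i + j = n) (z : Z L i) (y : Z M j)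
    (hy : cl M j y = 0) : cl (HTor.tensorCx L M) n (pair L M i j n h z y) = 0 := by
  obtain ⟨w, hw⟩ := (cl_eq_zero_iff M j y).1 hy
  refine (cl_eq_zero_iff _ _ _).2
    ⟨(i.negOnePow : ℤ) • ι' L M i (j - 1) (n - 1) (by omega) (z.1 ⊗ₜ w), ?_⟩
  rw [map_zsmul, d_ι' L M i (j - 1) (n - 1) (by omega) n (by omega), mem_Z.1 z.2,
    TensorProduct.zero_tmul, map_zero, zero_add, smul_smul, pair_val]
  have : ∀ (j' : ℤ) (hj : j' = j) (h' : i + j' = n),
      ι' L M i j' n h' (z.1 ⊗ₜ M.d (j - 1) j' w) = ι' L M i j n h (z.1 ⊗ₜ y.1) := by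
    rintro j' rfl h'; rw [hw]
  rw [← this (j - 1 + 1) (by omega) (by omega), ← Units.val_mul, Int.units_mul_self, Units.val_one,
    one_smul]

/-- the class of the product, as a function of a cycle and a class -/
noncomputable def kappaAux (L M : DRing.Cx A) (i j n : ℤ) (h : i + j = n) :
    Z L i →ₗ[A] M.homology j →ₗ[A] (HTor.tensorCx L M).homology n where
  toFun z := liftCl M j ((cl _ n).comp (pair L M i j n h z)) fun w =>
    cl_pair_eq_zero_right L M i j n h z _ (cl_d M (j - 1) j w)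
  map_add' z z' := hom_ext_cl fun y => by simp
  map_smul' c z := hom_ext_cl fun y => by simp

/-- the Künneth map in bidegree `(i, j)` -/
noncomputable def kappa (L M : DRing.Cx A) (i j n : ℤ) (h : i + j = n) :
    L.homology i ⊗[A] M.homology j →ₗ[A] (HTor.tensorCx L M).homology n :=
  TensorProduct.lift (liftCl L i (kappaAux L M i j n h) fun w => hom_ext_cl fun y => by
    simp only [kappaAux, LinearMap.coe_mk, AddHom.coe_mk, liftCl_cl, LinearMap.comp_apply,
      LinearMap.zero_apply]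
    exact cl_pair_eq_zero_left L M i j n h _ y (cl_d L (i - 1) i w))

@[simp]
lemma kappa_cl (L M : DRing.Cx A) (i j n : ℤ) (h : i + j = n) (z : Z L i) (y : Z M j) :
    kappa L M i j n h (cl L i z ⊗ₜ cl M j y) =
      cl (HTor.tensorCx L M) n (pair L M i j n h z y) := by
  simp [kappa, kappaAux]

/-- the Künneth map -/
noncomputable def kun (L M : DRing.Cx A) (n : ℤ) :
    HTor.KunnethSum L M n →ₗ[A] (HTor.tensorCx L M).homology n :=
  DirectSum.toModule A _ _ fun ij => kappa L M ij.1.1 ij.1.2 n ij.2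

lemma kun_lof (L M : DRing.Cx A) (n : ℤ) (ij : HTor.Antidiag n)
    (t : L.homology ij.1.1 ⊗[A] M.homology ij.1.2) :
    kun L M n (DirectSum.lof A (HTor.Antidiag n)
      (fun ij => L.homology ij.1.1 ⊗[A] M.homology ij.1.2) ij t) =
      kappa L M ij.1.1 ij.1.2 n ij.2 t :=
  DirectSum.toModule_lof A (φ := fun ij : HTor.Antidiag n => kappa L M ij.1.1 ij.1.2 n ij.2) ij t

theorem isKunnethMap_kun (L M : DRing.Cx A) (n : ℤ) : HTor.IsKunnethMap L M n (kun L M n) := by
  intro ij z z' w hw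
  rw [kun_lof]
  obtain ⟨hz, ez⟩ := π_eq_cl L ij.1.1 z
  obtain ⟨hz', ez'⟩ := π_eq_cl M ij.1.2 z'
  obtain ⟨hw', ew⟩ := π_eq_cl (HTor.tensorCx L M) n w
  rw [ez hz, ez' hz', kappa_cl, ew hw']
  exact cl_congr _ _ hw.symm

lemma homologyMap_kappa {L M M' : DRing.Cx A} (g : M ⟶ M') (i j n : ℤ) (h : i + j = n)
    (t : L.homology i ⊗[A] M.homology j) :
    homologyMap (HomologicalComplex.tensorHom (𝟙 L) g) n (kappa L M i j n h t) =
      kappa L M' i j n h ((homologyMap g j).hom.lTensor (L.homology i) t) := by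
  induction t using TensorProduct.induction_on with
  | zero => simp
  | add a b ha hb => simp [ha, hb]
  | tmul a b =>
    obtain ⟨z, rfl⟩ := cl_surjective L i a
    obtain ⟨y, rfl⟩ := cl_surjective M j b
    rw [LinearMap.lTensor_tmul, map_cl, kappa_cl, kappa_cl, map_cl]
    exact cl_congr _ _ (tensorHom_ι' (𝟙 L) g i j n h z.1 y.1)

end Groth.HTorLib
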