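import Groth.Agent.HTopHyper.HTor.Cone
import Mathlib.LinearAlgebra.TensorProduct.RightExactness

/-!
The dévissage step for `H^*(L ⊗ M)`: kernel of `H^n(L ⊗ M) → H^n(L ⊗ cone M)`.
-/

set_option autoImplicit false
set_option backward.isDefEq.respectTransparency false

universe u

open CategoryTheory CategoryTheory.Limits HomologicalComplex
open scoped TensorProduct

namespace Groth.HTorLib

variable {A : Type u} [CommRing A]

section Maps

variable (L : DRing.Cx A) {M M' M'' : DRing.Cx A}

/-- tensoring degreewise linear maps -/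
noncomputable def gmap (f : ∀ j, M.X j →ₗ[A] M'.X j) (n : ℤ) :
    (HTor.tensorCx L M).X n →ₗ[A] (HTor.tensorCx L M').X n :=
  (DirectSum.toModule A (HTor.Antidiag n) _
    fun ij => (ι' L M' ij.1.1 ij.1.2 n ij.2).comp ((f ij.1.2).lTensor (L.X ij.1.1))).comp
    (dec L M n).toLinearMap

lemma gmap_ι' (f : ∀ j, M.X j →ₗ[A] M'.X j) (i j n : ℤ) (h : i + j = n)
    (a : L.X i) (b : M.X j) :
    gmap L f n (ι' L M i j n h (a ⊗ₜ b)) = ι' L M' i j n h (a ⊗ₜ f j b) := by
  simp only [gmap, LinearMap.comp_apply, LinearEquiv.coe_coe]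
  erw [decHom_ι']
  exact DirectSum.toModule_lof A (φ := fun ij : HTor.Antidiag n =>
    (ι' L M' ij.1.1 ij.1.2 n ij.2).comp ((f ij.1.2).lTensor (L.X ij.1.1))) _ _

lemma tensorHom_eq_gmap (g : M ⟶ M') (n : ℤ) :
    ((HomologicalComplex.tensorHom (𝟙 L) g).f n).hom = gmap L (fun j => (g.f j).hom) n :=
  linearMap_ext fun i j h a b => by
    rw [gmap_ι']
    exact tensorHom_ι' (𝟙 L) g i j n h a b

lemma tensorHom_apply (g : M ⟶ M') (n : ℤ) (x : (HTor.tensorCx L M).X n) :
    (HomologicalComplex.tensorHom (𝟙 L) g).f n x = gmap L (fun j => (g.f j).hom) n x :=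
  LinearMap.congr_fun (tensorHom_eq_gmap L g n) x

/-- `⊕ H^i L ⊗ H^j M → ⊕ H^i L ⊗ H^j M'` -/
noncomputable def mapK (g : M ⟶ M') (n : ℤ) :
    HTor.KunnethSum L M n →ₗ[A] HTor.KunnethSum L M' n :=
  DirectSum.lmap fun ij => (homologyMap g ij.1.2).hom.lTensor (L.homology ij.1.1)

lemma homologyMap_kun (g : M ⟶ M') (n : ℤ) (x : HTor.KunnethSum L M n) :
    homologyMap (HomologicalComplex.tensorHom (𝟙 L) g) n (kun L M n x) =
      kun L M' n (mapK L g n x) := by
  have : (homologyMap (HomologicalComplex.tensorHom (𝟙 L) g) n).hom.comp (kun L M n) =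
      (kun L M' n).comp (mapK L g n) := by
    refine DirectSum.linearMap_ext _ fun ij => LinearMap.ext fun t => ?_
    simp only [LinearMap.comp_apply, mapK, DirectSum.lmap_lof]
    rw [kun_lof, kun_lof]
    exact homologyMap_kappa g _ _ _ _ t
  exact LinearMap.congr_fun this x

end Maps

variable (L M : DRing.Cx A)

lemma gmap_incl_injective (n : ℤ) :
    Function.Injective (gmap L (fun j => ((incl M).f j).hom) n) := by
  refine Function.LeftInverse.injective
    (g := gmap L (M := cone M) (M' := M) (fun j => LinearMap.fst A (M.X j) (P M (j + 1))) n)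
    (LinearMap.congr_fun (?_ : (gmap L (M := cone M) (M' := M)
      (fun j => LinearMap.fst A (M.X j) (P M (j + 1))) n).comp
      (gmap L (fun j => ((incl M).f j).hom) n) = LinearMap.id))
  refine linearMap_ext fun i j h a b => ?_
  simp only [LinearMap.comp_apply, LinearMap.id_apply, gmap_ι']
  rfl

lemma gmap_proj_incl (n : ℤ) (c : (HTor.tensorCx L M).X n) :
    gmap L (fun j => ((proj M).f j).hom) n (gmap L (fun j => ((incl M).f j).hom) n c) = 0 := by
  refine LinearMap.congr_fun ((?_ : (gmap L (fun j => ((proj M).f j).hom) n).comp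
    (gmap L (fun j => ((incl M).f j).hom) n) = 0)) c
  refine linearMap_ext fun i j h a b => ?_
  simp only [LinearMap.comp_apply, gmap_ι', LinearMap.zero_apply]
  exact (congrArg (fun z => ι' L (quot M) i j n h z) (TensorProduct.tmul_zero _ a)).trans
    (map_zero _)

lemma proj_surjective (n : ℤ) (v : (HTor.tensorCx L (quot M)).X n) :
    ∃ u, gmap L (fun j => ((proj M).f j).hom) n u = v := by
  refine ⟨gmap L (M := quot M) (M' := cone M) (fun j => LinearMap.inr A (M.X j) (P M (j + 1))) n v,
    LinearMap.congr_fun (?_ : (gmap L (fun j => ((proj M).f j).hom) n).comp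
      (gmap L (M := quot M) (M' := cone M) (fun j => LinearMap.inr A (M.X j) (P M (j + 1))) n) =
      LinearMap.id) v⟩
  refine linearMap_ext fun i j h a b => ?_
  simp only [LinearMap.comp_apply, LinearMap.id_apply, gmap_ι']
  rfl

lemma exists_incl_eq (n : ℤ) (u : (HTor.tensorCx L (cone M)).X n)
    (hu : gmap L (fun j => ((proj M).f j).hom) n u = 0) :
    ∃ w, gmap L (fun j => ((incl M).f j).hom) n w = u := by
  refine ⟨gmap L (M := cone M) (M' := M) (fun j => LinearMap.fst A (M.X j) (P M (j + 1))) n u, ?_⟩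
  have key : (gmap L (fun j => ((incl M).f j).hom) n).comp
      (gmap L (M := cone M) (M' := M) (fun j => LinearMap.fst A (M.X j) (P M (j + 1))) n) +
      (gmap L (M := quot M) (M' := cone M) (fun j => LinearMap.inr A (M.X j) (P M (j + 1))) n).comp
        (gmap L (fun j => ((proj M).f j).hom) n) = LinearMap.id := by
    refine linearMap_ext fun i j h a b => ?_
    simp only [LinearMap.add_apply, LinearMap.comp_apply, LinearMap.id_apply, gmap_ι']
    rw [← map_add, ← TensorProduct.tmul_add]
    refine congrArg (fun z : (cone M).X j => ι' L (cone M) i j n h (a ⊗ₜ z)) ?_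
    obtain ⟨m, q⟩ := b
    exact Prod.ext (add_zero m) (zero_add q)
  have := LinearMap.congr_fun key u
  rwa [LinearMap.add_apply, LinearMap.comp_apply, LinearMap.comp_apply, hu, map_zero, add_zero] at this

/-- `⊕_{i + j = n} Z^i L ⊗ P^{j+1}` -/
abbrev V (n : ℤ) : Type u :=
  DirectSum (HTor.Antidiag n) fun ij => Z L ij.1.1 ⊗[A] P M (ij.1.2 + 1)

/-- lift to `(L ⊗ cone M)^n` -/
noncomputable def liftU (n : ℤ) : V L M n →ₗ[A] (HTor.tensorCx L (cone M)).X n :=
  DirectSum.toModule A (HTor.Antidiag n) _ fun ij => ((ij.1.1.negOnePow : ℤ) : A) •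
    (ι' L (cone M) ij.1.1 ij.1.2 n ij.2).comp
      (TensorProduct.map (Z L ij.1.1).subtype (LinearMap.inr A (M.X ij.1.2) (P M (ij.1.2 + 1))))

/-- the cycle of `L ⊗ M` it bounds -/
noncomputable def bd (n n' : ℤ) (hn : n + 1 = n') :
    V L M n →ₗ[A] Z (HTor.tensorCx L M) n' :=
  DirectSum.toModule A (HTor.Antidiag n) _ fun ij =>
    TensorProduct.lift ((pair L M ij.1.1 (ij.1.2 + 1) n' (by have := ij.2; omega)).compl₂
      (gP M (ij.1.2 + 1)))

/-- its class in `⊕ H^i L ⊗ H^j M` -/
noncomputable def sigma (n n' : ℤ) (hn : n + 1 = n') :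
    V L M n →ₗ[A] HTor.KunnethSum L M n' :=
  DirectSum.toModule A (HTor.Antidiag n) _ fun ij =>
    (DirectSum.lof A (HTor.Antidiag n')
      (fun kl => L.homology kl.1.1 ⊗[A] M.homology kl.1.2)
      ⟨(ij.1.1, ij.1.2 + 1), show ij.1.1 + (ij.1.2 + 1) = n' by have := ij.2; omega⟩).comp
      (TensorProduct.map (cl L ij.1.1) (piP M (ij.1.2 + 1)))

/-- its class in `⊕ H^i L ⊗ H^j (quot M)` -/
noncomputable def rho (n : ℤ) : V L M n →ₗ[A] HTor.KunnethSum L (quot M) n :=
  DirectSum.toModule A (HTor.Antidiag n) _ fun ij => ((ij.1.1.negOnePow : ℤ) : A) •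
    (DirectSum.lof A (HTor.Antidiag n)
      (fun kl => L.homology kl.1.1 ⊗[A] (quot M).homology kl.1.2) ij).comp
      (psi L (quot M) (quot_d M) ij.1.1 ij.1.2)

lemma gmap_proj_liftU (n : ℤ) (v : V L M n) :
    ∃ h : gmap L (fun j => ((proj M).f j).hom) n (liftU L M n v) ∈ Z (HTor.tensorCx L (quot M)) n,
      cl _ n ⟨_, h⟩ = kun L (quot M) n (rho L M n v) := by
  induction v using DirectSum.induction_on with
  | zero => exact ⟨by simp, by simpa using (cl_congr _ _ (y := 0) (by simp)).trans (map_zero (cl _ n))⟩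
  | add a b ha hb =>
    obtain ⟨hza, ea⟩ := ha
    obtain ⟨hzb, eb⟩ := hb
    have hs : gmap L (fun j => ((proj M).f j).hom) n (liftU L M n (a + b)) ∈
        Z (HTor.tensorCx L (quot M)) n := by rw [map_add, map_add]; exact add_mem hza hzb
    refine ⟨hs, ?_⟩
    refine (cl_congr _ _ (y := ⟨_, hza⟩ + ⟨_, hzb⟩) (by simp)).trans ?_
    rw [map_add, map_add, map_add, ea, eb]
  | of ij t =>
    have e : gmap L (fun j => ((proj M).f j).hom) n (liftU L M n (DirectSum.of _ ij t)) =
        ((ij.1.1.negOnePow : ℤ) : A) • ι' L (quot M) ij.1.1 ij.1.2 n ij.2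
          ((Z L ij.1.1).subtype.rTensor ((quot M).X ij.1.2) t) := by
      rw [← DirectSum.lof_eq_of A]
      simp only [liftU, DirectSum.toModule_lof, LinearMap.smul_apply, LinearMap.comp_apply, map_smul]
      congr 1
      induction t using TensorProduct.induction_on with
      | zero => simp
      | add a b ha hb => simp only [map_add, ha, hb]
      | tmul a b => rw [TensorProduct.map_tmul, gmap_ι']; rfl
    obtain ⟨hz, ez⟩ := ι'_sub_mem L (quot M) (quot_d M) ij.1.1 ij.1.2 n ij.2 t
    refine ⟨by rw [e]; exact Submodule.smul_mem _ _ hz, ?_⟩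
    refine (cl_congr _ _ (y := ((ij.1.1.negOnePow : ℤ) : A) • ⟨_, hz⟩) e).trans ?_
    rw [map_smul, ← ez, ← DirectSum.lof_eq_of A, rho, DirectSum.toModule_lof, LinearMap.smul_apply,
      map_smul]
    exact congrArg _ (kun_lof L (quot M) n ij _).symm

lemma d_liftU (n n' : ℤ) (hn : n + 1 = n') (v : V L M n) :
    (HTor.tensorCx L (cone M)).d n n' (liftU L M n v) =
      gmap L (fun j => ((incl M).f j).hom) n' (bd L M n n' hn v).1 := by
  induction v using DirectSum.induction_on with
  | zero => simp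
  | add a b ha hb => simp [ha, hb]
  | of ij t =>
    rw [← DirectSum.lof_eq_of A]
    simp only [liftU, bd, DirectSum.toModule_lof, LinearMap.smul_apply, LinearMap.comp_apply,
      map_smul]
    induction t using TensorProduct.induction_on with
    | zero => simp
    | add a b ha hb => simp only [map_add, Submodule.coe_add, smul_add, ha, hb]
    | tmul a b =>
      rw [TensorProduct.map_tmul, TensorProduct.lift.tmul, LinearMap.compl₂_apply, pair_val,
        gmap_ι']
      have hd := d_ι' L (cone M) ij.1.1 ij.1.2 n ij.2 n' hn ((Z L ij.1.1).subtype a)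
        (LinearMap.inr A (M.X ij.1.2) (P M (ij.1.2 + 1)) b)
      refine (congrArg (((ij.1.1.negOnePow : ℤ) : A) • ·) hd).trans ?_
      rw [show L.d ij.1.1 (ij.1.1 + 1) ((Z L ij.1.1).subtype a) = 0 from a.2,
        TensorProduct.zero_tmul, map_zero, zero_add, Int.cast_smul_eq_zsmul A, smul_smul,
        ← Units.val_mul, Int.units_mul_self, Units.val_one, one_smul]
      refine congrArg (fun z : (cone M).X (ij.1.2 + 1) =>
        ι' L (cone M) ij.1.1 (ij.1.2 + 1) n' _ (a.1 ⊗ₜ z)) ?_
      refine (cone_d_apply M ij.1.2 0 b).trans ?_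
      rw [map_zero, zero_add]
      rfl

lemma cl_bd (n n' : ℤ) (hn : n + 1 = n') (v : V L M n) :
    cl (HTor.tensorCx L M) n' (bd L M n n' hn v) = kun L M n' (sigma L M n n' hn v) := by
  induction v using DirectSum.induction_on with
  | zero => simp
  | add a b ha hb => simp [ha, hb]
  | of ij t =>
    rw [← DirectSum.lof_eq_of A]
    simp only [bd, sigma, DirectSum.toModule_lof, LinearMap.comp_apply]
    induction t using TensorProduct.induction_on with
    | zero => simp
    | add a b ha hb => simp only [map_add, ha, hb]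
    | tmul a b =>
      rw [TensorProduct.map_tmul, TensorProduct.lift.tmul, LinearMap.compl₂_apply, ← cl_gP]
      exact ((kun_lof L M n' ⟨(ij.1.1, ij.1.2 + 1),
          show ij.1.1 + (ij.1.2 + 1) = n' by have := ij.2; omega⟩
          (cl L ij.1.1 a ⊗ₜ[A] cl M (ij.1.2 + 1) (gP M (ij.1.2 + 1) b))).trans
        (kappa_cl L M ij.1.1 (ij.1.2 + 1) n' _ a (gP M (ij.1.2 + 1) b))).symm

lemma rho_surjective (n : ℤ) : Function.Surjective (rho L M n) := by
  intro x
  induction x using DirectSum.induction_on with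
  | zero => exact ⟨0, map_zero _⟩
  | add a b ha hb =>
    obtain ⟨a', rfl⟩ := ha
    obtain ⟨b', rfl⟩ := hb
    exact ⟨a' + b', map_add _ _ _⟩
  | of ij t =>
    obtain ⟨w, hw⟩ := psi_surjective L (quot M) (quot_d M) ij.1.1 ij.1.2 t
    refine ⟨DirectSum.lof A (HTor.Antidiag n) (fun kl => Z L kl.1.1 ⊗[A] P M (kl.1.2 + 1)) ij
      (((ij.1.1.negOnePow : ℤ) : A) • w), ?_⟩
    simp only [rho, DirectSum.toModule_lof, LinearMap.smul_apply, LinearMap.comp_apply, map_smul,
      smul_smul, ← Int.cast_mul, ← Units.val_mul, Int.units_mul_self, Units.val_one, Int.cast_one,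
      one_smul]
    exact (congrArg _ hw).trans (DirectSum.lof_eq_of A _ _ _ _)

lemma sigma_surjective (n n' : ℤ) (hn : n + 1 = n') : Function.Surjective (sigma L M n n' hn) := by
  intro x
  induction x using DirectSum.induction_on with
  | zero => exact ⟨0, map_zero _⟩
  | add a b ha hb =>
    obtain ⟨a', rfl⟩ := ha
    obtain ⟨b', rfl⟩ := hb
    exact ⟨a' + b', map_add _ _ _⟩
  | of kl t =>
    obtain ⟨⟨i, k⟩, h⟩ := kl
    obtain ⟨j, rfl⟩ : ∃ j, k = j + 1 := ⟨k - 1, by omega⟩
    obtain ⟨w, hw⟩ := TensorProduct.map_surjective (cl_surjective L i) (piP_surjective M (j + 1)) t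
    refine ⟨DirectSum.lof A (HTor.Antidiag n) (fun kl => Z L kl.1.1 ⊗[A] P M (kl.1.2 + 1))
      ⟨(i, j), show i + j = n by omega⟩ w, ?_⟩
    simp only [sigma, DirectSum.toModule_lof, LinearMap.comp_apply]
    exact (congrArg _ hw).trans (DirectSum.lof_eq_of A _ _ _ _)

/-- inverse of `toH` for the free complex -/
noncomputable def toHinv (j : ℤ) : (quot M).homology j →ₗ[A] P M (j + 1) :=
  (LinearEquiv.ofBijective (toH (quot M) (quot_d M) j)
    (toH_bijective (quot M) (quot_d M) j)).symm.toLinearMap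

lemma toHinv_toH (j : ℤ) (q : P M (j + 1)) : toHinv M j (toH (quot M) (quot_d M) j q) = q :=
  (LinearEquiv.ofBijective (toH (quot M) (quot_d M) j)
    (toH_bijective (quot M) (quot_d M) j)).symm_apply_apply q

/-- `⊕ H^i L ⊗ H^j (quot M) → ⊕ H^i L ⊗ H^{j+1} M` -/
noncomputable def S (n n' : ℤ) (hn : n + 1 = n') :
    HTor.KunnethSum L (quot M) n →ₗ[A] HTor.KunnethSum L M n' :=
  DirectSum.toModule A (HTor.Antidiag n) _ fun ij => ((ij.1.1.negOnePow : ℤ) : A) •
    (DirectSum.lof A (HTor.Antidiag n')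
      (fun kl => L.homology kl.1.1 ⊗[A] M.homology kl.1.2)
      ⟨(ij.1.1, ij.1.2 + 1), show ij.1.1 + (ij.1.2 + 1) = n' by have := ij.2; omega⟩).comp
      (((piP M (ij.1.2 + 1)).comp (toHinv M ij.1.2)).lTensor (L.homology ij.1.1))

lemma S_rho (n n' : ℤ) (hn : n + 1 = n') (v : V L M n) :
    S L M n n' hn (rho L M n v) = sigma L M n n' hn v := by
  induction v using DirectSum.induction_on with
  | zero => simp
  | add a b ha hb => simp [ha, hb]
  | of ij t =>
    rw [← DirectSum.lof_eq_of A]
    simp only [S, rho, sigma, DirectSum.toModule_lof, LinearMap.smul_apply, LinearMap.comp_apply,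
      map_smul, smul_smul, ← Int.cast_mul, ← Units.val_mul, Int.units_mul_self, Units.val_one,
      Int.cast_one, one_smul]
    congr 1
    induction t using TensorProduct.induction_on with
    | zero => simp
    | add a b ha hb => simp only [map_add, ha, hb]
    | tmul a b =>
      exact congrArg (fun z : P M (ij.1.2 + 1) => cl L ij.1.1 a ⊗ₜ[A] piP M (ij.1.2 + 1) z)
        (toHinv_toH M ij.1.2 b)

lemma S_mapK_proj (n n' : ℤ) (hn : n + 1 = n') (y : HTor.KunnethSum L (cone M) n) :
    S L M n n' hn (mapK L (proj M) n y) = 0 := by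
  induction y using DirectSum.induction_on with
  | zero => simp
  | add a b ha hb => simp [ha, hb]
  | of ij t =>
    rw [← DirectSum.lof_eq_of A]
    simp only [mapK, DirectSum.lmap_lof, S, DirectSum.toModule_lof, LinearMap.smul_apply,
      LinearMap.comp_apply]
    induction t using TensorProduct.induction_on with
    | zero => simp
    | add a b ha hb => simp only [map_add, smul_add, ha, hb, add_zero]
    | tmul a b =>
      simp only [LinearMap.lTensor_tmul, LinearMap.comp_apply]
      rw [homologyMap_proj, toHinv_toH, piP_syz]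
      simp

/-- the image of the Künneth map is killed in `H^n (L ⊗ cone M)` -/
lemma ker_eq_range (n : ℤ) :
    LinearMap.ker (homologyMap (HomologicalComplex.tensorHom (𝟙 L) (incl M)) n).hom =
      LinearMap.range (kun L M n) := by
  refine le_antisymm (fun a ha => ?_) ?_
  · obtain ⟨c₀, rfl⟩ := cl_surjective _ n a
    change homologyMap (HomologicalComplex.tensorHom (𝟙 L) (incl M)) n (cl _ n c₀) = 0 at ha
    rw [map_cl] at ha
    obtain ⟨u, hu⟩ := (cl_eq_zero_iff _ _ _).1 ha
    simp only [tensorHom_apply] at hu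
    have hz : gmap L (fun j => ((proj M).f j).hom) (n - 1) u ∈
        Z (HTor.tensorCx L (quot M)) (n - 1) := by
      have hn : n - 1 + 1 = n := by omega
      rw [mem_Z, hn, ← tensorHom_apply]
      refine (LinearMap.congr_fun (congrArg ModuleCat.Hom.hom
        ((HomologicalComplex.tensorHom (𝟙 L) (proj M)).comm (n - 1) n)) u).trans ?_
      change (HomologicalComplex.tensorHom (𝟙 L) (proj M)).f n _ = 0
      refine ((congrArg _ hu).trans (tensorHom_apply L (proj M) n _)).trans ?_
      exact gmap_proj_incl L M n c₀.1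
    obtain ⟨X, hX⟩ := (kun_bijective_of_zero L (quot M) (quot_d M) (quot_flat M) (n - 1)).2
      (cl _ _ ⟨_, hz⟩)
    obtain ⟨v, rfl⟩ := rho_surjective L M (n - 1) X
    obtain ⟨hv, ev⟩ := gmap_proj_liftU L M (n - 1) v
    rw [← ev, eq_comm, ← sub_eq_zero, ← map_sub] at hX
    obtain ⟨w, hw⟩ := (cl_eq_zero_iff _ _ _).1 hX
    obtain ⟨w', rfl⟩ := proj_surjective L M (n - 1 - 1) w
    obtain ⟨u'', hu''⟩ := exists_incl_eq L M (n - 1)
      (u - liftU L M (n - 1) v - (HTor.tensorCx L (cone M)).d (n - 1 - 1) (n - 1) w') (by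
      rw [map_sub, map_sub, ← tensorHom_apply L (proj M) (n - 1)
        ((HTor.tensorCx L (cone M)).d (n - 1 - 1) (n - 1) w')]
      refine (congrArg _ ((LinearMap.congr_fun (congrArg ModuleCat.Hom.hom
        ((HomologicalComplex.tensorHom (𝟙 L) (proj M)).comm (n - 1 - 1) (n - 1))) w').symm.trans
        ((congrArg _ (tensorHom_apply L (proj M) _ w')).trans hw))).trans ?_
      exact sub_self _)
    have e : c₀.1 - (bd L M (n - 1) n (by omega) v).1 =
        (HTor.tensorCx L M).d (n - 1) n u'' := by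
      apply gmap_incl_injective L M n
      rw [map_sub, ← tensorHom_apply L (incl M) n ((HTor.tensorCx L M).d (n - 1) n u''),
        ← d_liftU L M (n - 1) n (by omega) v]
      refine Eq.trans ?_ (LinearMap.congr_fun (congrArg ModuleCat.Hom.hom
        ((HomologicalComplex.tensorHom (𝟙 L) (incl M)).comm (n - 1) n)) u'')
      change _ = (HTor.tensorCx L (cone M)).d (n - 1) n _
      refine Eq.trans ?_ (congrArg _ (tensorHom_apply L (incl M) (n - 1) u'')).symm
      rw [hu'', map_sub, map_sub, hu]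
      have := LinearMap.congr_fun (congrArg ModuleCat.Hom.hom
        ((HTor.tensorCx L (cone M)).d_comp_d (n - 1 - 1) (n - 1) n)) w'
      exact (sub_zero _).symm.trans (congrArg (_ - ·) this.symm)
    refine ⟨sigma L M (n - 1) n (by omega) v, ?_⟩
    rw [← cl_bd, eq_comm, ← sub_eq_zero, ← map_sub]
    exact (cl_eq_zero_iff _ _ _).2 ⟨u'', e.symm⟩
  · rintro _ ⟨x, rfl⟩
    obtain ⟨v, rfl⟩ := sigma_surjective L M (n - 1) n (by omega) x
    rw [← cl_bd L M (n - 1) n (by omega) v]
    change homologyMap (HomologicalComplex.tensorHom (𝟙 L) (incl M)) n (cl _ n _) = 0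
    rw [map_cl]
    exact (cl_eq_zero_iff _ _ _).2
      ⟨liftU L M (n - 1) v, (d_liftU L M _ _ _ v).trans (tensorHom_apply L _ _ _).symm⟩

/-- classes of `L ⊗ cone M` coming from `L ⊗ M` die in `⊕ H^i L ⊗ P^{j+1}` -/
lemma mapK_proj_eq_zero (n : ℤ) (y : HTor.KunnethSum L (cone M) n)
    (a : (HTor.tensorCx L M).homology n)
    (h : homologyMap (HomologicalComplex.tensorHom (𝟙 L) (incl M)) n a = kun L (cone M) n y) :
    mapK L (proj M) n y = 0 := by
  apply (kun_bijective_of_zero L (quot M) (quot_d M) (quot_flat M) n).1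
  rw [← homologyMap_kun, ← h, map_zero]
  obtain ⟨c, rfl⟩ := cl_surjective _ n a
  rw [map_cl, map_cl]
  refine (cl_congr _ _ (y := 0) ?_).trans (map_zero _)
  simp only [tensorHom_apply]
  exact gmap_proj_incl L M n c.1

/-- injectivity of the Künneth map follows from its surjectivity for the cone -/
lemma kun_injective (n n' : ℤ) (hn : n + 1 = n')
    (hsurj : Function.Surjective (kun L (cone M) n)) : Function.Injective (kun L M n') := by
  refine (injective_iff_map_eq_zero _).2 fun x hx => ?_
  obtain ⟨v, rfl⟩ := sigma_surjective L M n n' hn x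
  rw [← cl_bd] at hx
  obtain ⟨c', hc'⟩ := (cl_eq_zero_iff' _ hn _).1 hx
  have hzm : liftU L M n v - gmap L (fun j => ((incl M).f j).hom) n c' ∈
      Z (HTor.tensorCx L (cone M)) n := by
    rw [mem_Z, hn, map_sub, d_liftU L M n n' hn v, ← hc', ← tensorHom_apply L (incl M),
      ← tensorHom_apply L (incl M), sub_eq_zero]
    exact (LinearMap.congr_fun (congrArg ModuleCat.Hom.hom
      ((HomologicalComplex.tensorHom (𝟙 L) (incl M)).comm n n')) c').symm
  obtain ⟨y, hy⟩ := hsurj (cl _ n ⟨_, hzm⟩)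
  have e : kun L (quot M) n (rho L M n v) = kun L (quot M) n (mapK L (proj M) n y) := by
    rw [← homologyMap_kun, hy, map_cl]
    obtain ⟨hv, ev⟩ := gmap_proj_liftU L M n v
    rw [← ev]
    refine cl_congr _ _ ?_
    simp only [tensorHom_apply, map_sub]
    refine (sub_zero _).symm.trans (congrArg (_ - ·) ?_)
    exact (gmap_proj_incl L M n c').symm
  have := (kun_bijective_of_zero L (quot M) (quot_d M) (quot_flat M) n).1 e
  rw [← S_rho, this, S_mapK_proj]

end Groth.HTorLib
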