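import Groth.Agent.HTopHyper.HTor.TorKer
import Groth.Agent.HTopHyper.HTor.FiltColim
import Mathlib.Algebra.Category.ModuleCat.Monoidal.Closed
import Mathlib.Algebra.Category.ModuleCat.Monoidal.Symmetric

/-!
Tor commutes with filtered colimits in both variables.
-/

set_option autoImplicit false
set_option backward.isDefEq.respectTransparency false

universe u

open CategoryTheory CategoryTheory.Limits MonoidalCategory

namespace Groth.HTorLib

variable {A : Type u} [CommRing A] {J : Type u} [SmallCategory J] [IsFiltered J]

lemma preservesColimitsOfShape_forget_free :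
    PreservesColimitsOfShape J (forget (ModuleCat.{u} A) ⋙ ModuleCat.free A) := by
  have : (ModuleCat.free A).IsLeftAdjoint := (ModuleCat.adj A).isLeftAdjoint
  infer_instance

/-- `Tor` in the first variable, computed with a fixed resolution -/
noncomputable def torFirstCx {N : ModuleCat.{u} A} (P : ProjectiveResolution N) :
    ModuleCat.{u} A ⥤ ChainComplex (ModuleCat.{u} A) ℕ where
  obj M := (((tensoringLeft (ModuleCat.{u} A)).obj M).mapHomologicalComplex _).obj P.complex
  map f := (NatTrans.mapHomologicalComplex ((tensoringLeft (ModuleCat.{u} A)).map f) _).app P.complex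
  map_id M := by
    ext i : 1
    change (((tensoringLeft (ModuleCat.{u} A)).map (𝟙 M)).app (P.complex.X i)) = _
    rw [CategoryTheory.Functor.map_id]; rfl
  map_comp f g := by
    ext i : 1
    change (((tensoringLeft (ModuleCat.{u} A)).map (f ≫ g)).app (P.complex.X i)) = _
    rw [CategoryTheory.Functor.map_comp]; rfl

theorem preservesColimitsOfShape_tor_flip (p : ℕ) (N : ModuleCat.{u} A) :
    PreservesColimitsOfShape J ((CategoryTheory.Tor (ModuleCat.{u} A) p).flip.obj N) := by
  obtain ⟨P⟩ := (inferInstance : HasProjectiveResolution N).out
  let e : (CategoryTheory.Tor (ModuleCat.{u} A) p).flip.obj N ≅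
      torFirstCx P ⋙ HomologicalComplex.homologyFunctor _ _ p :=
    NatIso.ofComponents (fun M => P.isoLeftDerivedObj ((tensoringLeft (ModuleCat.{u} A)).obj M) p)
      fun {M M'} f => by
        change (NatTrans.leftDerived ((tensoringLeft (ModuleCat.{u} A)).map f) p).app N ≫ _ = _
        rw [ProjectiveResolution.leftDerived_app_eq _ P, Category.assoc, Category.assoc,
          Iso.inv_hom_id, Category.comp_id]
        rfl
  have h : ∀ i, PreservesColimitsOfShape J
      (torFirstCx P ⋙ HomologicalComplex.eval _ (ComplexShape.down ℕ) i) := fun i => by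
    have : PreservesColimitsOfShape J (tensorRight (P.complex.X i)) :=
      preservesColimitsOfShape_of_natIso (BraidedCategory.tensorLeftIsoTensorRight (P.complex.X i))
    exact inferInstanceAs (PreservesColimitsOfShape J (tensorRight (P.complex.X i)))
  have := preservesColimitsOfShape_homology (torFirstCx P) h p
  exact preservesColimitsOfShape_of_natIso e.symm

/-- the canonical free cover as a natural transformation -/
noncomputable def coverNat (G : ModuleCat.{u} A ⥤ ModuleCat.{u} A) :
    G ⋙ forget (ModuleCat.{u} A) ⋙ ModuleCat.free A ⟶ G where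
  app X := ModuleCat.ofHom (Finsupp.linearCombination A id : ((G.obj X) →₀ A) →ₗ[A] G.obj X)
  naturality X Y f := by
    refine ModuleCat.hom_ext (Finsupp.lhom_ext fun x c => ?_)
    change Finsupp.linearCombination A id
        (Finsupp.mapDomain (G.map f).hom (Finsupp.single x c)) =
      G.map f (Finsupp.linearCombination A id (Finsupp.single x c))
    rw [Finsupp.mapDomain_single, Finsupp.linearCombination_single, Finsupp.linearCombination_single,
      map_smul]
    rfl

/-- functorial syzygies -/
noncomputable def syzF : ℕ → (ModuleCat.{u} A ⥤ ModuleCat.{u} A)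
  | 0 => 𝟭 _
  | k + 1 => kerFun (coverNat (syzF k))

/-- the functorial free terms -/
noncomputable abbrev freeF (k : ℕ) : ModuleCat.{u} A ⥤ ModuleCat.{u} A :=
  syzF k ⋙ forget (ModuleCat.{u} A) ⋙ ModuleCat.free A

/-- functorial free syzygies of a module -/
noncomputable def fSyz (N : ModuleCat.{u} A) : Syz A where
  N k := (syzF k).obj N
  P k := (freeF k).obj N
  proj k := inferInstanceAs (Module.Projective A (((syzF k).obj N) →₀ A))
  u k := (LinearMap.ker ((coverNat (syzF k)).app N).hom).subtype
  π k := ((coverNat (syzF k)).app N).hom
  inj k := Subtype.val_injective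
  surj k := fun x => by
    refine ⟨Finsupp.single x 1, ?_⟩
    change Finsupp.linearCombination A id (Finsupp.single x 1) = x
    simp
  exact k := LinearMap.exact_subtype_ker_map _

lemma preservesColimitsOfShape_syzF : ∀ k, PreservesColimitsOfShape J (syzF (A := A) k)
  | 0 => inferInstanceAs (PreservesColimitsOfShape J (𝟭 (ModuleCat.{u} A)))
  | k + 1 => by
    have := preservesColimitsOfShape_syzF k
    have := preservesColimitsOfShape_forget_free (A := A) (J := J)
    exact preservesColimitsOfShape_kerFun (coverNat (syzF k))

/-- the functorial resolution -/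
noncomputable def resF : ModuleCat.{u} A ⥤ ChainComplex (ModuleCat.{u} A) ℕ where
  obj N := (fSyz N).cx
  map {N N'} f :=
    { f := fun k => (freeF k).map f
      comm' := fun i j (h : j + 1 = i) => by
        subst h
        rw [Syz.cx_d, Syz.cx_d]
        refine ModuleCat.hom_ext (LinearMap.ext fun x => ?_)
        refine (congrArg Subtype.val (ConcreteCategory.congr_hom
          ((coverNat (syzF (j + 1))).naturality f) x)) }
  map_id N := by ext k : 1; exact (freeF k).map_id N
  map_comp f g := by ext k : 1; exact (freeF k).map_comp f g

theorem preservesColimitsOfShape_tor (p : ℕ) (M : ModuleCat.{u} A) :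
    PreservesColimitsOfShape J ((CategoryTheory.Tor (ModuleCat.{u} A) p).obj M) := by
  let F := (tensoringLeft (ModuleCat.{u} A)).obj M
  let e : (CategoryTheory.Tor (ModuleCat.{u} A) p).obj M ≅
      (resF ⋙ F.mapHomologicalComplex (ComplexShape.down ℕ)) ⋙
        HomologicalComplex.homologyFunctor _ _ p :=
    NatIso.ofComponents (fun N => (fSyz N).resolution.isoLeftDerivedObj F p) fun {N N'} f => by
      refine ProjectiveResolution.isoLeftDerivedObj_hom_naturality f (fSyz N).resolution
        (fSyz N').resolution (resF.map f) ?_ F p
      exact (coverNat (syzF 0)).naturality f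
  have h : ∀ i, PreservesColimitsOfShape J ((resF ⋙ F.mapHomologicalComplex (ComplexShape.down ℕ)) ⋙
      HomologicalComplex.eval _ (ComplexShape.down ℕ) i) := fun i => by
    have := preservesColimitsOfShape_syzF (A := A) (J := J) i
    have := preservesColimitsOfShape_forget_free (A := A) (J := J)
    exact inferInstanceAs (PreservesColimitsOfShape J (freeF i ⋙ tensorLeft M))
  have := preservesColimitsOfShape_homology _ h p
  exact preservesColimitsOfShape_of_natIso e.symm

end Groth.HTorLib
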