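import Mathlib.Algebra.Homology.BifunctorShift
import Mathlib.Algebra.Order.Ring.Int
import Mathlib.Data.Int.Interval

/-!
An additive functor commutes with the total complex of a bicomplex with finitely many nonzero terms
in each degree.
-/

universe v v' u u'

open CategoryTheory CategoryTheory.Limits HomologicalComplex

namespace Groth.HTorGeom

local notation "up" => ComplexShape.up ℤ

variable {C₁ C₂ C₁' C₂' : Type*} [Category C₁] [Category C₂] [Category C₁'] [Category C₂']
  [HasZeroMorphisms C₁] [HasZeroMorphisms C₂] [HasZeroMorphisms C₁'] [HasZeroMorphisms C₂']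
  {D : Type u} [Category.{v} D] [Preadditive D] {D' : Type u'} [Category.{v'} D'] [Preadditive D']
  (F : C₁ ⥤ C₂ ⥤ D) [F.PreservesZeroMorphisms] [∀ X, (F.obj X).PreservesZeroMorphisms]
  (F' : C₁' ⥤ C₂' ⥤ D') [F'.PreservesZeroMorphisms] [∀ X, (F'.obj X).PreservesZeroMorphisms]
  (G : D ⥤ D') [G.Additive]
  (K : CochainComplex C₁ ℤ) (L : CochainComplex C₂ ℤ) (K' : CochainComplex C₁' ℤ)
  (L' : CochainComplex C₂' ℤ)
  [HasMapBifunctor K L F up] [HasMapBifunctor K' L' F' up]

/-- The comparison map on one degree of the total complexes. -/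
noncomputable def totDeg (η : ∀ i j, (F'.obj (K'.X i)).obj (L'.X j) ⟶ G.obj ((F.obj (K.X i)).obj (L.X j)))
    (n : ℤ) : (mapBifunctor K' L' F' up).X n ⟶ G.obj ((mapBifunctor K L F up).X n) :=
  mapBifunctorDesc fun i j h => η i j ≫ G.map (ιMapBifunctor K L F up i j n h)

theorem ι_totDeg (η : ∀ i j, (F'.obj (K'.X i)).obj (L'.X j) ⟶ G.obj ((F.obj (K.X i)).obj (L.X j)))
    (i j n : ℤ) (h : i + j = n) :
    ιMapBifunctor K' L' F' up i j n h ≫ totDeg F F' G K L K' L' η n =
      η i j ≫ G.map (ιMapBifunctor K L F up i j n h) :=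
  ι_mapBifunctorDesc _ _ _ _

open Classical in
/-- The projection to a summand. -/
noncomputable def totProj (i n : ℤ) :
    (mapBifunctor K L F up).X n ⟶ (F.obj (K.X i)).obj (L.X (n - i)) :=
  mapBifunctorDesc fun i' j' h => if hi : i' = i then
    eqToHom (by have h' : i' + j' = n := h; obtain rfl : j' = n - i := by omega
                subst hi; rfl) else 0

theorem ι_totProj_self (i n : ℤ) (h : i + (n - i) = n) :
    ιMapBifunctor K L F up i (n - i) n h ≫ totProj F K L i n = 𝟙 _ := by
  rw [totProj, ι_mapBifunctorDesc, dif_pos rfl, eqToHom_refl]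

theorem ι_totProj_ne (i i' j' n : ℤ) (h : i' + j' = n) (hne : i' ≠ i) :
    ιMapBifunctor K L F up i' j' n h ≫ totProj F K L i n = 0 := by
  rw [totProj, ι_mapBifunctorDesc, dif_neg hne]

variable {F K L} in
theorem sum_totProj_ι (a c n : ℤ)
    (hz : ∀ i j, i + j = n → ¬(a ≤ i ∧ i ≤ c) → IsZero ((F.obj (K.X i)).obj (L.X j))) :
    ∑ i ∈ Finset.Icc a c, totProj F K L i n ≫ ιMapBifunctor K L F up i (n - i) n
      (show i + (n - i) = n by omega) = 𝟙 _ := by
  refine mapBifunctor.hom_ext fun i' j' h => ?_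
  rw [Category.comp_id, Preadditive.comp_sum]
  by_cases hi : a ≤ i' ∧ i' ≤ c
  · have h' : i' + j' = n := h
    obtain rfl : j' = n - i' := by omega
    rw [Finset.sum_eq_single i']
    · rw [← Category.assoc, ι_totProj_self, Category.id_comp]
    · intro i _ hne
      rw [← Category.assoc, ι_totProj_ne F K L i i' _ n h (Ne.symm hne), zero_comp]
    · exact fun hn => absurd (Finset.mem_Icc.2 hi) hn
  · exact (hz i' j' h hi).eq_of_src _ _

/-- The comparison map is invertible if it is so on all summands and only finitely many of them are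
nonzero. -/
theorem isIso_totDeg
    (η : ∀ i j, (F'.obj (K'.X i)).obj (L'.X j) ⟶ G.obj ((F.obj (K.X i)).obj (L.X j))) (n a c : ℤ)
    (hη : ∀ i, a ≤ i → i ≤ c → IsIso (η i (n - i)))
    (hz : ∀ i j, i + j = n → ¬(a ≤ i ∧ i ≤ c) → IsZero ((F.obj (K.X i)).obj (L.X j)))
    (hz' : ∀ i j, i + j = n → ¬(a ≤ i ∧ i ≤ c) → IsZero ((F'.obj (K'.X i)).obj (L'.X j))) :
    IsIso (totDeg F F' G K L K' L' η n) := by
  classical
  let ψ : ∀ i, G.obj ((mapBifunctor K L F up).X n) ⟶ (mapBifunctor K' L' F' up).X n := fun i =>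
    if hi : a ≤ i ∧ i ≤ c then
      haveI := hη i hi.1 hi.2
      G.map (totProj F K L i n) ≫ inv (η i (n - i)) ≫
        ιMapBifunctor K' L' F' up i (n - i) n (show i + (n - i) = n by omega)
    else 0
  refine ⟨∑ i ∈ Finset.Icc a c, ψ i, mapBifunctor.hom_ext fun i' j' h => ?_, ?_⟩
  · rw [Category.comp_id, ← Category.assoc, ι_totDeg, Preadditive.comp_sum]
    by_cases hi : a ≤ i' ∧ i' ≤ c
    · have h' : i' + j' = n := h
      obtain rfl : j' = n - i' := by omega
      haveI := hη i' hi.1 hi.2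
      rw [Finset.sum_eq_single i']
      · rw [show ψ i' = _ from dif_pos hi, Category.assoc, ← Functor.map_comp_assoc, ι_totProj_self,
          CategoryTheory.Functor.map_id, Category.id_comp, IsIso.hom_inv_id_assoc]
      · intro i hi' hne
        rw [show ψ i = _ from dif_pos (Finset.mem_Icc.1 hi'), Category.assoc, ← Functor.map_comp_assoc,
          ι_totProj_ne F K L i i' _ n h (Ne.symm hne), Functor.map_zero, zero_comp, comp_zero]
      · exact fun hn => absurd (Finset.mem_Icc.2 hi) hn
    · exact (hz' i' j' h hi).eq_of_src _ _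
  · rw [Preadditive.sum_comp, ← CategoryTheory.Functor.map_id, ← sum_totProj_ι a c n hz, Functor.map_sum]
    refine Finset.sum_congr rfl fun i hi => ?_
    haveI := hη i (Finset.mem_Icc.1 hi).1 (Finset.mem_Icc.1 hi).2
    rw [show ψ i = _ from dif_pos (Finset.mem_Icc.1 hi), Category.assoc, Category.assoc, ι_totDeg,
      IsIso.inv_hom_id_assoc, ← Functor.map_comp]

end Groth.HTorGeom
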