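import Groth.Agent.HTopHyper.HTor.Kunneth
import Mathlib.RingTheory.Flat.Basic

/-!
The Künneth map is bijective when the second complex has flat terms and zero differential.
-/

set_option autoImplicit false
set_option backward.isDefEq.respectTransparency false

universe u

open CategoryTheory CategoryTheory.Limits HomologicalComplex
open scoped TensorProduct

namespace Groth.HTorLib

variable {A : Type u} [CommRing A] (L Q : DRing.Cx A) (hd : ∀ j, Q.d j (j + 1) = 0)

include hd in
lemma d_ι'_of_zero (i i' j n n' : ℤ) (h : i + j = n) (hi : i + 1 = i') (hn : n + 1 = n')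
    (t : L.X i ⊗[A] Q.X j) :
    (HTor.tensorCx L Q).d n n' (ι' L Q i j n h t) =
      ι' L Q i' j n' (by omega) ((L.d i i').hom.rTensor (Q.X j) t) := by
  subst hi
  induction t using TensorProduct.induction_on with
  | zero => simp
  | add a b ha hb => simp [ha, hb]
  | tmul a b =>
    rw [d_ι' L Q i j n h n' hn, hd j]
    simp

include hd in
lemma dec_d (n n' : ℤ) (hn : n + 1 = n') (u : (HTor.tensorCx L Q).X n) (ij : HTor.Antidiag n)
    (i' : ℤ) (hi : ij.1.1 + 1 = i') :
    dec L Q n' ((HTor.tensorCx L Q).d n n' u)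
        ⟨(i', ij.1.2), show i' + ij.1.2 = n' by have := ij.2; omega⟩ =
      (L.d ij.1.1 i').hom.rTensor (Q.X ij.1.2) (dec L Q n u ij) := by
  obtain ⟨⟨i₀, j₀⟩, h₀⟩ := ij
  induction u using tensorCx_induction with
  | h0 => simp
  | hadd a b ha hb => simp [DirectSum.add_apply, ha, hb]
  | hι i j h a b =>
    rw [d_ι'_of_zero L Q hd i (i + 1) j n n' h rfl hn]
    change decHom L Q n' (ι' L Q (i + 1) j n' _ _) _ = _
    rw [decHom_ι']
    conv_rhs => arg 2; arg 1; change decHom L Q n (ι' L Q i j n h (a ⊗ₜ b))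
    rw [decHom_ι']
    by_cases he : i = i₀ ∧ j = j₀
    · obtain ⟨rfl, rfl⟩ := he
      obtain rfl : i + 1 = i' := hi
      rw [DirectSum.lof_eq_of, DirectSum.lof_eq_of, DirectSum.of_eq_same, DirectSum.of_eq_same]
    · rw [DirectSum.lof_eq_of, DirectSum.lof_eq_of, DirectSum.of_eq_of_ne, DirectSum.of_eq_of_ne,
        map_zero]
      · exact fun e => he ⟨(congrArg (fun x : HTor.Antidiag n => x.1.1) e).symm,
          (congrArg (fun x : HTor.Antidiag n => x.1.2) e).symm⟩
      · intro e
        have e1 := congrArg (fun x : HTor.Antidiag n' => x.1.1) e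
        have e2 := congrArg (fun x : HTor.Antidiag n' => x.1.2) e
        simp only at e1 e2
        simp only at hi
        exact he ⟨by omega, e2.symm⟩

include hd in
lemma mem_Z_of_zero (j : ℤ) (q : Q.X j) : q ∈ Z Q j := by
  simp [mem_Z, hd j]

/-- with zero differential, everything is a class -/
noncomputable def toH (j : ℤ) : Q.X j →ₗ[A] Q.homology j :=
  (cl Q j).comp (LinearMap.codRestrict (Z Q j) LinearMap.id (mem_Z_of_zero Q hd j))

lemma toH_bijective (j : ℤ) : Function.Bijective (toH Q hd j) := by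
  refine ⟨(injective_iff_map_eq_zero _).2 fun q hq => ?_, fun a => ?_⟩
  · obtain ⟨w, hw⟩ := (cl_eq_zero_iff Q j _).1 hq
    have h0 : ∀ (i : ℤ) (_ : i + 1 = j) (w : Q.X i), Q.d i j w = 0 := by
      rintro i rfl w; simp [hd i]
    exact (show q = Q.d (j - 1) j w from hw.symm).trans (h0 _ (by omega) w)
  · obtain ⟨x, rfl⟩ := cl_surjective Q j a
    exact ⟨x.1, rfl⟩

/-- `Z^i(L) ⊗ Q^j → H^i(L) ⊗ H^j(Q)` -/
noncomputable def psi (i j : ℤ) : Z L i ⊗[A] Q.X j →ₗ[A] L.homology i ⊗[A] Q.homology j :=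
  TensorProduct.map (cl L i) (toH Q hd j)

lemma psi_surjective (i j : ℤ) : Function.Surjective (psi L Q hd i j) :=
  TensorProduct.map_surjective (cl_surjective L i) (toH_bijective Q hd j).2

lemma ι'_sub_mem (i j n : ℤ) (h : i + j = n) (w : Z L i ⊗[A] Q.X j) :
    ∃ hz : ι' L Q i j n h ((Z L i).subtype.rTensor (Q.X j) w) ∈ Z (HTor.tensorCx L Q) n,
      kappa L Q i j n h (psi L Q hd i j w) = cl _ n ⟨_, hz⟩ := by
  induction w using TensorProduct.induction_on with
  | zero => exact ⟨by simp, by simpa using (map_zero (cl _ n)).symm.trans (cl_congr _ _ (by simp))⟩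
  | tmul a b =>
    refine ⟨pair_mem L Q i j n h a ⟨b, mem_Z_of_zero Q hd j b⟩, ?_⟩
    exact kappa_cl L Q i j n h a ⟨b, mem_Z_of_zero Q hd j b⟩
  | add a b ha hb =>
    obtain ⟨hza, ea⟩ := ha
    obtain ⟨hzb, eb⟩ := hb
    have hs : ι' L Q i j n h ((Z L i).subtype.rTensor (Q.X j) (a + b)) ∈
        Z (HTor.tensorCx L Q) n := by
      rw [map_add, map_add]; exact add_mem hza hzb
    refine ⟨hs, ?_⟩
    rw [map_add, map_add, ea, eb, ← map_add]
    exact cl_congr _ _ (by simp)

include hd in
theorem kun_bijective_of_zero (hflat : ∀ j, Module.Flat A (Q.X j)) (n : ℤ) :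
    Function.Bijective (kun L Q n) := by
  classical
  have hex : ∀ (i i' j : ℤ) (_ : i + 1 = i'),
      Function.Exact ((Z L i).subtype.rTensor (Q.X j)) ((L.d i i').hom.rTensor (Q.X j)) := by
    rintro i i' j rfl
    have := hflat j
    exact Module.Flat.rTensor_exact (M := Q.X j) (LinearMap.exact_subtype_ker_map _)
  constructor
  · refine (injective_iff_map_eq_zero _).2 fun x hx => ?_
    choose y hy using fun ij : HTor.Antidiag n => psi_surjective L Q hd ij.1.1 ij.1.2 (x ij)
    choose hz hcl using fun ij : HTor.Antidiag n =>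
      ι'_sub_mem L Q hd ij.1.1 ij.1.2 n ij.2 (y ij)
    have hsum : kun L Q n x = cl _ n (∑ ij ∈ x.support, ⟨_, hz ij⟩) := by
      conv_lhs => rw [← DirectSum.sum_support_of x]
      rw [map_sum, map_sum]
      refine Finset.sum_congr rfl fun ij _ => ?_
      rw [← hcl ij, hy ij]
      exact kun_lof L Q n ij (x ij)
    rw [hsum] at hx
    obtain ⟨v, hv⟩ := (cl_eq_zero_iff _ _ _).1 hx
    refine DFinsupp.ext fun ij => ?_
    by_cases hij : ij ∈ x.support
    swap
    · exact DFinsupp.notMem_support_iff.1 hij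
    obtain ⟨⟨i, j⟩, h⟩ := ij
    have e1 := dec_d L Q hd (n - 1) n (by omega) v ⟨(i - 1, j), show i - 1 + j = n - 1 by omega⟩
      i (show i - 1 + 1 = i by omega)
    rw [show (HTor.tensorCx L Q).d (n - 1) n v = _ from hv, Submodule.coe_sum, map_sum,
      DirectSum.sum_apply] at e1
    simp only at e1
    have e2 : (L.d (i - 1) i).hom.rTensor (Q.X j)
        (dec L Q (n - 1) v ⟨(i - 1, j), show i - 1 + j = n - 1 by omega⟩) =
        (Z L i).subtype.rTensor (Q.X j) (y ⟨(i, j), h⟩) := by
      rw [← e1, Finset.sum_eq_single (⟨(i, j), h⟩ : HTor.Antidiag n)]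
      · change decHom L Q n (ι' L Q i j n h _) _ = _
        rw [decHom_ι', DirectSum.lof_eq_of, DirectSum.of_eq_same]
      · intro kl _ hne
        change decHom L Q n (ι' L Q kl.1.1 kl.1.2 n kl.2 _) _ = _
        rw [decHom_ι', DirectSum.lof_eq_of, DirectSum.of_eq_of_ne]
        exact fun e => hne e.symm
      · exact fun hni => absurd hij hni
    -- factor `d` through the cycles
    let d' : L.X (i - 1) →ₗ[A] Z L i :=
      LinearMap.codRestrict (Z L i) (L.d (i - 1) i).hom (d_mem_Z L (i - 1) i)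
    have hinj : Function.Injective ((Z L i).subtype.rTensor (Q.X j)) := by
      have := hflat j
      exact Module.Flat.rTensor_preserves_injective_linearMap _ Subtype.val_injective
    have e3 : y ⟨(i, j), h⟩ = d'.rTensor (Q.X j)
        (dec L Q (n - 1) v ⟨(i - 1, j), show i - 1 + j = n - 1 by omega⟩) := hinj (by
      rw [← e2, ← LinearMap.rTensor_comp_apply]
      rfl)
    rw [← hy ⟨(i, j), h⟩, e3]
    change psi L Q hd i j (d'.rTensor (Q.X j) _) = _
    generalize dec L Q (n - 1) v ⟨(i - 1, j), show i - 1 + j = n - 1 by omega⟩ = t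
    induction t using TensorProduct.induction_on with
    | zero => simp
    | add a b ha hb => simp only [map_add, ha, hb]; simp
    | tmul a b =>
      simp only [psi, LinearMap.rTensor_tmul, TensorProduct.map_tmul]
      rw [show cl L i (d' a) = 0 from cl_d L (i - 1) i a]
      simp
  · intro a
    obtain ⟨u, rfl⟩ := cl_surjective _ n a
    let R : Submodule A ((HTor.tensorCx L Q).X n) :=
      Submodule.map (Z (HTor.tensorCx L Q) n).subtype
        (Submodule.comap (cl (HTor.tensorCx L Q) n) (LinearMap.range (kun L Q n)))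
    suffices hR : u.1 ∈ R by
      obtain ⟨z, hz, e⟩ := Submodule.mem_map.1 hR
      obtain ⟨x, hx⟩ := Submodule.mem_comap.1 hz
      exact ⟨x, hx.trans (cl_congr _ _ e)⟩
    have hu : u.1 = ∑ ij ∈ (dec L Q n u.1).support,
        ι' L Q ij.1.1 ij.1.2 n ij.2 (dec L Q n u.1 ij) := by
      conv_lhs => rw [← (dec L Q n).symm_apply_apply u.1, ← DirectSum.sum_support_of (dec L Q n u.1)]
      rw [map_sum]
      exact Finset.sum_congr rfl fun ij _ => undec_lof L Q n ij _
    rw [hu]
    refine Submodule.sum_mem R fun ij _ => ?_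
    have h0 : (L.d ij.1.1 (ij.1.1 + 1)).hom.rTensor (Q.X ij.1.2) (dec L Q n u.1 ij) = 0 := by
      rw [← dec_d L Q hd n (n + 1) rfl u.1 ij (ij.1.1 + 1) rfl, mem_Z.1 u.2, map_zero]
      rfl
    obtain ⟨w, hw⟩ := (hex _ _ _ rfl _).1 h0
    rw [← hw]
    obtain ⟨hz, e⟩ := ι'_sub_mem L Q hd ij.1.1 ij.1.2 n ij.2 w
    refine Submodule.mem_map.2 ⟨⟨_, hz⟩, Submodule.mem_comap.2 ?_, rfl⟩
    rw [← e]
    exact ⟨_, kun_lof L Q n ij _⟩

end Groth.HTorLib
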